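import Cfsg.Agent.UGT.N2S.KF
import Cfsg.Agent.UGT.LTF.Comp
import Cfsg.Agent.UGT.Res.KFacts
import Cfsg.Agent.UGT.ThEL34.Acts

/-!
# The world `L₂(q)`, `Aₙ`, `L₃(4)`, `X` core-free: basics

* `World X`: `|G : X| ≤ 2`, `O(C(t)) = 1` for the involutions `t` of `X`, the types, and `one`: at most one `L` of
  type `L₃(4)` for each pair `(x, a)`.
* `TT x a L`: a triple of type `L₃(4)`.
* `honest`: the facts for a triple with `O(L) = 1`.
* `mem_core`: `O(C_L(x)) ≤ O(C(x))`.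
-/

set_option autoImplicit false

open Cfsg Subgroup
open Cfsg.Agent.SignalizersComponents Cfsg.Agent.Lib
open Cfsg.Agent.SignalizersComponents.IntrinsicBasic
open Cfsg.Agent.SignalizersComponents.PLayerAut
open Cfsg.Agent.Intrinsic.Basic Cfsg.Agent.Intrinsic.Cen Cfsg.Agent.Intrinsic.Diag
open Cfsg.Agent.McLLyComp.Act
open Cfsg.Agent.UGT.Triple Cfsg.Agent.UGT.TriBase Cfsg.Agent.UGT.Res.Base
open Cfsg.Agent.UGT.Iface (Bar IsL2 IsL34 IsAltOdd)
open Cfsg.Agent.UGT.LTF.Defs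
open Cfsg.Agent.UGT.LTF.Basics (img mem_img img_ne)
open Cfsg.Agent.UGT.ThE.Base (IsT comm_of_mem L_conj L_conj' K_le_M K_conj)
open Cfsg.Agent.UGT.ThEL34 (Acts exists_acts acts_one_iff acts_one acts_of_mem acts_coe acts_norm)
open scoped commutatorElement

namespace Cfsg.Agent.UGT.N2S

universe u

section iso

theorem isL34_congr {A B : Type*} [Group A] [Group B] (e : A ≃* B) (h : IsL34 A) : IsL34 B := by
  obtain ⟨F, i, j, hF, ⟨f⟩⟩ := h
  exact ⟨F, i, j, hF, ⟨e.symm.trans f⟩⟩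

end iso

variable {G : Type u} [Group G]

/-- The types of the triples. -/
def Typ (G : Type u) [Group G] : Prop := ∀ {x c : G} {J : Subgroup G}, IsTriple x c J →
  IsL2 (Bar J) ∨ IsAltOdd (Bar J) ∨ IsL34 (Bar J)

/-- The world. -/
structure World (X : Subgroup G) : Prop where
  mul : ∀ {g h : G}, g ∉ X → h ∉ X → g * h ∈ X
  cf : ∀ {t : G}, t ∈ X → orderOf t = 2 → core (centralizer ({t} : Set G)) = ⊥
  typ : Typ G
  one : ∀ {x a : G} {L L' : Subgroup G}, IsTriple x a L → IsTriple x a L' → IsL34 (Bar L) →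
    IsL34 (Bar L') → L = L'

/-- The K-facts. -/
structure KFs : Prop where
  k34 : K34.{u}
  k2 : K2.{u}
  kA : KA.{u}
  kE : K34E.{u}
  kC : ∀ (D : Type u) [Group D], IsAltOdd D → ∀ z : D, (∀ d, z * d = d * z) → z = 1

/-- A triple of type `L₃(4)`. -/
structure TT (x a : G) (L : Subgroup G) : Prop extends IsTriple x a L where
  l34 : IsL34 (Bar L)

theorem TT.cj {x a : G} {L : Subgroup G} (T : TT x a L) (g : G) :
    TT (g * x * g⁻¹) (g * a * g⁻¹) (cj g L) :=
  { toIsTriple := T.toIsTriple.cj g, l34 := isL34_congr (cjQuot g L) T.l34 }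

section world

variable {X : Subgroup G} {x a : G} {L : Subgroup G}

theorem World.conj (W : World X) {g b : G} (hb : b ∈ X) : g * b * g⁻¹ ∈ X := by
  by_cases hg : g ∈ X
  · exact mul_mem (mul_mem hg hb) (inv_mem hg)
  · refine W.mul (fun h => hg ?_) (fun h => hg (by simpa using inv_mem h))
    have := mul_mem h (inv_mem hb)
    rwa [mul_inv_cancel_right] at this

/-- `C(x) ∩ C(a)` normalizes `L` -/
theorem World.norm (W : World X) (T : TT x a L) {k : G} (hkx : k * x = x * k) (hka : k * a = a * k) :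
    k ∈ normalizer (L : Set G) := by
  have h1 := T.cj k
  rw [hkx, hka, mul_inv_cancel_right, mul_inv_cancel_right] at h1
  rw [mem_normalizer_iff_cj]
  exact (W.one T.toIsTriple h1.toIsTriple T.l34 h1.l34).symm

variable [Finite G]

omit [Finite G] in
theorem World.not_mem (W : World X) (T : IsTriple x a L) : x ∉ X := by
  intro hx
  obtain ⟨d, hd, -, hf⟩ := T.bad
  rw [W.cf hx T.invx, mem_bot] at hd
  rw [hd] at hf
  exact hf (fixes_one L)

theorem World.core_bot (W : World X) (T : IsTriple x a L) (ha : a ∈ X) : core L = ⊥ := by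
  rw [eq_bot_iff, ← W.cf ha T.inva]
  exact T.comp.core_le_core

theorem oddC' (T : IsTriple x a L) : OddC (act L ⟨x, T.x_mem⟩) (img x a L) := by
  refine ⟨?_, ?_, ?_⟩
  · refine Odd.of_dvd_nat ?_ (card_map_dvd _ _)
    refine Odd.of_dvd_nat (odd_card_core (centralizer ({x} : Set G))) ?_
    have h1 := card_comap_dvd_of_injective
      (core (centralizer ({x} : Set G)) ⊓ centralizer ({a} : Set G))
      (normalizer (L : Set G)).subtype (subtype_injective _)
    exact h1.trans (card_dvd_of_le inf_le_left)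
  · intro e he
    obtain ⟨d, hd, h1, h2, rfl⟩ := mem_img.mp he
    rw [← act_mul, ← act_mul]
    apply act_congr
    exact comm_c (core_le _ h1)
  · intro l hl e he
    obtain ⟨d, hd, h1, h2, rfl⟩ := mem_img.mp he
    obtain ⟨m, hm, hmx, rfl⟩ := Res.KFacts.exists_lift T hl
    have hma : m * a = a * m := comm_c (T.comp.le hm)
    rw [← act_of_mem hm, ← act_mul, ← act_inv, ← act_mul]
    refine mem_img.mpr ⟨m * d * m⁻¹, _, ?_, ?_, rfl⟩
    · exact conj_core (mem_c hmx) h1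
    · have := mul_mem (mul_mem (mem_c hma) (mem_c h2)) (inv_mem (mem_c hma))
      exact comm_c this

theorem KFs.ft (K : KFs.{u}) (T : TT x a L) :
    FT (act L ⟨x, T.x_mem⟩) ∧ CE.L34.Facts3 (act L ⟨x, T.x_mem⟩) :=
  K.k34 _ T.l34 _ (Res.KFacts.act_sq T.toIsTriple) _ (oddC' T.toIsTriple) (img_ne T.toIsTriple)

/-- the centre of `L / O(L)` is trivial for all triples -/
theorem KFs.center (K : KFs.{u}) (W : Typ G) (T : IsTriple x a L) :
    ∀ z : Bar L, (∀ d, z * d = d * z) → z = 1 := by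
  rcases W T with h | h | h
  · exact K.k2.cen _ h
  · exact K.kC _ h
  · exact LTF.Comp.center_of_ft (K.ft ⟨T, h⟩).1

end world

/-! ### honest `L` -/

section honest

variable [Finite G] {X : Subgroup G} {x a : G} {L : Subgroup G}

/-- `L ≅ L / O(L)` -/
noncomputable def barEquiv (hc : core L = ⊥) : ↥L ≃* Bar L :=
  MulEquiv.ofBijective (QuotientGroup.mk' (oddCore ↥L)) ⟨by
    intro y z h
    apply Subtype.ext
    exact LTF.Basics.mk_inj hc y.2 z.2 h, QuotientGroup.mk'_surjective _⟩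

omit [Finite G] in
theorem isL34_self (T : TT x a L) (hc : core L = ⊥) : IsL34 ↥L := isL34_congr (barEquiv hc).symm T.l34

/-- the image of `O(C(x)) ∩ C(a)` in `Aut L` -/
theorem exists_E (T : IsTriple x a L) {ξ : MulAut L} (hξ : Acts L x ξ) : ∃ E : Subgroup (MulAut L),
    OddC ξ E ∧ E ≠ ⊥ ∧ ∀ e, e ∈ E ↔ ∃ d ∈ core (centralizer ({x} : Set G)), d * a = a * d ∧ Acts L d e := by
  obtain ⟨N, hN⟩ : ∃ N, N = core (centralizer ({x} : Set G)) ⊓ centralizer ({a} : Set G) := ⟨_, rfl⟩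
  have hNL : N ≤ normalizer (L : Set G) := by
    rw [hN]
    exact fun d hd => T.mem_normalizer_of_core hd.1 hd.2
  obtain ⟨E, hE⟩ : ∃ E, E = (N.subgroupOf (normalizer (L : Set G))).map L.normalizerMonoidHom := ⟨_, rfl⟩
  have hmem : ∀ e, e ∈ E ↔ ∃ d ∈ N, Acts L d e := by
    intro e
    rw [hE]
    constructor
    · rintro ⟨d, hd, rfl⟩
      exact ⟨d, hd, acts_norm d⟩
    · rintro ⟨d, hd, h⟩
      exact ⟨⟨d, hNL hd⟩, hd, (acts_norm ⟨d, hNL hd⟩).uniq h⟩
  refine ⟨E, ⟨?_, ?_, ?_⟩, ?_, fun e => ?_⟩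
  · rw [hE]
    refine Odd.of_dvd_nat ?_ (card_map_dvd _ _)
    rw [Nat.card_congr (subgroupOfEquivOfLe hNL).toEquiv, hN]
    exact Odd.of_dvd_nat (odd_card_core (centralizer ({x} : Set G))) (card_dvd_of_le inf_le_left)
  · intro e he
    obtain ⟨d, hd, h⟩ := (hmem e).mp he
    rw [hN] at hd
    exact h.comm hξ (comm_c (core_le _ hd.1))
  · intro l hl e he
    obtain ⟨d, hd, h⟩ := (hmem e).mp he
    have hlx : x * (l : G) = l * x := (hξ.fix_iff l).mp hl
    have hla : (l : G) ∈ centralizer ({a} : Set G) := T.comp.le l.2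
    refine (hmem _).mpr ⟨(l : G) * d * (l : G)⁻¹, ?_, ((acts_coe l).mul h).mul (acts_coe l).inv⟩
    rw [hN] at hd ⊢
    exact ⟨conj_core (mem_c hlx.symm) hd.1, (centralizer ({a} : Set G)).mul_mem
      ((centralizer ({a} : Set G)).mul_mem hla hd.2) ((centralizer ({a} : Set G)).inv_mem hla)⟩
  · intro hbot
    obtain ⟨d, hd, hda, hf⟩ := T.bad
    obtain ⟨e, he⟩ := exists_acts (T.mem_normalizer_of_core hd hda)
    have h1 : e ∈ E := (hmem e).mpr ⟨d, by rw [hN]; exact ⟨hd, hda⟩, he⟩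
    rw [hbot, mem_bot] at h1
    rw [h1, acts_one_iff] at he
    exact hf (fixes_self' fun l hl => mem_centralizer_singleton_iff.mpr (comm_of_mem hl he))
  · rw [hmem, hN]
    constructor
    · rintro ⟨d, hd, h⟩
      exact ⟨d, hd.1, comm_c hd.2, h⟩
    · rintro ⟨d, hd, hda, h⟩
      exact ⟨d, ⟨hd, mem_c hda⟩, h⟩

/-- the facts on `x` acting on `L` -/
theorem KFs.honest (K : KFs.{u}) (T : TT x a L) (hc : core L = ⊥) :
    ∃ ξ : MulAut L, Acts L x ξ ∧ FT ξ ∧ CE.L34.Facts3 ξ := by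
  obtain ⟨ξ, hξ⟩ := exists_acts T.x_mem
  obtain ⟨E, hE, hne, -⟩ := exists_E T.toIsTriple hξ
  exact ⟨ξ, hξ, K.k34 _ (isL34_self T hc) ξ (hξ.sq (sq_of_order T.invx)) E hE hne⟩

omit [Finite G] in
theorem comm_of_fixes (h : core L = ⊥) {f : G} (hf : Fixes f L) : f ∈ centralizer (L : Set G) := by
  rw [mem_centralizer_iff]
  intro l hl
  have h1 := hf.2 l hl
  rw [h, mem_bot, commutatorElement_eq_one_iff_mul_comm] at h1
  exact h1.symm

omit [Finite G] in
theorem fixes_of_comm {f : G} (hf : f ∈ centralizer (L : Set G)) : Fixes f L :=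
  fixes_self' fun _ hl => mem_c (mem_centralizer_iff.mp hf _ hl)

omit [Finite G] in
theorem mem_K (T : IsTriple x a L) : a ∈ centralizer (L : Set G) := by
  rw [mem_centralizer_iff]
  intro l hl
  exact comm_c (T.comp.le hl)

theorem cen_eq (T : IsTriple x a L) (h : core L = ⊥) {w : G} (hw : w * w = 1) (hwa : w * a = a * w)
    (hf : w ∈ centralizer (L : Set G)) : cen L w = L := by
  obtain ⟨-, h2⟩ := isComp_cen T.comp (mem_c hwa) hw (fixes_of_comm hf)
  rwa [h, sup_bot_eq] at h2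

/-- an involution of `C_L(x)` -/
theorem KFs.exists_b (K : KFs.{u}) (T : TT x a L) (hc : core L = ⊥) :
    ∃ b ∈ L, orderOf b = 2 ∧ b * x = x * b := by
  obtain ⟨ξ, hξ, F, F3⟩ := K.honest T hc
  obtain ⟨s, hs1, hs2, hs3⟩ := F3.exs
  refine ⟨s, s.2, ?_, ((hξ.fix_iff s).mp hs3).symm⟩
  refine orderOf_eq_prime ?_ (fun h => hs2 (Subtype.ext h))
  rw [pow_two]
  exact congrArg Subtype.val hs1

/-- the involutions of `C_L(x)` invert `O(C_L(x))` -/
theorem KFs.inv (K : KFs.{u}) (T : TT x a L) (hc : core L = ⊥) {b y : G} (hb : b ∈ L)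
    (hbb : b * b = 1) (hb1 : b ≠ 1) (hbx : b * x = x * b) (hy : y ∈ L) (hy3 : y ^ 3 = 1)
    (hyx : y * x = x * y) : b * y * b⁻¹ = y⁻¹ := by
  obtain ⟨ξ, hξ, F, F3⟩ := K.honest T hc
  exact congrArg Subtype.val (F.inv ⟨b, hb⟩ ⟨y, hy⟩ (Subtype.ext hbb) (fun h => hb1 (congrArg Subtype.val h))
    ((hξ.fix_iff _).mpr hbx.symm) (Subtype.ext hy3) ((hξ.fix_iff _).mpr hyx.symm))

/-- `O(C_L(x)) ≤ O(C(x))` -/
theorem KFs.mem_core (K : KFs.{u}) (T : TT x a L) (hc : core L = ⊥) {z : G} (hz : z ∈ L)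
    (hz3 : z ^ 3 = 1) (hzx : z * x = x * z) : z ∈ core (centralizer ({x} : Set G)) := by
  obtain ⟨ξ, hξ, F, F3⟩ := K.honest T hc
  obtain ⟨b, hb, hb2, hbx⟩ := K.exists_b T hc
  obtain ⟨d, hd, hda, hf⟩ := T.bad
  have hdL := T.mem_normalizer_of_core hd hda
  have hbb := sq_of_order hb2
  have hb1 := ne_one_of_order hb2
  have hdx : d * x = x * d := comm_c (core_le _ hd)
  -- `d` acts as `y`
  have hD : ∃ y : L, y ^ 3 = 1 ∧ (y : G) * x = x * y ∧ Acts L d (MulAut.conj y) := by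
    obtain ⟨E, hE, -, hmem⟩ := exists_E T.toIsTriple hξ
    obtain ⟨e, he⟩ := exists_acts hdL
    obtain ⟨y, rfl, hy3, hyx⟩ := F.core E hE e ((hmem e).mpr ⟨d, hd, comm_c hda, he⟩)
    exact ⟨y, hy3, ((hξ.fix_iff y).mp hyx).symm, he⟩
  obtain ⟨y, hy3, hyx, hy⟩ := hD
  have hy3' : (y : G) ^ 3 = 1 := congrArg Subtype.val hy3
  have hy1 : (y : G) ≠ 1 := by
    intro h
    have h1 : y = 1 := Subtype.ext h
    rw [h1, map_one, acts_one_iff] at hy
    exact hf (fixes_of_comm hy)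
  -- `y ∈ O(C(x))`
  have hyc : (y : G) ∈ core (centralizer ({x} : Set G)) := by
    have h4 : d * b * d⁻¹ = y * b * (y : G)⁻¹ := (hy ⟨b, hb⟩).symm
    have h6 : (y : G) * b * (y : G)⁻¹ * b⁻¹ = y * y := by
      have h7 := K.inv T hc hb hbb hb1 hbx y.2 hy3' hyx
      calc (y : G) * b * (y : G)⁻¹ * b⁻¹ = y * (b * y * b⁻¹)⁻¹ := by group
        _ = _ := by rw [h7, inv_inv]
    have h8 : d * (b * d⁻¹ * b⁻¹) ∈ core (centralizer ({x} : Set G)) :=
      mul_mem hd (conj_core (mem_c hbx) (inv_mem hd))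
    have h9 : d * (b * d⁻¹ * b⁻¹) = y * y := by
      calc d * (b * d⁻¹ * b⁻¹) = d * b * d⁻¹ * b⁻¹ := by group
        _ = _ := by rw [h4, h6]
    rw [h9] at h8
    have h10 := mul_mem h8 h8
    have h11 : (y : G) * y * (y * y) = y := by
      calc (y : G) * y * (y * y) = (y : G) ^ 3 * y := by simp only [pow_succ, pow_zero, one_mul, mul_assoc]
        _ = y := by rw [hy3', one_mul]
    rwa [h11] at h10
  have h1 := F.irr y ⟨z, hz⟩ hy3 (fun h => hy1 (congrArg Subtype.val h)) ((hξ.fix_iff y).mpr hyx.symm)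
    (Subtype.ext hz3) ((hξ.fix_iff _).mpr hzx.symm)
  have h2 : closure {w : L | ∃ r, ξ r = r ∧ w = r * y * r⁻¹} ≤
      (core (centralizer ({x} : Set G))).subgroupOf L := by
    rw [closure_le]
    rintro _ ⟨r, hr, rfl⟩
    exact conj_core (mem_c ((hξ.fix_iff r).mp hr).symm) hyc
  exact h2 h1

end honest

end Cfsg.Agent.UGT.N2S
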