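import Cfsg.Agent.UGT.N2S.KF
import Cfsg.Agent.UGT.CE.Facts3
import Cfsg.Agent.UGT.FL34.KF34

/-!
# The K-facts `K34`, `K34E` on `L₃(4)`
-/

set_option autoImplicit false

open Cfsg Subgroup
open Cfsg.Agent.UGT.Iface (IsL34)
open Cfsg.Agent.UGT.FL34
open Cfsg.Agent.LThreeFour Cfsg.Agent.LThreeFour.Dat
open Cfsg.Agent.ONType.Psl (PSL3)
open Cfsg.Agent.SporadicA.FieldFour

namespace Cfsg.Agent.UGT.N2S

universe u

/-- **`K34`** -/
theorem k34 : K34.{u} := fun D _ hD ξ hξ E hE h1 =>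
  ⟨KF.kf34 D hD ξ hξ E hE h1, CE.L34.facts3_of hD hξ hE h1⟩

theorem code_sq : ∀ p : Code, (p.a = 0 ∨ p.a = 1) → p.b = 0 → cmul p p = cone := by decide +kernel

theorem code_mul : ∀ p q : Code, ((p.a = 0 ∨ p.a = 1) ∧ p.b = 0) → ((q.a = 0 ∨ q.a = 1) ∧ q.b = 0) →
    ((cmul p q).a = 0 ∨ (cmul p q).a = 1) ∧ (cmul p q).b = 0 := by decide +kernel

theorem code_inv : ∀ p : Code, ((p.a = 0 ∨ p.a = 1) ∧ p.b = 0) →
    ((cinv p).a = 0 ∨ (cinv p).a = 1) ∧ (cinv p).b = 0 := by decide +kernel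

/-- **`K34E`** -/
theorem k34E : K34E.{u} := by
  rintro D _ ⟨F, _, _, hF, ⟨e1⟩⟩
  obtain ⟨e'⟩ := nonempty_psl_equiv (n := Fin 3) F hF
  obtain ⟨A, -⟩ : ∃ A : Dat D, A = Cfsg.Agent.UGT.FL34.D (e'.trans e1.symm) := ⟨_, rfl⟩
  let E : Subgroup D :=
    { carrier := {g | ∃ p : Code, ((p.a = 0 ∨ p.a = 1) ∧ p.b = 0) ∧ g = A.el p}
      one_mem' := ⟨cone, by decide, A.el_one.symm⟩
      mul_mem' := by
        rintro _ _ ⟨p, hp, rfl⟩ ⟨q, hq, rfl⟩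
        exact ⟨cmul p q, code_mul p q hp hq, A.el_mul p q⟩
      inv_mem' := by
        rintro _ ⟨p, hp, rfl⟩
        exact ⟨cinv p, code_inv p hp, A.el_inv p⟩ }
  refine ⟨E, ?_, ?_⟩
  · have h1 : Nat.card ↥E = Nat.card {p : Code // (p.a = 0 ∨ p.a = 1) ∧ p.b = 0} := by
      symm
      apply Nat.card_eq_of_bijective (fun p => (⟨A.el p.1, p.1, p.2, rfl⟩ : ↥E))
      constructor
      · intro p q hpq
        exact Subtype.ext (A.inj (congrArg Subtype.val hpq))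
      · rintro ⟨_, p, hp, rfl⟩
        exact ⟨⟨p, hp⟩, rfl⟩
    rw [h1, Nat.card_eq_fintype_card]
    decide +kernel
  · rintro _ ⟨p, hp, rfl⟩
    rw [A.el_mul, code_sq p hp.1 hp.2, A.el_one]

end Cfsg.Agent.UGT.N2S
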