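import Cfsg.Agent.UGT.Res.TwoSup
import Cfsg.Agent.UGT.LTF.Wild
import Cfsg.Agent.UGT.L34.Supply

/-!
# Two `L₃(4)`-triples `(x, a, L)`, `(x, a, L')`, `x ∉ X`

* `Q34`: the type `L₃(4)`.
* `P34 G`: the pump-up of a triple of type `L₃(4)` is a triple of type `L₃(4)`, trivial or diagonal.
* `world34`: the world `TwoPair.World G Q34` from `P34 G` and `CFX X`.
* `one34`: `L = L'` if there are no pairs.
-/

set_option autoImplicit false

open Cfsg Subgroup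
open Cfsg.Agent.SignalizersComponents Cfsg.Agent.Lib
open Cfsg.Agent.SignalizersComponents.IntrinsicBasic
open Cfsg.Agent.SignalizersComponents.PLayerAut
open Cfsg.Agent.Intrinsic.Basic Cfsg.Agent.Intrinsic.Cen Cfsg.Agent.Intrinsic.Diag
open Cfsg.Agent.McLLyComp.Act
open Cfsg.Agent.UGT.Triple Cfsg.Agent.UGT.LemG Cfsg.Agent.UGT.PumpGen Cfsg.Agent.UGT.TriBase
open Cfsg.Agent.UGT.Res.Base Cfsg.Agent.UGT.Res.Abel Cfsg.Agent.UGT.Res.KFacts
open Cfsg.Agent.UGT.Res.CoreFree Cfsg.Agent.UGT.Res.WFun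
open Cfsg.Agent.UGT.Res.TwoFacts Cfsg.Agent.UGT.Res.TwoPair
open Cfsg.Agent.UGT.Iface (Bar IsL34)
open Cfsg.Agent.UGT.Res.Hon (CFX)
open Cfsg.Agent.LThreeFour (Dat)
open Cfsg.Agent.SporadicA.FieldFour (F4)
open scoped commutatorElement

namespace Cfsg.Agent.UGT.N2S.OneOut

universe u

section facts

variable {D : Type*} [Group D]

/-- an involution of `L₃(4)` lies in a four-group -/
theorem four_of (A : Dat D) {z : D} (hz : z * z = 1) (h1 : z ≠ 1) :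
    ∃ f, f * f = 1 ∧ f ≠ 1 ∧ f ≠ z ∧ z * f = f * z := by
  obtain ⟨g, hg⟩ := A.invol_conj z h1 hz
  have hz' : z = g⁻¹ * A.x 0 2 1 * g := by rw [← hg]; group
  have hw : ∀ u : F4, A.x 0 2 u * A.x 0 2 u = 1 := fun u => A.x_sq 0 2 (by decide) u
  refine ⟨g⁻¹ * A.x 0 2 F4.w * g, ?_, ?_, ?_, ?_⟩
  · calc g⁻¹ * A.x 0 2 F4.w * g * (g⁻¹ * A.x 0 2 F4.w * g)
        = g⁻¹ * (A.x 0 2 F4.w * A.x 0 2 F4.w) * g := by group
      _ = 1 := by rw [hw]; group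
  · intro h
    have h2 : A.x 0 2 F4.w = 1 := by
      calc A.x 0 2 F4.w = g * (g⁻¹ * A.x 0 2 F4.w * g) * g⁻¹ := by group
        _ = 1 := by rw [h]; group
    rw [← A.el_x02, A.el_eq_one] at h2
    exact absurd (congrArg (fun p => p.c) h2) (by decide)
  · intro h
    rw [hz'] at h
    have h2 : A.x 0 2 F4.w = A.x 0 2 1 := mul_left_cancel (mul_right_cancel h)
    rw [← A.el_x02, ← A.el_x02] at h2
    exact absurd (congrArg (fun p => p.c) (A.inj h2)) (by decide)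
  · rw [hz']
    have h2 : A.x 0 2 1 * A.x 0 2 F4.w = A.x 0 2 F4.w * A.x 0 2 1 := by
      rw [← A.el_x02, ← A.el_x02, A.el_mul, A.el_mul]
      congr 1
    calc g⁻¹ * A.x 0 2 1 * g * (g⁻¹ * A.x 0 2 F4.w * g)
        = g⁻¹ * (A.x 0 2 1 * A.x 0 2 F4.w) * g := by group
      _ = g⁻¹ * (A.x 0 2 F4.w * A.x 0 2 1) * g := by rw [h2]
      _ = _ := by group

/-- the involutions of `L₃(4)` are conjugate -/
theorem cls_of (A : Dat D) {y z : D} (hy : y * y = 1) (hy1 : y ≠ 1) (hz : z * z = 1) (hz1 : z ≠ 1) :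
    ∃ g, g * y * g⁻¹ = z := by
  obtain ⟨g, hg⟩ := A.invol_conj y hy1 hy
  obtain ⟨k, hk⟩ := A.invol_conj z hz1 hz
  refine ⟨k⁻¹ * g, ?_⟩
  calc k⁻¹ * g * y * (k⁻¹ * g)⁻¹ = k⁻¹ * (g * y * g⁻¹) * k := by group
    _ = k⁻¹ * (k * z * k⁻¹) * k := by rw [hg, hk]
    _ = z := by group

end facts

variable {G : Type u} [Group G]

/-- type `L₃(4)` -/
abbrev Q34 (L : Subgroup G) : Prop := IsL34 (Bar L)

/-- The pump-up of a triple of type `L₃(4)` is a triple of type `L₃(4)`, trivial or diagonal. -/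
def P34 (G : Type u) [Group G] : Prop :=
  ∀ {x a c : G} {L : Subgroup G}, IsTriple x a L → IsL34 (Bar L) → orderOf c = 2 → c * a = a * c →
    c * x = x * c → Fixes c L → ∃ N, IsTriple x c N ∧ IsL34 (Bar N) ∧ (cen L c ⊔ core N = N ∨
      (IntrinsicBasic.cj a N ≠ N ∧ cen L c = diag (centralizer ({c} : Set G)) N a))

theorem q34_cj {L : Subgroup G} (g : G) (h : Q34 L) : Q34 (IntrinsicBasic.cj g L) :=
  LTF.Wild.isL34_congr (cjQuot g L) h

variable [Finite G]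

section triple

variable {x a : G} {L : Subgroup G}

omit [Finite G] in
theorem bar_sq {s : G} (hs : s ∈ L) (hss : s * s = 1) :
    (QuotientGroup.mk ⟨s, hs⟩ : Bar L) * QuotientGroup.mk ⟨s, hs⟩ = 1 := by
  rw [← QuotientGroup.mk_mul]
  have : (⟨s, hs⟩ : ↥L) * ⟨s, hs⟩ = 1 := Subtype.ext hss
  rw [this]
  rfl

theorem bar_ne {s : G} (hs : s ∈ L) (ho : orderOf s = 2) :
    (QuotientGroup.mk ⟨s, hs⟩ : Bar L) ≠ 1 := fun h =>
  ne_one_of_order ho (eq_one_of_mem_core_sq ((mk_eq_one_iff hs).mp h) (sq_of_order ho))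

/-- an involution of `L` lies in a four-group of `L` -/
theorem exists_four34 (h34 : IsL34 (Bar L)) {s : G} (hs : s ∈ L) (ho : orderOf s = 2) :
    ∃ f ∈ L, orderOf f = 2 ∧ f ≠ s ∧ s * f = f * s := by
  obtain ⟨A⟩ := LSup.exists_dat h34
  have hss := sq_of_order ho
  obtain ⟨f, hff, hf1, hfs, hsf⟩ := four_of A (bar_sq hs hss) (bar_ne hs ho)
  obtain ⟨⟨c, hc⟩, rfl⟩ := QuotientGroup.mk_surjective f
  have h1 : c⁻¹ * (s * c * s⁻¹) ∈ core L := by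
    have h2 : (QuotientGroup.mk ⟨c, hc⟩ : ↥L ⧸ oddCore ↥L) =
        QuotientGroup.mk ⟨s * c * s⁻¹, mul_mem (mul_mem hs hc) (inv_mem hs)⟩ := by
      have h3 : (⟨s * c * s⁻¹, mul_mem (mul_mem hs hc) (inv_mem hs)⟩ : ↥L) =
          ⟨s, hs⟩ * ⟨c, hc⟩ * ⟨s, hs⟩⁻¹ := rfl
      rw [h3, QuotientGroup.mk_mul, QuotientGroup.mk_mul, QuotientGroup.mk_inv, hsf,
        mul_inv_cancel_right]
    exact (mk_eq_iff _ _).mp h2
  obtain ⟨o, ho', hco⟩ := Intrinsic.Lifting.exists_commute (n := 1) (odd_card_core L)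
    (by rw [pow_one, pow_two]; exact hss) (le_normalizer_core L hs) h1
  have hoL := core_le L ho'
  have hmk : (QuotientGroup.mk ⟨c * o, mul_mem hc hoL⟩ : ↥L ⧸ oddCore ↥L) = QuotientGroup.mk ⟨c, hc⟩ := by
    rw [mk_eq_iff (mul_mem hc hoL) hc]
    have : (c * o)⁻¹ * c = o⁻¹ := by group
    rw [this]
    exact inv_mem ho'
  obtain ⟨d, hd⟩ : ∃ d, d = c * o := ⟨_, rfl⟩
  have hdL : d ∈ L := hd ▸ mul_mem hc hoL
  have hmk' : (QuotientGroup.mk ⟨d, hdL⟩ : ↥L ⧸ oddCore ↥L) = QuotientGroup.mk ⟨c, hc⟩ := by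
    rw [← hmk]
    congr 1
    exact Subtype.ext hd
  rw [← hmk'] at hff hf1 hfs
  obtain ⟨n, h2, h3, h4⟩ := exists_inv_pow (L := L) hdL ((mk_eq_one_iff (mul_mem hdL hdL)).mp hff)
    fun h => hf1 ((mk_eq_one_iff hdL).mpr h)
  refine ⟨d ^ n, h2, h3, fun h => hfs ?_, ?_⟩
  · rw [mk_eq_iff hdL hs]
    rwa [h] at h4
  · have h5 : Commute s d := hd ▸ hco
    exact (h5.pow_right n).eq

/-- an involution of `L` fixing `L` is trivial -/
theorem simp34 (h34 : IsL34 (Bar L)) {l : G} (hl : l ∈ L) (hll : l * l = 1) (hf : Fixes l L) :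
    l = 1 := by
  obtain ⟨A⟩ := LSup.exists_dat h34
  have h1 := (act_eq_one_iff (le_normalizer hl)).mpr hf
  rw [act_of_mem hl] at h1
  have h2 : (QuotientGroup.mk ⟨l, hl⟩ : ↥L ⧸ oddCore ↥L) = 1 :=
    A.conj_injective (by rw [h1, map_one])
  exact eq_one_of_mem_core_sq ((mk_eq_one_iff hl).mp h2) hll

/-- the involutions of `L` are conjugate if `O(L) = 1` -/
theorem conj34 (h34 : IsL34 (Bar L)) (hb : core L = ⊥) {f g : G} (hf : f ∈ L) (hg : g ∈ L)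
    (hfo : orderOf f = 2) (hgo : orderOf g = 2) : ∃ l ∈ L, l * f * l⁻¹ = g := by
  obtain ⟨A⟩ := LSup.exists_dat h34
  obtain ⟨l, hl⟩ := cls_of A (bar_sq hf (sq_of_order hfo)) (bar_ne hf hfo)
    (bar_sq hg (sq_of_order hgo)) (bar_ne hg hgo)
  obtain ⟨⟨l, hlL⟩, rfl⟩ := QuotientGroup.mk_surjective l
  refine ⟨l, hlL, ?_⟩
  have h1 : (QuotientGroup.mk ⟨l * f * l⁻¹, mul_mem (mul_mem hlL hf) (inv_mem hlL)⟩ : Bar L) =
      QuotientGroup.mk ⟨g, hg⟩ := hl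
  exact LTF.Basics.mk_inj hb _ _ h1

/-- **the world of the triples of type `L₃(4)`** -/
theorem world34 (hP : P34 G)
    (hB : ∀ v : G, orderOf v = 2 → HasBProperty ↥(centralizer ({v} : Set G)))
    (hD : ∀ {x a : G} {L₁ L₂ F : Subgroup G}, Tri Q34 x a L₁ → Tri Q34 x a L₂ → L₁ ≠ L₂ →
      IsElementaryAbelian 2 F → 8 ≤ Nat.card ↥F → a ∈ F → (∀ f ∈ F, f ∈ L₂ ∨ a * f ∈ L₂) →
      ∀ u ∈ F, u ≠ 1 → ∀ v ∈ F, v ≠ 1 → u ≠ v → DTriv u v) :
    World G Q34 where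
  Qcj g h := q34_cj g h
  ex {x a L} T := by
    obtain ⟨e, he, ho, hc⟩ := LTF.Basics.exists_inv (N := L) (LTF.Basics.isPGroup_zpowers T.invx)
      (zpowers_le.mpr T.x_mem) T.comp.even
    exact ⟨e, he, ho, (hc x (mem_zpowers x)).symm⟩
  four T hs ho := exists_four34 T.q hs ho
  simp T hl hll hf := simp34 T.q hl hll hf
  pump T hc hca hcx hf := by
    obtain ⟨N, S, hq, hor⟩ := hP T.toIsTriple T.q hc hca hcx hf
    exact ⟨N, ⟨S, hq⟩, hor⟩
  conj T hb hf hg hfo hgo := conj34 T.q hb hf hg hfo hgo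
  B := hB
  D := hD

/-- the core-free case -/
theorem world34_cfx (hP : P34 G)
    (hB : ∀ v : G, orderOf v = 2 → HasBProperty ↥(centralizer ({v} : Set G))) {X : Subgroup G}
    (C : CFX X) : World G Q34 :=
  world34 hP hB fun _ _ _ hF _ _ _ _ hu hu1 _ hv hv1 huv =>
    Res.TwoSup.dtriv_of_cfx C (order_of_el hF hu hu1) (order_of_el hF hv hv1)
      (order_of_el hF (mul_mem hu hv) (Res.TwoSup.mul_ne hF hu huv))

/-- **At most one `L` of type `L₃(4)` for each pair `(x, a)`.** -/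
theorem one34 (W : World G Q34) (h0 : ∀ (x e : G) (N N' : Subgroup G), ¬ Pair Q34 x e N N')
    {L' : Subgroup G} (T : IsTriple x a L) (hT : IsL34 (Bar L)) (T' : IsTriple x a L')
    (hT' : IsL34 (Bar L')) : L = L' := by
  by_contra hne
  obtain ⟨x', e, N, N', hp⟩ := exists_pair W ⟨T, hT⟩ ⟨T', hT'⟩ hne
  exact h0 x' e N N' hp

end triple

end Cfsg.Agent.UGT.N2S.OneOut
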