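import Cfsg.Agent.UGT.N2S.Bad
import Cfsg.Agent.UGT.N2S.OneOut
import Cfsg.Agent.UGT.Res.Hon
import Cfsg.Agent.UGT.CE.HStar34
import Cfsg.Agent.UGT.Blk.Twin
import Cfsg.Agent.UGT.Res.TwoSup

/-!
# The honest configuration for `L₃(4)`, `X` core-free

* `Hon34 X x L`: `(x, t, L)` is a triple of type `L₃(4)` and `t ∈ X` for all involutions `t` of `C(L) ∩ C(x)`, and there
  is a four-group of them.
* `hon_of`: a triple `(x, a, L)` of type `L₃(4)`, `a ∈ X`, with a four-group in `C(L) ∩ C(x)` gives `Hon34 X x L`.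
* `Hon34.mul`: `Hon34 X (x t) L`.
* `qgrp`: the hypotheses `CE.L34.QGrp` with `B e = Hon34 X e L`, if there are no pairs.
-/

set_option autoImplicit false

open Cfsg Subgroup
open Cfsg.Agent.SignalizersComponents Cfsg.Agent.Lib
open Cfsg.Agent.SignalizersComponents.IntrinsicBasic
open Cfsg.Agent.SignalizersComponents.PLayerAut
open Cfsg.Agent.Intrinsic.Basic Cfsg.Agent.Intrinsic.Cen Cfsg.Agent.Intrinsic.Diag
open Cfsg.Agent.McLLyComp.Act
open Cfsg.Agent.UGT.Triple Cfsg.Agent.UGT.TriBase Cfsg.Agent.UGT.Res.Base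
open Cfsg.Agent.UGT.Iface (Bar IsL2 IsL34 IsAltOdd)
open Cfsg.Agent.UGT.LTF.Defs
open Cfsg.Agent.UGT.Res.Hon (exists_P isT_conj)
open Cfsg.Agent.UGT.ThE.Base (IsT comm_of_mem L_conj L_conj' K_le_M K_conj)
open Cfsg.Agent.UGT.ThEL34 (Acts exists_acts acts_one_iff acts_one acts_of_mem acts_coe acts_norm)
open scoped commutatorElement

namespace Cfsg.Agent.UGT.N2S

universe u

variable {G : Type u} [Group G]

/-- The honest configuration. -/
structure Hon34 (X : Subgroup G) (x : G) (L : Subgroup G) : Prop where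
  ox : orderOf x = 2
  good : ∀ {t : G}, IsT L x t → t ∈ X ∧ TT x t L
  four : ∃ t u : G, IsT L x t ∧ IsT L x u ∧ t ≠ u ∧ t * u = u * t

variable [Finite G] {x a : G} {L X : Subgroup G}

theorem step34 (W : World X) (K : KFs.{u}) (T : TT x a L) (ha : a ∈ X) {t : G}
    (ht : IsT L x t) (hta : t * a = a * t) : t ∈ X ∧ TT x t L := by
  by_cases hne : t = a
  · rw [hne]; exact ⟨ha, T⟩
  have hcore := W.core_bot T.toIsTriple ha
  have hxX := W.not_mem T.toIsTriple
  have hxt : x ≠ t := by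
    rintro rfl
    exact T.not_fixes (fixes_of_comm ht.mem)
  have he : orderOf (x * t) = 2 := order_mul (sq_of_order T.invx) ht.sq ht.comm.symm hxt
  obtain ⟨ξ, hξ, F, F3⟩ := K.honest T hcore
  obtain ⟨y, z, hy3, hyx, hz3, hzx, hy1, hz1, hyz, hyz'⟩ := F.indep
  have hy := W.bad34 K T ha ht hta hne ht hta rfl y.2 (congrArg Subtype.val hy3)
    ((hξ.fix_iff y).mp hyx).symm
  have htX : t ∈ X := by
    by_contra hn
    have h1 := W.mul hxX hn
    rw [W.cf h1 he, mem_bot] at hy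
    exact hy1 (Subtype.ext hy)
  refine ⟨htX, ?_⟩
  obtain ⟨N, hN, hle, hsup⟩ := W.pump1 K T hcore ht hta
  rw [W.core_bot hN.toIsTriple htX, sup_bot_eq] at hsup
  rw [hsup]
  exact hN

/-- **the honest configuration** -/
theorem hon_of (W : World X) (K : KFs.{u}) (T : TT x a L) (ha : a ∈ X)
    (four : ∃ t u : G, IsT L x t ∧ IsT L x u ∧ t ≠ u ∧ t * u = u * t) : Hon34 X x L := by
  refine ⟨T.invx, ?_, four⟩
  intro t ht
  have hka := mem_K T.toIsTriple
  obtain ⟨P, z, hP2, hPL, hPx, htP, hzP, hz, hzc, hcj⟩ := exists_P ht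
  obtain ⟨g, hgL, hgx, hg⟩ := hcj (zpowers a) (isPGroup_of_sq (sq_of_order T.inva))
    (zpowers_le.mpr hka) (fun r hr => by
      obtain ⟨k, rfl⟩ := mem_zpowers_iff.mp hr
      exact (Commute.zpow_left (show Commute a x from T.comm) k).eq)
  have hgP := hg a (mem_zpowers a)
  have T' := T.cj g
  rw [hgx, mul_inv_cancel_right, mem_normalizer_iff_cj.mp (K_le_M hgL)] at T'
  have hgX : g * a * g⁻¹ ∈ X := W.conj ha
  obtain ⟨hzX, Tz⟩ := step34 W K T' hgX hz (hzc _ hgP).symm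
  exact step34 W K Tz hzX ht (hzc _ htP)

theorem Hon34.partner (h : Hon34 X x L) {t : G} (ht : IsT L x t) : ∃ u, IsT L x u ∧ u ≠ t ∧
    u * t = t * u := by
  obtain ⟨P, z, hP2, hPL, hPx, htP, hzP, hz, hzc, hcj⟩ := exists_P ht
  by_cases hzt : z = t
  · subst hzt
    obtain ⟨t₁, u₁, h1, h2, h3, h4⟩ := h.four
    have h5 : IsPGroup 2 ↥(zpowers t₁ ⊔ zpowers u₁) := by
      refine Tri.isPGroup_sup_zpowers (isPGroup_of_sq h1.sq) ?_ (n := 1) ?_
      · rw [mem_normalizer_iff_cj, cj, MonoidHom.map_zpowers]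
        have : (MulAut.conj u₁).toMonoidHom t₁ = t₁ := by
          simp only [MulEquiv.coe_toMonoidHom, MulAut.conj_apply]
          rw [← h4, mul_inv_cancel_right]
        rw [this]
      · rw [pow_one, pow_two, h2.sq]
    obtain ⟨g, hgL, hgx, hg⟩ := hcj (zpowers t₁ ⊔ zpowers u₁) h5
      (sup_le (zpowers_le.mpr h1.mem) (zpowers_le.mpr h2.mem)) (by
        have : zpowers t₁ ⊔ zpowers u₁ ≤ centralizer ({x} : Set G) :=
          sup_le (zpowers_le.mpr (mem_c h1.comm)) (zpowers_le.mpr (mem_c h2.comm))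
        exact fun r hr => comm_c (this hr))
    have g1 := hg t₁ (mem_sup_left (mem_zpowers t₁))
    have g2 := hg u₁ (mem_sup_right (mem_zpowers u₁))
    have k1 := isT_conj (K_le_M hgL) hgx h1
    have k2 := isT_conj (K_le_M hgL) hgx h2
    by_cases hne : g * t₁ * g⁻¹ = z
    · refine ⟨_, k2, ?_, hzc _ g2⟩
      rintro h6
      apply h3
      have h7 := hne.trans h6.symm
      simpa using h7
    · exact ⟨_, k1, hne, hzc _ g1⟩
  · exact ⟨z, hz, hzt, (hzc _ htP).symm⟩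

/-- `O(C_L(x)) ≤ O(C(x))` -/
theorem Hon34.bad (W : World X) (K : KFs.{u}) (h : Hon34 X x L) {y : G} (hy : y ∈ L) (hy3 : y ^ 3 = 1)
    (hyx : y * x = x * y) : y ∈ core (centralizer ({x} : Set G)) := by
  obtain ⟨t, u, ht, -⟩ := h.four
  obtain ⟨htX, T⟩ := h.good ht
  exact K.mem_core T (W.core_bot T.toIsTriple htX) hy hy3 hyx

/-- `x t` is bad as well -/
theorem Hon34.mul (W : World X) (K : KFs.{u}) (h : Hon34 X x L) {t : G} (ht : IsT L x t) :
    Hon34 X (x * t) L := by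
  obtain ⟨htX, T⟩ := h.good ht
  obtain ⟨u, hu, hne, hc⟩ := h.partner ht
  have hcore := W.core_bot T.toIsTriple htX
  have hxt : x ≠ t := by
    rintro rfl
    exact T.not_fixes (fixes_of_comm ht.mem)
  have he : orderOf (x * t) = 2 := order_mul (sq_of_order h.ox) ht.sq ht.comm.symm hxt
  obtain ⟨ξ, hξ, F, F3⟩ := K.honest T hcore
  obtain ⟨y, z, hy3, hyx, hz3, hzx, hy1, hz1, hyz, hyz'⟩ := F.indep
  have hy := W.bad34 K T htX hu hc hne ht rfl hc.symm y.2 (congrArg Subtype.val hy3)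
    ((hξ.fix_iff y).mp hyx).symm
  have ctx : Commute t x := ht.comm
  have cux : Commute u x := hu.comm
  have cut : Commute u t := hc
  have T' : TT (x * t) t L := by
    refine ⟨⟨he, order_isT ht, (ctx.mul_right (Commute.refl t)).eq, T.comp, y, hy, ?_, fun hf => ?_⟩, T.l34⟩
    · exact mem_c (mem_centralizer_iff.mp ht.mem y y.2)
    · apply hy1
      apply F.cl
      have h1 := comm_of_fixes hcore hf
      exact (acts_coe y).uniq (acts_one_iff.mpr h1)
  refine hon_of W K T' htX ⟨t, u, ⟨ht.mem, (ctx.mul_right (Commute.refl t)).eq, ht.sq, ht.ne⟩,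
    ⟨hu.mem, (cux.mul_right cut).eq, hu.sq, hu.ne⟩, hne.symm, hc.symm⟩

omit [Finite G] in
/-- conjugation -/
theorem Hon34.conj (W : World X) (h : Hon34 X x L) (g : G) : Hon34 X (g * x * g⁻¹) (cj g L) := by
  have hT : ∀ {x : G} {L : Subgroup G} {t : G} (g : G), IsT L x t → IsT (cj g L) (g * x * g⁻¹) (g * t * g⁻¹) := by
    intro x L t g ht
    refine ⟨?_, ?_, ?_, ?_⟩
    · rw [mem_centralizer_iff]
      intro l hl
      obtain ⟨l', hl', rfl⟩ := hl
      have h1 := comm_of_mem hl' ht.mem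
      change g * l' * g⁻¹ * (g * t * g⁻¹) = g * t * g⁻¹ * (g * l' * g⁻¹)
      calc g * l' * g⁻¹ * (g * t * g⁻¹) = g * (l' * t) * g⁻¹ := by group
        _ = g * (t * l') * g⁻¹ := by rw [h1]
        _ = _ := by group
    · calc g * t * g⁻¹ * (g * x * g⁻¹) = g * (t * x) * g⁻¹ := by group
        _ = g * (x * t) * g⁻¹ := by rw [ht.comm]
        _ = _ := by group
    · calc g * t * g⁻¹ * (g * t * g⁻¹) = g * (t * t) * g⁻¹ := by group
        _ = 1 := by rw [ht.sq]; group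
    · intro h
      apply ht.ne
      have : t = g⁻¹ * (g * t * g⁻¹) * g := by group
      rw [this, h]; group
  refine ⟨?_, fun {t} ht => ?_, ?_⟩
  · have h1 := (MulAut.conj g).orderOf_eq x
    rw [h.ox] at h1
    exact h1
  · have h1 := hT g⁻¹ ht
    rw [cj_inv_cj] at h1
    have e1 : g⁻¹ * (g * x * g⁻¹) * g⁻¹⁻¹ = x := by group
    rw [e1] at h1
    obtain ⟨h2, h3⟩ := h.good h1
    have h4 := h3.cj g
    have e2 : g * (g⁻¹ * t * g⁻¹⁻¹) * g⁻¹ = t := by group
    rw [e2] at h4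
    refine ⟨?_, h4⟩
    have h5 := W.conj (g := g) h2
    rwa [e2] at h5
  · obtain ⟨t, u, ht, hu, hne, hc⟩ := h.four
    refine ⟨_, _, hT g ht, hT g hu, fun h => hne ?_, ?_⟩
    · exact mul_left_cancel (mul_right_cancel h)
    · calc g * t * g⁻¹ * (g * u * g⁻¹) = g * (t * u) * g⁻¹ := by group
        _ = g * (u * t) * g⁻¹ := by rw [hc]
        _ = _ := by group

/-- distinct components of a core-free group commute -/
theorem comm_of_ne {H J M : Subgroup G} (hJ : IsComp H J) (hM : IsComp H M) (hc : core H = ⊥)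
    (hne : J ≠ M) {j m : G} (hj : j ∈ J) (hm : m ∈ M) : j * m = m * j :=
  LTF.Basics.comm_of_ne hJ hM hc hne hj hm

/-- the conjugates of `L` in `C(e)` do not commute with `L`: the first half of `~` -/
theorem Hon34.cmp_of_comm (K : KFs.{u}) {e : G} {L L' : Subgroup G} (hb : core L' = ⊥) (h : Hon34 X e L)
    {a' : G} (T' : TT e a' L') (hc : Blk.Comm L L') :
    ∀ t ∈ L', orderOf t = 2 → Blk.Cmp (⊤ ⊓ centralizer ({t} : Set G)) L := by
  obtain ⟨b, hb', hb2, hbe⟩ := K.exists_b T' hb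
  have h1 : IsT L e b := ⟨mem_centralizer_iff.mpr fun l hl => hc l hl b hb', hbe, sq_of_order hb2,
    ne_one_of_order hb2⟩
  intro t ht ht2
  rw [top_inf_eq]
  exact Blk.Twin.Hyp.cmp_all hc (fun t ht u hu ht2 hu2 => OneOut.conj34 T'.l34 hb ht hu ht2 hu2) hb' hb2
    (Res.TwoSup.cmp_of_isComp (h.good h1).2.comp) t ht ht2

/-- no `~`-pairs of type `L₃(4)` -/
def NoRel (G : Type u) [Group G] : Prop := ∀ {L P : Subgroup G}, (∃ x a : G, TT x a L ∧ core L = ⊥) →
  (∃ x a : G, TT x a P ∧ core P = ⊥) → ¬ Blk.Rel ⊤ L P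

/-- `e` is bad for `L` and `L'`, which commute: they are a pair -/
theorem Hon34.rel (W : World X) (K : KFs.{u}) {e : G} {L L' : Subgroup G} (h : Hon34 X e L)
    (h' : Hon34 X e L') (hc : Blk.Comm L L') (hne : L ≠ L') : Blk.Rel ⊤ L L' := by
  obtain ⟨t, -, ht, -⟩ := h.four
  obtain ⟨t', -, ht', -⟩ := h'.four
  obtain ⟨h1, T⟩ := h.good ht
  obtain ⟨h1', T'⟩ := h'.good ht'
  exact ⟨le_top, le_top, hne, hc,
    h.cmp_of_comm K (W.core_bot T'.toIsTriple h1') T' hc,
    h'.cmp_of_comm K (W.core_bot T.toIsTriple h1) T hc.symm⟩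

omit [Finite G] in
/-- `[L, L] ≠ 1` -/
theorem not_comm_self (T : TT x a L) (hc : core L = ⊥) (K : KFs.{u}) [Finite G] :
    ¬ ∀ l ∈ L, ∀ l' ∈ L, l * l' = l' * l := by
  intro h
  obtain ⟨ξ, hξ, F, F3⟩ := K.honest T hc
  obtain ⟨s, hs1, hs2, hs3⟩ := F3.exs
  apply hs2
  apply F.cl
  ext l
  have h1 : s * l = l * s := Subtype.ext (h s s.2 l l.2)
  rw [MulAut.conj_apply, h1, mul_inv_cancel_right, MulAut.one_apply]

/-- **no commuting conjugates in `C(e)`** -/
theorem Hon34.nc (W : World X) (K : KFs.{u}) (nr : NoRel G) {e : G} (h : Hon34 X e L) {g : G}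
    (hg : g * e = e * g) : ¬ ∀ l ∈ L, g * l * g⁻¹ ∈ centralizer (L : Set G) := by
  intro hL
  have h' := h.conj W g
  rw [hg, mul_inv_cancel_right] at h'
  obtain ⟨t, -, ht, -⟩ := h.four
  obtain ⟨h1, T⟩ := h.good ht
  have hbot := W.core_bot T.toIsTriple h1
  have hc : Blk.Comm L (cj g L) := by
    rintro a ha _ ⟨l, hl, rfl⟩
    exact mem_centralizer_iff.mp (hL l hl) a ha
  have hne : L ≠ cj g L := by
    intro he
    rw [← he] at hc
    exact not_comm_self T hbot K hc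
  refine nr ⟨e, t, T, hbot⟩ ⟨e, g * t * g⁻¹, ?_, ?_⟩ (h.rel W K h' hc hne)
  · have := T.cj g
    rwa [hg, mul_inv_cancel_right] at this
  · rw [core_cj, hbot, cj, Subgroup.map_bot]

/-- **the hypotheses of `CE.L34.QGrp.main`** -/
theorem qgrp (W : World X) (K : KFs.{u}) (nr : NoRel G) (L : Subgroup G) :
    CE.L34.QGrp (fun t : G => core (centralizer ({t} : Set G))) L (fun e => Hon34 X e L) where
  Ocj g t a ha := by
    have h1 : g * a * g⁻¹ ∈ cj g (core (centralizer ({t} : Set G))) := ⟨a, ha, rfl⟩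
    rwa [← core_cj, cj_centralizer] at h1
  Oc _ a ha := comm_c (core_le _ ha)
  odd _ := odd_card_core _
  sq h := sq_of_order h.ox
  facts h := by
    obtain ⟨t, -, ht, -⟩ := h.four
    obtain ⟨h1, T⟩ := h.good ht
    obtain ⟨ξ, hξ, F, F3⟩ := K.honest T (W.core_bot T.toIsTriple h1)
    exact ⟨ξ, hξ, F3⟩
  c5 h ξ hξ := by
    obtain ⟨t, -, ht, -⟩ := h.four
    obtain ⟨h1, T⟩ := h.good ht
    obtain ⟨E, hE, hne, -⟩ := exists_E T.toIsTriple hξ
    exact CE.L34.facts5_of (isL34_self T (W.core_bot T.toIsTriple h1)) (hξ.sq (sq_of_order h.ox)) hE hne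
  Oodd t := odd_card_core _
  Bt h t ht := h.mul W K ht
  four h := h.four
  cmp h t ht c hc := by
    obtain ⟨h1, T⟩ := h.good ht
    have hJ : IsComp (centralizer ({t} : Set G)) (cj c L) := LTF.Basics.comp_cj T.comp (mem_c hc)
    by_cases hne : cj c L = L
    · left
      intro l hl
      rw [← hne]
      exact ⟨l, hl, rfl⟩
    · right
      intro l hl
      rw [mem_centralizer_iff]
      intro m hm
      exact (comm_of_ne hJ T.comp (W.cf h1 T.inva) hne ⟨l, hl, rfl⟩ hm).symm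
  nc h g hg := h.nc W K nr hg
  bad h y hy hy3 hye := h.bad W K hy hy3 hye
  Bcj h l hl := by
    have h1 := h.conj W l
    rwa [cj_eq_self_of_mem hl] at h1
  uni h z hz g hg hgz := by
    obtain ⟨h1, T⟩ := h.good hz
    obtain ⟨h2, T2⟩ := h.good hgz
    have T1 := T.cj g
    rw [hg, mul_inv_cancel_right] at T1
    rw [mem_normalizer_iff_cj]
    exact W.one T1.toIsTriple T2.toIsTriple T1.l34 T2.l34
  fin h t ht := by
    obtain ⟨h1, T⟩ := h.good ht
    have h2 := W.cf h1 T.inva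
    intro d hd
    have h3 : d ∈ core (centralizer ({t} : Set G)) := hd
    rw [h2, mem_bot] at h3
    rw [h3]
    exact one_mem _

end Cfsg.Agent.UGT.N2S
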