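import Cfsg.Agent.UGT.N2S.PairBase
import Cfsg.Agent.UGT.BL34.Adj

/-!
# No `~`-pairs of type `L₃(4)`: the world of the triples of type `L₃(4)`, `x ∉ X`

`BL34.noAdj_comm` is the input `Ad SS` of `PairBase`.
-/

set_option autoImplicit false

open Cfsg Subgroup
open Cfsg.Agent.SignalizersComponents
open Cfsg.Agent.Intrinsic.Basic
open Cfsg.Agent.UGT.Triple Cfsg.Agent.UGT.TriBase
open Cfsg.Agent.UGT.Res.Hon (CFX)
open Cfsg.Agent.UGT.N2S.OneOut
open Cfsg.Agent.UGT.N2S.PairBase
open Cfsg.Agent.UGT.BL (Iv Cm)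

namespace Cfsg.Agent.UGT.N2S.PairEnd

universe u

variable {G : Type u} [Group G] [Finite G]

omit [Finite G] in
theorem ord_of_iv {L : Subgroup G} {t : G} (h : Iv L t) : orderOf t = 2 :=
  orderOf_eq_prime (by rw [pow_two]; exact h.sq) h.ne

/-- **commuting involutions are in commuting members** -/
theorem ad34 {SS : Set (Subgroup G)} (M : Mems34 SS) : Ad SS := by
  intro L hL K hK t u ht hu h
  have F : ∀ L ∈ SS, BL34.KL ↥L := by
    intro L hL
    obtain ⟨x, a, T, hc⟩ := M.mem L hL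
    exact BL34.kl_of (isL34_self T hc)
  rcases BL34.noAdj_comm M.base F hL hK ht.mem hu.mem (ord_of_iv ht) (ord_of_iv hu) h with h1 | h1
  · exact Or.inl h1
  · exact Or.inr (BL.cm_iff.2 (Blk.comm_iff.1 h1))

section

variable {X : Subgroup G} (hX : IsSimpleGroup ↥X)

include hX

/-- **no `~`-pair of type `L₃(4)`** -/
theorem false_of_pair (h2 : ∀ {g h : G}, g ∉ X → h ∉ X → g * h ∈ X) (x e : G) (N N' : Subgroup G) :
    ¬ Res.TwoPair.Pair Q34 x e N N' :=
  false_of_pair34 hX h2 (fun _ M => ad34 M) x e N N'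

/-- **the world of the triples of type `L₃(4)`**: at most one `L` for each pair `(x, a)` -/
theorem world (W : Typ G)
    (hB : ∀ v : G, orderOf v = 2 → HasBProperty ↥(centralizer ({v} : Set G))) (C : CFX X) : World X :=
  world_of_ad hX (fun _ M => ad34 M) W hB C

end

end Cfsg.Agent.UGT.N2S.PairEnd
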