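import Cfsg.Agent.UGT.N2S.Out
import Cfsg.Agent.UGT.BL34.Main
import Cfsg.Agent.UGT.NodesL34w

/-!
# `L₃(4)`, `x ∉ X`, rank at least two: the end

* `noRel`: no `~`-pair of type `L₃(4)` in a minimal counterexample.
* `out34`: no triple of type `L₃(4)` with `x ∉ F*(G)`, rank at least two.
-/

set_option autoImplicit false

open Cfsg Subgroup
open Cfsg.Agent.Intrinsic.Basic Cfsg.Agent.Intrinsic.Cen
open Cfsg.Agent.FixBN.BTheorem Cfsg.Agent.FixBN.BRelative
open Cfsg.Agent.UGT.Triple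
open Cfsg.Agent.UGT.Iface (Bar IsL2 IsL34 IsAltOdd MinCex)

namespace Cfsg.Agent.UGT.N2S

universe u

local notation "Fs" => generalizedFittingSubgroup

variable {G : Type u} [Group G] [Finite G] {x a : G} {L : Subgroup G}

/-- no `~`-pair of type `L₃(4)` -/
theorem noRel (hG : MinCex G) : NoRel G := by
  rintro L P ⟨x, a, T, hc⟩ ⟨y, b, T', hc'⟩ h
  have hs : IsSimpleGroup ↥(Fs G) := hG.simple
  exact BL34.false_of_rel (X := Fs G) h (isL34_self T hc) (isL34_self T' hc')
    (U2.TypeOf.le_fs hG T.toIsTriple) (U2.TypeOf.le_fs hG T'.toIsTriple)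

/-- **no triple of type `L₃(4)` with `x ∉ F*(G)`, rank at least two** -/
theorem out34 (hk : Known.{u}) (hG : MinCex G) (W : Nodes.WorldL34 G)
    (T : IsTriple x a L) (h34 : IsL34 (Bar L)) (hx : x ∉ Fs G) {c : G} (hc : orderOf c = 2) (hne : c ≠ a)
    (hca : c * a = a * c) (hcx : c * x = x * c) (hcL : Fixes c L) : False :=
  false_out hG hk OneGlue.kfs (fun T => W.types _ _ _ T) (noRel hG) T h34 hx hc hne hca hcx hcL

end Cfsg.Agent.UGT.N2S
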