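import Cfsg.Agent.UGT.L2Inner.WBHyp
import Cfsg.Agent.UGT.NodesL34w
import Cfsg.Agent.UGT.RedRB
import Cfsg.Agent.UGT.FL34.KF34
import Cfsg.Agent.UGT.N2S.Base
import Cfsg.Agent.UGT.L2i.FactsRep
import Cfsg.Agent.UGT.A7.M1.WB7

/-!
# UGT N2, cores: weak 2-balance in the world `{L₂, A₇, A₉, L₃(4)}` (UGT #17192, (F1))

* `no_three`: no four-group gives triples of type `A₉` or `L₃(4)`.
* `Mvd`: a four-group `D` of involutions commuting with `c`, `y ∈ Δ(D) ∩ C(c)` moves the 2-component `J` of `C(c)`.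
* `Mvd.typ27`: then `J` has type `L₂` or `A₇`, and `D` is faithful on `J`.
* `hyp_of`: the hypotheses of the functor of `Func52`.
-/

set_option autoImplicit false
set_option linter.unusedSectionVars false

open Cfsg Subgroup Equiv Equiv.Perm
open Cfsg.Agent.UAlt (Mod fixIn alt sym mem_fixIn)
open Cfsg.Agent.SignalizersComponents Cfsg.Agent.Lib
open Cfsg.Agent.SignalizersComponents.IntrinsicBasic
open Cfsg.Agent.SignalizersComponents.PLayerAut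
open Cfsg.Agent.Intrinsic.Basic Cfsg.Agent.Intrinsic.Cen Cfsg.Agent.Intrinsic.Diag
open Cfsg.Agent.McLLyComp.Act
open Cfsg.Agent.UGT.Triple Cfsg.Agent.UGT.TriBase
open Cfsg.Agent.UGT.Iface (Bar IsL2 IsAlt IsL34 IsInner)
open Cfsg.Agent.UGT.Nodes (WorldL34)
open Cfsg.Agent.UGT.L2Inner (order_two exists_gens exists_not_mem L2T P7 b1 b2 b3 IsV)
open Cfsg.Agent.Lib.AutSL2Out (ringEquiv_comm)
open scoped commutatorElement

namespace Cfsg.Agent.UGT.N2S.FHyp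

universe u

variable {G : Type u} [Group G] [Finite G] {D E J : Subgroup G} {c y x w : G}

/-! ### types -/

/-- the bits of a polarity -/
theorem bits_of_triple (T : IsTriple x w J) (e0 : Cfsg.Agent.ONType.Psl.PSL3 ≃* Bar J) :
    Cfsg.Agent.LThreeFour.bits ((FL34.D e0).tyHom (act J ⟨x, T.x_mem⟩)) = (true, true) :=
  FL34.KF.bits_of_oddC e0 (Res.KFacts.act_sq T) (oddC' T) (LTF.Basics.img_ne T)

/-- no four-group gives triples of type `L₃(4)` -/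
theorem no_three34 (h : IsL34 (Bar J)) {x y w : G} (T1 : IsTriple x w J) (T2 : IsTriple y w J)
    (T3 : IsTriple (x * y) w J) : False := by
  obtain ⟨F, _, _, hF, ⟨e⟩⟩ := h
  obtain ⟨e'⟩ := Cfsg.Agent.SporadicA.FieldFour.nonempty_psl_equiv (n := Fin 3) F hF
  obtain ⟨e0⟩ : Nonempty (Cfsg.Agent.ONType.Psl.PSL3 ≃* Bar J) := ⟨e'.trans e.symm⟩
  have h1 := FL34.chF_eq e0 (act J ⟨x, T1.x_mem⟩)
  have h2 := FL34.chF_eq e0 (act J ⟨y, T2.x_mem⟩)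
  have h3 := FL34.chF_eq e0 (act J ⟨x * y, T3.x_mem⟩)
  rw [bits_of_triple T1] at h1
  rw [bits_of_triple T2] at h2
  rw [bits_of_triple T3, act_mul T1.x_mem T2.x_mem, map_mul, h1, h2] at h3
  exact absurd h3 (by decide)

/-- no four-group gives triples of type `A₉` -/
theorem no_three9 (h : IsAlt 9 (Bar J)) {x y w : G} (T1 : IsTriple x w J) (T2 : IsTriple y w J)
    (T3 : IsTriple (x * y) w J) : False := by
  obtain ⟨Mo⟩ := RedRB.exists_mod (by norm_num) h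
  have key : ∀ {d : G}, IsTriple d w J → Perm.sign (Mo.φ d) = -1 := by
    intro d T
    have h1 := (RedRB.sign_three (Mo.mem_sym d T.x_mem) (Mo.sq T.x_mem (sq_of_order T.invx))
      (RedAlt.three_fix T Mo).1).1
    rw [Finset.card_univ, Fintype.card_fin] at h1
    rw [h1]
    decide
  have h3 := key T3
  rw [Mo.mul _ _ T1.x_mem T2.x_mem, map_mul, key T1, key T2] at h3
  exact absurd h3 (by decide)

/-- **three triples on a four-group** -/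
theorem typ_of_three (hT : WorldL34 G) {x y w : G} (T1 : IsTriple x w J) (T2 : IsTriple y w J)
    (T3 : IsTriple (x * y) w J) : IsL2 (Bar J) ∨ IsAlt 7 (Bar J) := by
  rcases hT _ _ _ T1 with h | h | h | h
  · exact Or.inl h
  · exact Or.inr h
  · exact (no_three9 h T1 T2 T3).elim
  · exact (no_three34 h T1 T2 T3).elim

/-! ### moved 2-components -/

/-- `D` a four-group of involutions commuting with `c`, `y ∈ Δ(D) ∩ C(c)` moves the 2-component `J` of `C(c)` -/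
structure Mvd (D : Subgroup G) (c y : G) (J : Subgroup G) : Prop where
  D4 : Nat.card D = 4
  sq : ∀ d ∈ D, d * d = 1
  com : ∀ d ∈ D, d * c = c * d
  cc : c * c = 1
  c1 : c ≠ 1
  hy : ∀ d ∈ D, d ≠ 1 → y ∈ core (centralizer ({d} : Set G))
  hyc : y ∈ centralizer ({c} : Set G)
  comp : IsComp (centralizer ({c} : Set G)) J
  nf : ¬ Fixes y J

namespace Mvd

theorem tri (h : Mvd D c y J) {d : G} (hd : d ∈ D) (hd1 : d ≠ 1) : IsTriple d c J :=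
  ⟨order_two (h.sq d hd) hd1, order_two h.cc h.c1, (h.com d hd).symm, h.comp, y, h.hy d hd hd1, h.hyc, h.nf⟩

theorem nrm (h : Mvd D c y J) : D ≤ normalizer (J : Set G) := by
  intro d hd
  by_cases h1 : d = 1
  · rw [h1]; exact one_mem _
  · exact (h.tri hd h1).x_mem

/-- `D` is faithful on `J` -/
theorem nfx (h : Mvd D c y J) {d : G} (hd : d ∈ D) (hd1 : d ≠ 1) : ¬ Fixes d J := (h.tri hd hd1).not_fixes

theorem mul_ne (h : Mvd D c y J) {a b : G} (hb : b ∈ D) (hab : a ≠ b) : a * b ≠ 1 := by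
  intro h1
  apply hab
  have h2 := eq_inv_of_mul_eq_one_left h1
  rwa [inv_eq_of_mul_eq_one_left (h.sq b hb)] at h2

/-- **the type of `J`** -/
theorem typ27 (hT : WorldL34 G) (h : Mvd D c y J) : IsL2 (Bar J) ∨ IsAlt 7 (Bar J) := by
  obtain ⟨a, ha, b, hb, ha1, hb1, hab⟩ := exists_gens h.D4
  exact typ_of_three hT (h.tri ha ha1) (h.tri hb hb1) (h.tri (mul_mem ha hb) (h.mul_ne hb hab))

/-- `[y, e]` fixes `J` if `J` has type `L₂` -/
theorem comm_fixes2 (h : Mvd D c y J) (h2 : IsL2 (Bar J)) {e : G} (he : e ∈ normalizer (J : Set G))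
    (hed : ∀ d ∈ D, e * d = d * e) : Fixes ⁅y, e⁆ J := by
  obtain ⟨d₁, hd₁, d₂, hd₂, h1, h22, h12⟩ := exists_gens h.D4
  have hzK : y ∈ normalizer (J : Set G) :=
    (h.tri hd₁ h1).mem_normalizer_of_core (h.hy d₁ hd₁ h1) h.hyc
  have hwK : ⁅y, e⁆ ∈ normalizer (J : Set G) := by
    rw [commutatorElement_def]
    exact mul_mem (mul_mem (mul_mem hzK he) (inv_mem hzK)) (inv_mem he)
  have hw : ∀ d ∈ D, d ≠ 1 → ⁅y, e⁆ ∈ core (centralizer ({d} : Set G)) := by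
    intro d hd hd1
    have h3 := conj_core (mem_c (hed d hd)) (inv_mem (h.hy d hd hd1))
    have h4 : ⁅y, e⁆ = y * (e * y⁻¹ * e⁻¹) := by
      rw [commutatorElement_def]; group
    rw [h4]
    exact mul_mem (h.hy d hd hd1) h3
  obtain ⟨F, _, _, -, ⟨R⟩⟩ := L2i.exists_rep h2
  have n₁ := h.nrm hd₁
  have n₂ := h.nrm hd₂
  have hss : ∀ u ∈ D, ∀ n : u ∈ normalizer (J : Set G), act J ⟨u, n⟩ * act J ⟨u, n⟩ = 1 := by
    intro u hu n
    rw [← map_mul]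
    have h1 : (⟨u, n⟩ : ↥(normalizer (J : Set G))) * ⟨u, n⟩ = 1 := Subtype.ext (h.sq u hu)
    rw [h1, map_one]
  have hα : act J ⟨⁅y, e⁆, hwK⟩ = ⁅act J ⟨y, hzK⟩, act J ⟨e, he⟩⁆ := by
    rw [← map_commutatorElement]
    rfl
  have hαP : act J ⟨⁅y, e⁆, hwK⟩ ∈ R.PGL := by
    rw [hα, R.mem_PGL_iff_fld, map_commutatorElement, commutatorElement_eq_one_iff_mul_comm]
    exact ringEquiv_comm _ _
  have hαc : ∀ d ∈ D, ∀ (_ : d ≠ 1) (n : d ∈ normalizer (J : Set G)),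
      act J ⟨⁅y, e⁆, hwK⟩ * act J ⟨d, n⟩ = act J ⟨d, n⟩ * act J ⟨⁅y, e⁆, hwK⟩ := by
    intro d hd hd1 n
    rw [← map_mul, ← map_mul]
    congr 1
    exact Subtype.ext (comm_c (core_le _ (hw d hd hd1)))
  have hc12 : act J ⟨d₁, n₁⟩ * act J ⟨d₂, n₂⟩ = act J ⟨d₂, n₂⟩ * act J ⟨d₁, n₁⟩ := by
    rw [← map_mul, ← map_mul]
    congr 1
    exact Subtype.ext (L2Inner.comm_of_sq h.sq hd₁ hd₂)
  have hαα : act J ⟨⁅y, e⁆, hwK⟩ * act J ⟨⁅y, e⁆, hwK⟩ = 1 := by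
    rcases L2Inner.WBAut.pgl_four R (L2Inner.WBTriple.mem_PGL (h.tri hd₁ h1) R)
      (L2Inner.WBTriple.mem_PGL (h.tri hd₂ h22) R)
      hαP (fun h3 => h.nfx hd₁ h1 ((act_eq_one_iff n₁).mp h3))
      (fun h3 => h.nfx hd₂ h22 ((act_eq_one_iff n₂).mp h3))
      (fun h3 => h.nfx (mul_mem hd₁ hd₂) (h.mul_ne hd₂ h12)
        (L2Inner.Frame.fixes_of_act_eq n₁ n₂ (h.sq d₂ hd₂) h3))
      (hss d₁ hd₁ n₁) (hss d₂ hd₂ n₂) hc12 (hαc d₁ hd₁ h1 n₁) (hαc d₂ hd₂ h22 n₂) with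
      h3 | h3 | h3 | h3
    · rw [h3, one_mul]
    · rw [h3]; exact hss d₁ hd₁ n₁
    · rw [h3]; exact hss d₂ hd₂ n₂
    · rw [h3, ← act_mul n₁ n₂]
      exact hss _ (mul_mem hd₁ hd₂) _
  rw [← act_eq_one_iff hwK]
  refine Cfsg.Agent.OddHalf.D6.PglType.eq_one_of_odd_sq hαα ?_
  have h3 : orderOf (act J ⟨⁅y, e⁆, hwK⟩) ∣ orderOf ⁅y, e⁆ := by
    have h2 : orderOf (⟨⁅y, e⁆, hwK⟩ : ↥(normalizer (J : Set G))) = orderOf ⁅y, e⁆ :=
      Subgroup.orderOf_mk _ _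
    rw [← h2]
    exact orderOf_map_dvd _ _
  refine Odd.of_dvd_nat (odd_card_core (centralizer ({d₁} : Set G))) (h3.trans ?_)
  rw [← Subgroup.orderOf_mk ⁅y, e⁆ (hw d₁ hd₁ h1)]
  exact orderOf_dvd_natCard _

end Mvd

/-! ### weak 2-balance -/

section main

variable (hT : WorldL34 G) (sq : ∀ e ∈ E, e * e = 1)
include hT sq

/-- **rank 3** -/
theorem b3 {U : Subgroup G} (hU : U ≤ E) (hU4 : 4 < Nat.card U) {c : G} (hc : c ∈ E)
    (hc1 : c ≠ 1) {z : G} (hz : ∀ f ∈ U, f ≠ 1 → z ∈ core (centralizer ({f} : Set G)))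
    (hzc : z ∈ centralizer ({c} : Set G)) : z ∈ core (centralizer ({c} : Set G)) := by
  have comm : ∀ {a b : G}, a ∈ E → b ∈ E → a * b = b * a := fun ha hb => L2Inner.comm_of_sq sq ha hb
  by_contra hn
  obtain ⟨u₁, hu₁, h11, -, -, -⟩ := exists_not_mem hU4 1 1
  obtain ⟨u₂, hu₂, h21, h22, -, -⟩ := exists_not_mem hU4 u₁ u₁
  obtain ⟨u₃, hu₃, h31, h32, h33, h34⟩ := exists_not_mem hU4 u₁ u₂
  obtain ⟨K, hK, hf⟩ := Res.Base.exists_moved (H := centralizer ({c} : Set G)) (x := u₁)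
    (mem_c (comm (hU hu₁) hc)) (order_two (sq _ (hU hu₁)) h11)
    (inf_le_core (hz u₁ hu₁ h11) hzc) hn
  have T : ∀ u ∈ U, u ≠ 1 → IsTriple u c K := fun u hu hu1 =>
    ⟨order_two (sq _ (hU hu)) hu1, order_two (sq _ hc) hc1, comm hc (hU hu), hK, z, hz u hu hu1, hzc, hf⟩
  have nf : ∀ u ∈ U, u ≠ 1 → ¬ Fixes u K := fun u hu hu1 => (T u hu hu1).not_fixes
  have n₁ := (T u₁ hu₁ h11).x_mem
  have n₂ := (T u₂ hu₂ h21).x_mem
  have n₃ := (T u₃ hu₃ h31).x_mem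
  have hsq : ∀ u ∈ U, u * u = 1 := fun u hu => sq _ (hU hu)
  have h12' : u₁ * u₂ ≠ 1 := by
    intro h1
    apply h22
    have h2 := eq_inv_of_mul_eq_one_right h1
    rwa [inv_eq_of_mul_eq_one_left (sq _ (hU hu₁))] at h2
  have hty := typ_of_three hT (T u₁ hu₁ h11) (T u₂ hu₂ h21) (T _ (mul_mem hu₁ hu₂) h12')
  rcases hty.symm with h7 | h2
  · obtain ⟨L₀⟩ := RedRB.exists_mod (by norm_num) h7
    obtain ⟨L, hL⟩ := L2Inner.exists_norm (T u₁ hu₁ h11) L₀ (hz u₁ hu₁ h11) hzc hf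
    have hV : ∀ u ∈ U, u ≠ 1 → IsV (L.φ u) ∧ L.φ u ≠ 1 := fun u hu hu1 =>
      L2Inner.isV_of_triple (T u hu hu1) L (hz u hu hu1) hzc hf hL
    have hne : ∀ u ∈ U, ∀ w ∈ U, u ≠ w → u ∈ normalizer (K : Set G) → w ∈ normalizer (K : Set G) →
        L.φ u ≠ L.φ w := by
      intro u hu w hw huw n n' h
      refine nf _ (mul_mem hu hw) ?_ ((L.fixes_iff (mul_mem n n')).mp ?_)
      · intro h1
        apply huw
        have h2 := eq_inv_of_mul_eq_one_left h1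
        rwa [inv_eq_of_mul_eq_one_left (hsq w hw)] at h2
      · rw [L.mul _ _ n n', h]
        exact L.sq n' (hsq w hw)
    obtain ⟨v1, m1⟩ := hV u₁ hu₁ h11
    obtain ⟨v2, m2⟩ := hV u₂ hu₂ h21
    obtain ⟨v3, m3⟩ := hV u₃ hu₃ h31
    rcases v1.gen v2 m1 m2 (hne u₁ hu₁ u₂ hu₂ (Ne.symm h22) n₁ n₂) v3 with h | h | h | h
    · exact m3 h
    · exact hne u₃ hu₃ u₁ hu₁ h32 n₃ n₁ h
    · exact hne u₃ hu₃ u₂ hu₂ h33 n₃ n₂ h
    · rw [← L.mul _ _ n₁ n₂] at h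
      exact hne u₃ hu₃ _ (mul_mem hu₁ hu₂) h34 n₃ (mul_mem n₁ n₂) h
  obtain ⟨F, _, _, -, ⟨R⟩⟩ := L2i.exists_rep h2
  have hne1 : ∀ u ∈ U, ∀ (_ : u ≠ 1) (n : u ∈ normalizer (K : Set G)), act K ⟨u, n⟩ ≠ 1 :=
    fun u hu hu1 n h => nf u hu hu1 ((act_eq_one_iff n).mp h)
  have hne : ∀ u ∈ U, ∀ w ∈ U, u ≠ w → ∀ (n : u ∈ normalizer (K : Set G))
      (n' : w ∈ normalizer (K : Set G)), act K ⟨u, n⟩ ≠ act K ⟨w, n'⟩ := by
    intro u hu w hw huw n n' h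
    refine nf _ (mul_mem hu hw) ?_ (L2Inner.Frame.fixes_of_act_eq n n' (hsq w hw) h)
    intro h1
    apply huw
    have h2 := eq_inv_of_mul_eq_one_left h1
    rwa [inv_eq_of_mul_eq_one_left (hsq w hw)] at h2
  have hss : ∀ u ∈ U, ∀ n : u ∈ normalizer (K : Set G), act K ⟨u, n⟩ * act K ⟨u, n⟩ = 1 := by
    intro u hu n
    rw [← map_mul]
    have h1 : (⟨u, n⟩ : ↥(normalizer (K : Set G))) * ⟨u, n⟩ = 1 := Subtype.ext (hsq u hu)
    rw [h1, map_one]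
  have hcc : ∀ u ∈ U, ∀ w ∈ U, ∀ (n : u ∈ normalizer (K : Set G))
      (n' : w ∈ normalizer (K : Set G)), act K ⟨u, n⟩ * act K ⟨w, n'⟩ =
        act K ⟨w, n'⟩ * act K ⟨u, n⟩ := by
    intro u hu w hw n n'
    rw [← map_mul, ← map_mul]
    congr 1
    exact Subtype.ext (comm (hU hu) (hU hw))
  rcases L2Inner.WBAut.pgl_four R (L2Inner.WBTriple.mem_PGL (T u₁ hu₁ h11) R)
    (L2Inner.WBTriple.mem_PGL (T u₂ hu₂ h21) R)
    (L2Inner.WBTriple.mem_PGL (T u₃ hu₃ h31) R) (hne1 u₁ hu₁ h11 n₁) (hne1 u₂ hu₂ h21 n₂)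
    (hne u₁ hu₁ u₂ hu₂ (Ne.symm h22) n₁ n₂) (hss u₁ hu₁ n₁) (hss u₂ hu₂ n₂)
    (hcc u₁ hu₁ u₂ hu₂ n₁ n₂) (hcc u₃ hu₃ u₁ hu₁ n₃ n₁) (hcc u₃ hu₃ u₂ hu₂ n₃ n₂) with
    h | h | h | h
  · exact hne1 u₃ hu₃ h31 n₃ h
  · exact hne u₃ hu₃ u₁ hu₁ h32 n₃ n₁ h
  · exact hne u₃ hu₃ u₂ hu₂ h33 n₃ n₂ h
  · rw [← act_mul n₁ n₂] at h
    exact hne u₃ hu₃ _ (mul_mem hu₁ hu₂) h34 n₃ (mul_mem n₁ n₂) h

/-- **rank 2** -/
theorem w2 (nrm : ∀ c ∈ E, c ≠ 1 → ∀ D ≤ E, ∀ J y, Mvd D c y J → E ≤ normalizer (J : Set G))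
    (sev : ∀ c ∈ E, c ≠ 1 → ∀ D ≤ E, ∀ J y, Mvd D c y J → IsAlt 7 (Bar J) → ∀ e ∈ E, Fixes ⁅y, e⁆ J)
    {D : Subgroup G} (hD : D ≤ E) (hD4 : Nat.card D = 4) {c : G} (hc : c ∈ E)
    (hc1 : c ≠ 1) {z : G} (hz : ∀ d ∈ D, d ≠ 1 → z ∈ core (centralizer ({d} : Set G)))
    (hzc : z ∈ centralizer ({c} : Set G)) {e : G} (he : e ∈ E) :
    ⁅z, e⁆ ∈ core (centralizer ({c} : Set G)) := by
  have comm : ∀ {a b : G}, a ∈ E → b ∈ E → a * b = b * a := fun ha hb => L2Inner.comm_of_sq sq ha hb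
  have hM : ∀ {K : Subgroup G}, IsComp (centralizer ({c} : Set G)) K → ¬ Fixes z K → Mvd D c z K :=
    fun hK hf => ⟨hD4, fun d hd => sq d (hD hd), fun d hd => comm (hD hd) hc, sq c hc, hc1, hz, hzc, hK, hf⟩
  have hec : e ∈ centralizer ({c} : Set G) := mem_c (comm he hc)
  have hw : ∀ d ∈ D, d ≠ 1 → ⁅z, e⁆ ∈ core (centralizer ({d} : Set G)) := by
    intro d hd hd1
    have h3 := conj_core (mem_c (comm he (hD hd))) (inv_mem (hz d hd hd1))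
    have h4 : ⁅z, e⁆ = z * (e * z⁻¹ * e⁻¹) := by
      rw [commutatorElement_def]; group
    rw [h4]
    exact mul_mem (hz d hd hd1) h3
  by_contra hn
  obtain ⟨d, hd, -, -, hd1, -, -⟩ := exists_gens hD4
  have hwc : ⁅z, e⁆ ∈ centralizer ({c} : Set G) := by
    rw [commutatorElement_def]
    exact mul_mem (mul_mem (mul_mem hzc hec) (inv_mem hzc)) (inv_mem hec)
  obtain ⟨K, hK, hf⟩ := Res.Base.exists_moved (H := centralizer ({c} : Set G)) (x := d)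
    (mem_c (comm (hD hd) hc)) (order_two (sq _ (hD hd)) hd1)
    (inf_le_core (hw d hd hd1) hwc) hn
  -- `z` fixes `K`
  have hzK : Fixes z K := by
    by_contra h
    have hm := hM hK h
    rcases hm.typ27 hT with h2 | h7
    · exact hf (hm.comm_fixes2 h2 (nrm c hc hc1 D hD K z hm he) fun d hd => comm he (hD hd))
    · exact hf (sev c hc hc1 D hD K z hm h7 e he)
  have hK' : IsComp (centralizer ({c} : Set G)) (cj e⁻¹ K) := isComp_cj_of_mem hK (inv_mem hec)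
  have hK'K : cj e (cj e⁻¹ K) = K := by
    rw [← cj_mul, mul_inv_cancel, cj_one]
  have hzK' : ¬ Fixes z (cj e⁻¹ K) := by
    intro h
    apply hf
    have h1 := (fixes_inv h).cj e
    rw [hK'K] at h1
    have h2 := fixes_mul hzK h1
    have h3 : ⁅z, e⁆ = z * (e * z⁻¹ * e⁻¹) := by
      rw [commutatorElement_def]; group
    rwa [h3]
  have heK' : e ∈ normalizer (cj e⁻¹ K : Set G) := nrm c hc hc1 D hD _ z (hM hK' hzK') he
  rw [mem_normalizer_iff_cj, hK'K] at heK'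
  rw [← heK'] at hzK'
  exact hzK' hzK

end main

/-- **the hypotheses of the functor of `Func52`** -/
theorem hyp_of (hT : WorldL34 G) {E : Subgroup G} (elem : IsElementaryAbelian 2 E) (card : 16 ≤ Nat.card E)
    (nrm : ∀ c ∈ E, c ≠ 1 → ∀ D ≤ E, ∀ J y, Mvd D c y J → E ≤ normalizer (J : Set G))
    (sev : ∀ c ∈ E, c ≠ 1 → ∀ D ≤ E, ∀ J y, Mvd D c y J → IsAlt 7 (Bar J) → ∀ e ∈ E, Fixes ⁅y, e⁆ J) :
    Func52.Hyp E := by
  have sq : ∀ e ∈ E, e * e = 1 := fun e he => by rw [← pow_two]; exact elem.2 e he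
  exact
    { elem := elem
      card := card
      w2 := by
        intro D hD hD4 c hc hc1
        rw [commutator_le]
        rintro z ⟨hz, hzc⟩ e he
        exact w2 hT sq nrm sev hD hD4 hc hc1 (fun d hd hd1 => Func52.delta_le hd hd1 hz) hzc he
      b3 := by
        rintro U hU hU8 c hc hc1 z ⟨hz, hzc⟩
        exact b3 hT sq hU (by omega) hc hc1 (fun d hd hd1 => Func52.delta_le hd hd1 hz) hzc }

end Cfsg.Agent.UGT.N2S.FHyp
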