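import Cfsg.Agent.UGT.N2S.KF
import Cfsg.Agent.UGT.LTF.KF2
import Cfsg.Agent.UGT.Res.L2Fact
import Cfsg.Agent.UGT.A9.LTwoRank

/-!
# The K-facts `K2` on `L₂(q)`
-/

set_option autoImplicit false

open Cfsg Subgroup
open Cfsg.Agent.GH.L2Aut Cfsg.Agent.Lib.SL2Mat
open Cfsg.Agent.UGT.Iface (IsL2)
open Cfsg.Agent.UGT.LTF.KF2
open Cfsg.Agent.UGT.LTF.Defs (OddC)

namespace Cfsg.Agent.UGT.N2S

universe u

section rep

variable {F : Type*} [Field F] [Finite F] {L : Type*} [Group L] (R : Cfsg.Agent.GH.L2Aut.Rep F L)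

/-- in characteristic 3, elements of order 3 are not centralized by an involution of `PGL` -/
theorem eq_one_of_three (h3 : (3 : F) = 0) {g : GL (Fin 2) F} (htr : g.1.trace = 0)
    (hs : ∀ c : F, g.1 ≠ c • (1 : Matrix (Fin 2) (Fin 2) F)) {b : L} (hb : b ^ 3 = 1) (hbT : b ∈ Tor R g) :
    b = 1 := by
  obtain ⟨r, hr⟩ := IsAlgClosed.exists_pow_nat_eq (- algebraMap F (AlgebraicClosure F) g.1.det) (n := 2) (by norm_num)
  rw [sq] at hr
  obtain ⟨t, h1, h2⟩ := hbT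
  obtain ⟨ρ, hρ⟩ := wt_exists R htr hs hr h1 h2
  have h4 := wt_mul R htr hr (wt_mul R htr hr hρ hρ) hρ
  have h5 : b * b * b = 1 := by rw [← hb, pow_succ, pow_two]
  rw [h5] at h4
  have h6 : ρ * ρ * ρ = 1 := wt_unique R hs h4 (wt_one R)
  have h7 : (3 : AlgebraicClosure F) = 0 := by
    rw [← map_ofNat (algebraMap F (AlgebraicClosure F)) 3, h3, map_zero]
  have h8 : (ρ - 1) ^ 3 = 0 := by
    linear_combination h6 + (- ρ * ρ + ρ) * h7
  have h9 : ρ = 1 := sub_eq_zero.1 (pow_eq_zero_iff (by norm_num) |>.1 h8)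
  rw [h9] at hρ
  exact eq_one_of_wt R hr hρ

include R in
theorem cent {ξ : MulAut L} (hF : 3 < Nat.card F) (hξ : ξ * ξ = 1) {E : Subgroup (MulAut L)} (hE : OddC ξ E) {b : L}
    (hb3 : b ^ 3 = 1) (hb1 : b ≠ 1) (hbE : MulAut.conj b ∈ E) {ω : MulAut L} (hω : ω * ω = 1)
    (hc : ω * ξ = ξ * ω) (hωb : ω b = b) : ω = 1 ∨ ω = ξ ∨
      ∃ M : Subgroup L, (∀ m ∈ M, ω m = m) ∧ (∀ l, ω l = l → ∀ m ∈ M, l * m * l⁻¹ ∈ M) ∧
        IsSimpleGroup M ∧ 2 ∣ Nat.card M ∧ (∃ m ∈ M, ∃ m' ∈ M, m * m' ≠ m' * m) ∧ b ∈ M := by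
  have hfin : Finite L := R.finite
  have hbo : Odd (orderOf b) := by
    have h1 := orderOf_dvd_of_pow_eq_one hb3
    exact Odd.of_dvd_nat (by decide) h1
  -- the group `E₀ = {e | conj e ∈ E}`
  obtain ⟨E₀, hE₀⟩ : ∃ E₀, E₀ = E.comap (MulAut.conj : L →* MulAut L) := ⟨_, rfl⟩
  have hE₀odd : Odd (Nat.card E₀) := by
    have h1 : Nat.card ↥(E₀.map (MulAut.conj : L →* MulAut L)) = Nat.card E₀ :=
      Subgroup.card_map_of_injective R.conj_injective
    rw [← h1, hE₀]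
    exact Odd.of_dvd_nat hE.odd (Subgroup.card_dvd_of_le (Subgroup.map_comap_le _ _))
  have hE₀c : ∀ e ∈ E₀, ξ e = e := by
    intro e he
    rw [hE₀] at he
    have h1 := hE.com _ he
    apply R.conj_injective
    have h2 : MulAut.conj (ξ e) = ξ * MulAut.conj e * ξ⁻¹ := by
      ext l
      simp [MulAut.mul_apply]
    rw [h2, ← h1, mul_inv_cancel_right]
  have hE₀n : ∀ l, ξ l = l → ∀ e ∈ E₀, l * e * l⁻¹ ∈ E₀ := by
    intro l hl e he
    rw [hE₀] at he ⊢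
    have h1 := hE.nor l hl _ he
    rw [mem_comap, map_mul, map_mul, map_inv]
    exact h1
  have hbE₀ : b ∈ E₀ := by rw [hE₀]; exact hbE
  have hξ1 : ξ ≠ 1 := by
    rintro rfl
    have hN : E₀.Normal := ⟨fun e he g => hE₀n g rfl e he⟩
    have h1 := Cfsg.Agent.UGT.Res.L2Fact.odd_normal R hF.le hN hE₀odd
    rw [h1, mem_bot] at hbE₀
    exact hb1 hbE₀
  have hξf : R.fld ξ = 1 := by
    by_contra hf
    have h1 := field_bot R hξ hf hE₀odd hE₀c hE₀n
    rw [h1, mem_bot] at hbE₀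
    exact hb1 hbE₀
  have hξb : ξ b = b := hE₀c b hbE₀
  by_cases hω1 : ω = 1
  · exact Or.inl hω1
  by_cases hf : R.fld ω = 1
  · right; left
    exact Cfsg.Agent.UGT.Res.L2Fact.pgl_eq_of_fix R (R.mem_PGL_iff_fld.2 hξf) hξ1 hξ
      (R.mem_PGL_iff_fld.2 hf) hω1 hω hb1 hbo hξb hωb
  right; right
  have hσ2 : R.fld ω * R.fld ω = 1 := by rw [← map_mul, hω, map_one]
  have ho : orderOf (R.fld ω) = 2 := by
    apply orderOf_eq_prime
    · rw [sq, hσ2]
    · exact hf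
  obtain ⟨g, hg⟩ := R.mem_PGL.1 (R.mem_PGL_iff_fld.2 hξf)
  have hg1 : R.gl g ≠ 1 := fun h => hξ1 (by rw [hg, h])
  have hT : b ∈ Tor R g := by
    have h1 : zpowers b ≤ Tor R g := by
      apply le_tor R
      · rwa [Nat.card_zpowers]
      · intro e he
        obtain ⟨k, rfl⟩ := mem_zpowers_iff.1 he
        rw [← hg, map_zpow, hξb]
    exact h1 (mem_zpowers b)
  have h30 : (3 : F) ≠ 0 := by
    intro h3
    apply hb1
    refine eq_one_of_three R h3 (R.tr_of_inv hg1 (by rw [← hg]; exact hξ)) (R.not_scalar_of_ne hg1) hb3 hT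
  obtain ⟨R', -, -, hR⟩ := R.exists_rep ω (by rw [ho, sq, hω])
  generalize R.fld ω = σ at hf hσ2 ho hR
  subst hR
  obtain ⟨K, hK, hcard⟩ := exists_fixed_field σ
  obtain ⟨w, hw, hws, hcov⟩ := R'.exists_outer (ho ▸ even_two) hK hcard
  have hK2 : Odd (Nat.card K) := by
    have h1 := odd_card R'.two
    rw [hcard] at h1
    exact (Nat.odd_pow_iff (by rw [ho]; norm_num)).1 h1
  have hK1 : 1 < Nat.card K := Finite.one_lt_card
  have hK3 : 3 < Nat.card K := by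
    obtain ⟨k, hk⟩ := hK2
    rcases Nat.lt_or_ge 3 (Nat.card K) with h | h
    · exact h
    · exfalso
      have h4 : Nat.card K = 3 := by omega
      rw [h4, ho] at hcard
      apply h30
      have := Fintype.ofFinite F
      have h5 : ((Nat.card F : ℕ) : F) = 0 := by
        rw [Nat.card_eq_fintype_card]
        exact FiniteField.cast_card_eq_zero F
      rw [hcard] at h5
      have h6 : (3 : F) * 3 = 0 := by
        have h7 : (((3 ^ 2 : ℕ)) : F) = 3 * 3 := by push_cast; ring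
        rw [← h7]; exact h5
      rcases mul_eq_zero.1 h6 with h | h <;> exact h
  refine ⟨R'.sub K, R'.sub_le_fix hK, ?_, A9.LTwo.simple_rep (R'.subRep K) hK3,
    A9.LTwo.two_dvd_rep (R'.subRep K), ?_, ?_⟩
  · intro l hl m hm
    exact Cfsg.Agent.UGT.Res.L2Fact.sub_normal R' (ho ▸ even_two) hK hcard hl hm
  · by_contra hcon
    push Not at hcon
    have h1 : center ↥(R'.sub K) = ⊤ := by
      rw [eq_top_iff]
      rintro ⟨m, hm⟩ -
      rw [Subgroup.mem_center_iff]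
      rintro ⟨m', hm'⟩
      exact Subtype.ext (hcon m' hm' m hm)
    rw [(R'.subRep K).center_eq_bot] at h1
    have h2 := A9.LTwo.two_dvd_rep (R'.subRep K)
    have h3 : Nat.card ↥(R'.sub K) = 1 := by
      have h4 : Nat.card ↥(⊤ : Subgroup ↥(R'.sub K)) = 1 := by rw [← h1, Subgroup.card_bot]
      rwa [Subgroup.card_top] at h4
    omega
  · apply mem_of_sq hbo
    by_cases h : b ∈ R'.sub K
    · exact mul_mem h h
    · have h1 := hcov b hωb h
      have h2 := hcov b⁻¹ ((fixSub (R'.fa σ)).inv_mem hωb) (fun h3 => h (inv_mem_iff.1 h3))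
      have h3 := mul_mem (inv_mem h2) h1
      have h4 : (w * b⁻¹)⁻¹ * (w * b) = b * b := by group
      rwa [h4] at h3

include R in
theorem out {α β : MulAut L} (hβ : Odd (orderOf β)) (hab : α * β * α⁻¹ = β⁻¹) :
    ∃ l, β = MulAut.conj l := by
  have h1 : R.fld β = 1 := by
    have h2 : R.fld β * R.fld β = 1 := by
      have h3 := congrArg R.fld hab
      rw [map_mul, map_mul, map_inv, map_inv] at h3
      have h4 : R.fld α * R.fld β = R.fld β * R.fld α := Cfsg.Agent.Lib.AutSL2Out.ringEquiv_comm _ _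
      rw [h4, mul_inv_cancel_right] at h3
      exact mul_eq_one_iff_eq_inv.2 h3
    have h5 : R.fld β ∈ (⊥ : Subgroup (F ≃+* F)) :=
      mem_of_sq (Odd.of_dvd_nat hβ (orderOf_map_dvd _ _)) (by rw [h2]; exact one_mem _)
    exact mem_bot.1 h5
  have h2 : R.o1 β = 1 := by
    have h5 : R.o1 β ∈ (⊥ : Subgroup ℤˣ) :=
      mem_of_sq (Odd.of_dvd_nat hβ (orderOf_map_dvd _ _)) (by
        rw [Int.units_mul_self]; exact one_mem _)
    exact mem_bot.1 h5
  obtain ⟨l, hl⟩ := R.mem_inn_iff.2 ⟨h1, h2⟩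
  exact ⟨l, hl.symm⟩

include R in
theorem rank {A : Subgroup L} (hA : ∀ a ∈ A, a * a = 1) : Nat.card A ≤ 4 := by
  have h1 := A9.LTwo.card_inn_le R (A := A.map (MulAut.conj : L →* MulAut L)) ?_ ?_
  · rwa [Subgroup.card_map_of_injective R.conj_injective] at h1
  · rintro _ ⟨a, -, rfl⟩
    exact ⟨a, rfl⟩
  · rintro _ ⟨a, ha, rfl⟩
    rw [← map_mul, hA a ha, map_one]

end rep

/-- **`K2`** -/
theorem k2 : K2.{u} where
  cen D _ hD := (kf2 D hD).1
  rank := by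
    rintro D _ ⟨F, _, _, hodd, -, ⟨e⟩⟩ A hA
    exact rank (Rep.ofEquiv (two_ne_zero_of_odd hodd) e) hA
  out := by
    rintro D _ ⟨F, _, _, hodd, -, ⟨e⟩⟩ α β hβ hab
    exact out (Rep.ofEquiv (two_ne_zero_of_odd hodd) e)
      (Odd.of_dvd_nat (by decide) (orderOf_dvd_of_pow_eq_one hβ)) hab
  cent := by
    rintro D _ ⟨F, _, _, hodd, h5, ⟨e⟩⟩ ξ hξ E hE b hb3 hb1 hbE ω hω hc hωb
    refine cent (Rep.ofEquiv (two_ne_zero_of_odd hodd) e) ?_ hξ hE hb3 hb1 hbE hω hc hωb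
    rw [Nat.card_eq_fintype_card]
    omega

end Cfsg.Agent.UGT.N2S
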