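import Cfsg.Agent.UGT.N2S.KF
import Cfsg.Agent.UGT.LTF.KFA
import Cfsg.Agent.UAlt.Bij

/-!
# The K-facts `KA` on `Aₙ`
-/

set_option autoImplicit false

open Cfsg Subgroup Equiv Equiv.Perm
open Cfsg.Agent.UAlt
open Cfsg.Agent.SignalizersComponents Cfsg.Agent.Lib
open Cfsg.Agent.SignalizersComponents.IntrinsicBasic
open Cfsg.Agent.Intrinsic.Basic
open Cfsg.Agent.UGT.Iface (IsAltOdd)
open Cfsg.Agent.UGT.LTF.Defs Cfsg.Agent.UGT.LTF.KFA

namespace Cfsg.Agent.UGT.N2S

universe u

section perm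

variable {α : Type*} [Fintype α] [DecidableEq α]

/-- the alternating group on three points -/
theorem card_alt_three {S : Finset α} (hS : S.card = 3) : Nat.card ↥(alt S) ≤ 3 := by
  have h1 := card_alt (S := S) (by omega)
  rw [hS, show Nat.factorial 3 = 6 from rfl] at h1
  omega

/-- a product of two transpositions off a small set -/
theorem exists_even {S : Finset α} (h : S.card + 4 ≤ Fintype.card α) : ∃ g : Perm α, g ∈ alternatingGroup α ∧
    g * g = 1 ∧ g ≠ 1 ∧ ∀ x ∈ S, g x = x := by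
  classical
  have h1 : 4 ≤ (Sᶜ : Finset α).card := by rw [Finset.card_compl]; omega
  obtain ⟨p1, hp1⟩ : (Sᶜ : Finset α).Nonempty := Finset.card_pos.mp (by omega)
  obtain ⟨p2, hp2⟩ : ((Sᶜ : Finset α).erase p1).Nonempty := by
    apply Finset.card_pos.mp
    have e1 := Finset.pred_card_le_card_erase (s := (Sᶜ : Finset α)) (a := p1)
    omega
  obtain ⟨p3, hp3⟩ : (((Sᶜ : Finset α).erase p1).erase p2).Nonempty := by
    apply Finset.card_pos.mp
    have e1 := Finset.pred_card_le_card_erase (s := (Sᶜ : Finset α)) (a := p1)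
    have e2 := Finset.pred_card_le_card_erase (s := (Sᶜ : Finset α).erase p1) (a := p2)
    omega
  obtain ⟨p4, hp4⟩ : ((((Sᶜ : Finset α).erase p1).erase p2).erase p3).Nonempty := by
    apply Finset.card_pos.mp
    have e1 := Finset.pred_card_le_card_erase (s := (Sᶜ : Finset α)) (a := p1)
    have e2 := Finset.pred_card_le_card_erase (s := (Sᶜ : Finset α).erase p1) (a := p2)
    have e3 := Finset.pred_card_le_card_erase (s := ((Sᶜ : Finset α).erase p1).erase p2) (a := p3)
    omega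
  simp only [Finset.mem_erase, Finset.mem_compl] at hp1 hp2 hp3 hp4
  obtain ⟨a1, a2⟩ := hp2
  obtain ⟨b1, b2, b3⟩ := hp3
  obtain ⟨c1, c2, c3, c4⟩ := hp4
  have hd : swap p1 p2 * swap p3 p4 = swap p3 p4 * swap p1 p2 := by
    have h2 : Perm.Disjoint (swap p1 p2) (swap p3 p4) := by
      intro x
      by_cases hx : x = p1 ∨ x = p2
      · right
        rcases hx with rfl | rfl
        · exact swap_apply_of_ne_of_ne (Ne.symm b2) (Ne.symm c3)
        · exact swap_apply_of_ne_of_ne (Ne.symm b1) (Ne.symm c2)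
      · left
        push Not at hx
        exact swap_apply_of_ne_of_ne hx.1 hx.2
    exact h2.commute
  refine ⟨swap p1 p2 * swap p3 p4, ?_, ?_, ?_, ?_⟩
  · rw [mem_alternatingGroup, Perm.sign_mul, sign_swap (Ne.symm a1), sign_swap (Ne.symm c1)]
    rfl
  · calc swap p1 p2 * swap p3 p4 * (swap p1 p2 * swap p3 p4)
        = swap p1 p2 * (swap p3 p4 * swap p1 p2) * swap p3 p4 := by group
      _ = (swap p1 p2 * swap p1 p2) * (swap p3 p4 * swap p3 p4) := by rw [← hd]; group
      _ = 1 := by rw [swap_mul_self, swap_mul_self, one_mul]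
  · intro h2
    have h3 := congrArg (fun f : Perm α => f p1) h2
    simp only [Perm.mul_apply, Perm.one_apply] at h3
    rw [swap_apply_of_ne_of_ne (Ne.symm b2) (Ne.symm c3), swap_apply_left] at h3
    exact a1 h3
  · intro x hx
    rw [Perm.mul_apply, swap_apply_of_ne_of_ne (x := x) (a := p3) (b := p4) (fun h => b3 (h ▸ hx))
      (fun h => c4 (h ▸ hx)), swap_apply_of_ne_of_ne (x := x) (a := p1) (b := p2) (fun h => hp1 (h ▸ hx))
      (fun h => a2 (h ▸ hx))]

end perm

theorem alt_main {D : Type*} [Group D] {n : ℕ} (h7 : 7 ≤ n)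
    (e0 : D ≃* ↥(alternatingGroup (Fin n))) {ξ : MulAut D} (hξ : ξ * ξ = 1)
    {E : Subgroup (MulAut D)} (hE : OddC ξ E) (hE1 : E ≠ ⊥) :
    Nat.card E = 3 ∧ ∀ C : Subgroup D, (∀ c, c ∈ C ↔ ∀ ε ∈ E, ε c = c) → 2 ∣ Nat.card C := by
  obtain ⟨ε, χ, hε, hr, hχ, hconj, hχi⟩ := exists_hom h7 e0
  have hc : (Finset.univ : Finset (Fin n)).card = n := by rw [Finset.card_univ, Fintype.card_fin]
  obtain ⟨σ, hσ⟩ : ∃ σ, σ = χ ξ := ⟨_, rfl⟩
  have hσσ : σ * σ = 1 := by rw [hσ, ← map_mul, hξ, map_one]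
  have hσS : σ ∈ sym (Finset.univ : Finset (Fin n)) := by rw [sym_univ]; trivial
  have hodd : Odd (Nat.card (E.map χ)) := by
    rw [Subgroup.card_map_of_injective hχi]; exact hE.odd
  have hcomm : ∀ d, ε d * σ = σ * ε d → ξ d = d := by
    intro d h
    apply hε
    rw [hχ, ← hσ, ← h, mul_inv_cancel_right]
  have hle : E.map χ ≤ core (alt (Finset.univ : Finset (Fin n)) ⊓
      centralizer ({σ} : Set (Perm (Fin n)))) := by
    have key : ∀ g ∈ alt (Finset.univ : Finset (Fin n)) ⊓ centralizer ({σ} : Set (Perm (Fin n))),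
        ∀ f ∈ E.map χ, g * f * g⁻¹ ∈ E.map χ := by
      rintro g ⟨hg, hgσ⟩ _ ⟨f, hf, rfl⟩
      rw [alt_univ] at hg
      obtain ⟨d, rfl⟩ := (hr g).mp hg
      refine ⟨_, hE.nor d (hcomm d (mem_centralizer_singleton_iff.mp hgσ)) f hf, ?_⟩
      rw [map_mul, map_mul, map_inv, hconj]
    refine le_core ?_ ?_ hodd
    · intro g hg
      refine ⟨?_, ?_⟩
      · rw [alt_univ]; exact Mod.even_of_odd hodd hg
      · obtain ⟨f, hf, rfl⟩ := hg
        refine mem_centralizer_singleton_iff.mpr ?_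
        rw [hσ, ← map_mul, hE.com f hf, map_mul]
    · intro g hg
      rw [mem_normalizer_iff]
      intro f
      refine ⟨key g hg f, fun h => ?_⟩
      have h1 := key g⁻¹ (inv_mem hg) _ h
      convert h1 using 1
      group
  have h3 : (fixIn (Finset.univ : Finset (Fin n)) σ).card = 3 := by
    by_contra h
    rw [core_cent hσS hσσ h, le_bot_iff, Subgroup.map_eq_bot_iff_of_injective _ hχi] at hle
    exact hE1 hle
  obtain ⟨S, hS⟩ : ∃ S, S = fixIn (Finset.univ : Finset (Fin n)) σ := ⟨_, rfl⟩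
  have hES : E.map χ ≤ alt S := hS ▸ hle.trans (core_cent_le hσS hσσ)
  rw [← hS] at h3
  constructor
  · have h4 : Nat.card E ≤ 3 := by
      rw [← Subgroup.card_map_of_injective hχi]
      exact (Subgroup.card_le_of_le hES).trans (card_alt_three h3)
    have h5 : Nat.card E ≠ 1 := fun h => hE1 (Subgroup.card_eq_one.1 h)
    have h6 := hE.odd
    obtain ⟨k, hk⟩ := h6
    omega
  · intro C hC
    obtain ⟨g, hg1, hg2, hg3, hg4⟩ := exists_even (S := S) (by rw [Fintype.card_fin]; omega)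
    obtain ⟨c, rfl⟩ := (hr g).1 hg1
    have hcC : c ∈ C := by
      rw [hC]
      intro δ hδ
      apply hε
      rw [hχ]
      have h5 : χ δ ∈ alt S := hES ⟨δ, hδ, rfl⟩
      have h6 : χ δ * ε c = ε c * χ δ := by
        ext i
        rw [Perm.mul_apply, Perm.mul_apply]
        by_cases hi : i ∈ S
        · rw [hg4 i hi, hg4 _ (mem_of_mem_sym (alt_le_sym _ h5) hi)]
        · rw [h5.2 i hi, h5.2]
          intro h7
          have h8 := hg4 _ h7
          have h9 := (ε c).injective h8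
          rw [h9] at h7
          exact hi h7
      rw [h6, mul_inv_cancel_right]
    have h5 : orderOf (⟨c, hcC⟩ : ↥C) = 2 := by
      apply orderOf_eq_prime
      · apply Subtype.ext
        apply hε
        show ε (c ^ 2) = ε 1
        rw [pow_two, map_mul, hg2, map_one]
      · intro h6
        apply hg3
        rw [show c = 1 from congrArg Subtype.val h6, map_one]
    rw [← h5]
    exact orderOf_dvd_natCard _

/-- **`KA`** -/
theorem ka : KA.{u} := by
  rintro D _ ⟨n, -, h7, ⟨e0⟩⟩ ξ hξ E hE hE1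
  exact alt_main h7 e0 hξ hE hE1

end Cfsg.Agent.UGT.N2S
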