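import Cfsg.Agent.UGT.N2S.Base
import Cfsg.Agent.SporadicA.FieldFour
import Cfsg.Agent.UGT.Tri

/-!
# The pump-up of a triple of type `L₃(4)` is trivial or diagonal, of type `L₃(4)`
-/

set_option autoImplicit false

open Cfsg Subgroup
open Cfsg.Agent.SignalizersComponents Cfsg.Agent.Lib
open Cfsg.Agent.SignalizersComponents.IntrinsicBasic
open Cfsg.Agent.SignalizersComponents.PLayerAut
open Cfsg.Agent.Intrinsic.Basic Cfsg.Agent.Intrinsic.Cen Cfsg.Agent.Intrinsic.Diag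
open Cfsg.Agent.McLLyComp.Act
open Cfsg.Agent.UGT.Triple Cfsg.Agent.UGT.TriBase Cfsg.Agent.UGT.Res.Base
open Cfsg.Agent.UGT.PumpGen (fixes_of_pump)
open Cfsg.Agent.UGT.Iface (Bar IsL2 IsL34 IsAltOdd)
open Cfsg.Agent.UGT.LTF.Defs
open Cfsg.Agent.UGT.LTF.Basics (img mem_img img_ne)
open scoped commutatorElement

namespace Cfsg.Agent.UGT.N2S

universe u

theorem card_l34 {A B : Type*} [Group A] [Group B] (hA : IsL34 A) (hB : IsL34 B) :
    Nat.card A = Nat.card B := by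
  obtain ⟨F, i, j, hF, ⟨e⟩⟩ := hA
  obtain ⟨F', i', j', hF', ⟨e'⟩⟩ := hB
  obtain ⟨f⟩ := Cfsg.Agent.SporadicA.FieldFour.nonempty_psl_equiv (n := Fin 3) F hF
  obtain ⟨f'⟩ := Cfsg.Agent.SporadicA.FieldFour.nonempty_psl_equiv (n := Fin 3) F' hF'
  exact Nat.card_congr (((e.trans f.symm).trans f').trans e'.symm).toEquiv

variable {G : Type u} [Group G]

theorem isPGroup_of_sq {g : G} (hg : g * g = 1) : IsPGroup 2 ↥(zpowers g) := by
  rintro ⟨y, hy⟩
  obtain ⟨k, rfl⟩ := mem_zpowers_iff.mp hy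
  refine ⟨1, Subtype.ext ?_⟩
  change (g ^ k) ^ 2 ^ 1 = 1
  rw [← zpow_natCast, ← zpow_mul, mul_comm, zpow_mul, zpow_natCast, pow_one, pow_two, hg, one_zpow]

variable [Finite G] {x a : G} {L : Subgroup G}

omit [Finite G] in
theorem eq_or_inv_of_card_three {A : Type*} [Group A] {E : Subgroup A} (hE : Nat.card E = 3) {u v : A}
    (hu : u ∈ E) (hv : v ∈ E) (hu1 : u ≠ 1) (hv1 : v ≠ 1) : u = v ∨ u = v⁻¹ := by
  have hp : Fact (Nat.Prime 3) := ⟨Nat.prime_three⟩
  have h1 : zpowers (⟨v, hv⟩ : E) = ⊤ := by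
    apply zpowers_eq_top_of_prime_card (p := 3) hE
    intro h
    exact hv1 (congrArg Subtype.val h)
  have h2 : (⟨u, hu⟩ : E) ∈ zpowers (⟨v, hv⟩ : E) := by rw [h1]; trivial
  obtain ⟨k, hk⟩ := mem_zpowers_iff.mp h2
  have hk' : v ^ k = u := congrArg Subtype.val hk
  have hv3 : v ^ 3 = 1 := by
    have h3 : (⟨v, hv⟩ : E) ^ 3 = 1 := by rw [← hE]; exact pow_card_eq_one'
    exact congrArg Subtype.val h3
  have hz3 : v ^ (3 : ℤ) = 1 := by exact_mod_cast hv3
  have h4 : v ^ k = v ^ (k % 3) := by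
    conv_lhs => rw [← Int.emod_add_mul_ediv k 3, zpow_add, zpow_mul, hz3, one_zpow, mul_one]
  have h5 : k % 3 = 0 ∨ k % 3 = 1 ∨ k % 3 = 2 := by omega
  rcases h5 with h5 | h5 | h5
  · rw [h5, zpow_zero] at h4
    exact absurd (hk'.symm.trans h4) hu1
  · rw [h5, zpow_one] at h4
    exact Or.inl (hk'.symm.trans h4)
  · right
    rw [h5] at h4
    rw [← hk', h4]
    have : v ^ (2 : ℤ) * v = 1 := by
      rw [← zpow_add_one]; exact hz3
    exact eq_inv_of_mul_eq_one_left this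

/-- an elementary abelian group of order 8 in `M` -/
theorem KFs.exists_elem (K : KFs.{u}) {M : Subgroup G} (hM : IsL34 (Bar M)) :
    ∃ S : Subgroup G, S ≤ M ∧ Nat.card S = 8 ∧ ∀ s ∈ S, s * s = 1 := by
  have hp : Fact (Nat.Prime 2) := ⟨Nat.prime_two⟩
  obtain ⟨A, hA, hA2⟩ := K.kE _ hM
  obtain ⟨P, hP⟩ : ∃ P : Subgroup G, P = (A.comap (QuotientGroup.mk' (oddCore ↥M))).map M.subtype := ⟨_, rfl⟩
  have hPM : P ≤ M := by rw [hP]; exact map_subtype_le _
  have hmem : ∀ m (hm : m ∈ M), m ∈ P ↔ (QuotientGroup.mk ⟨m, hm⟩ : Bar M) ∈ A := by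
    intro m hm
    rw [hP]
    constructor
    · rintro ⟨m', hm', rfl⟩
      exact hm'
    · intro h
      exact ⟨⟨m, hm⟩, h, rfl⟩
  have hcard : 2 ^ 3 ∣ Nat.card P := by
    have h1 : Nat.card P = Nat.card (A.comap (QuotientGroup.mk' (oddCore ↥M))) := by
      rw [hP]; exact card_map_of_injective (subtype_injective _)
    rw [h1]
    have h2 : (A.comap (QuotientGroup.mk' (oddCore ↥M))).map (QuotientGroup.mk' (oddCore ↥M)) = A :=
      map_comap_eq_self_of_surjective (QuotientGroup.mk'_surjective _) A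
    have h3 := card_map_dvd (A.comap (QuotientGroup.mk' (oddCore ↥M))) (QuotientGroup.mk' (oddCore ↥M))
    rw [h2, hA] at h3
    exact h3
  obtain ⟨S, hS, -⟩ := exists_isSyl (R₀ := (⊥ : Subgroup G)) (E := P) (IsPGroup.of_bot) bot_le
  have hS8 := hS.dvd_card hcard
  have hSP := hS.le
  -- squares are trivial
  have hsq : ∀ s ∈ S, s * s = 1 := by
    intro s hs
    have hsM := hPM (hSP hs)
    have h1 := hA2 _ ((hmem s hsM).mp (hSP hs))
    have h2 : (QuotientGroup.mk ⟨s * s, mul_mem hsM hsM⟩ : Bar M) = 1 := h1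
    rw [mk_eq_one_iff] at h2
    obtain ⟨n, hn⟩ := hS.two ⟨s * s, mul_mem hs hs⟩
    exact eq_one_of_mem_core h2 (congrArg Subtype.val hn)
  refine ⟨S, hSP.trans hPM, ?_, hsq⟩
  refine le_antisymm ?_ (Nat.le_of_dvd Nat.card_pos hS8)
  rw [← hA]
  have hfin : Finite A := Nat.finite_of_card_ne_zero (by rw [hA]; norm_num)
  refine Nat.card_le_card_of_injective (fun s : S => (⟨QuotientGroup.mk ⟨s, hPM (hSP s.2)⟩,
    (hmem _ _).mp (hSP s.2)⟩ : A)) ?_
  intro s s' h
  have h1 : (QuotientGroup.mk ⟨(s : G), hPM (hSP s.2)⟩ : Bar M) = QuotientGroup.mk ⟨s', hPM (hSP s'.2)⟩ :=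
    congrArg Subtype.val h
  rw [mk_eq_iff] at h1
  have h2 : (s : G)⁻¹ * s' ∈ S := mul_mem (inv_mem s.2) s'.2
  have h3 := eq_one_of_mem_core_sq h1 (hsq _ h2)
  exact Subtype.ext (inv_mul_eq_one.mp h3)

/-- a 2-group of `N` has the same order modulo the core -/
theorem card_img {N S : Subgroup G} (hSN : S ≤ N) (hsq : ∀ s ∈ S, s * s = 1) :
    Nat.card ((S.subgroupOf N).map (QuotientGroup.mk' (oddCore ↥N))) = Nat.card S := by
  rw [← Nat.card_congr (subgroupOfEquivOfLe hSN).toEquiv]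
  symm
  refine Nat.card_congr (Equiv.ofBijective (fun s : S.subgroupOf N =>
    (⟨QuotientGroup.mk' (oddCore ↥N) s, ⟨s, s.2, rfl⟩⟩ :
      (S.subgroupOf N).map (QuotientGroup.mk' (oddCore ↥N)))) ⟨?_, ?_⟩)
  · intro s s' h
    have h1 : (QuotientGroup.mk (⟨(s : ↥N), (s : ↥N).2⟩ : ↥N) : Bar N) = QuotientGroup.mk ⟨(s' : ↥N), (s' : ↥N).2⟩ :=
      congrArg Subtype.val h
    rw [mk_eq_iff] at h1
    have h2 : ((s : ↥N) : G)⁻¹ * ((s' : ↥N) : G) ∈ S := mul_mem (inv_mem s.2) s'.2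
    have h3 := eq_one_of_mem_core_sq h1 (hsq _ h2)
    exact Subtype.ext (Subtype.ext (inv_mul_eq_one.mp h3))
  · rintro ⟨_, s, hs, rfl⟩
    exact ⟨⟨s, hs⟩, rfl⟩

/-- `O(C(x)) ∩ C(a) ∩ C(c)` acts on `L / O(L)` as `O(C(x))`: two independent elements. -/
theorem KFs.exists_indep (K : KFs.{u}) (T : TT x a L) {c : G} (hc : orderOf c = 2) (hca : c * a = a * c)
    (hcx : c * x = x * c) (hcL : Fixes c L) : ∃ d e : G,
      (d ∈ core (centralizer ({x} : Set G)) ∧ d * a = a * d ∧ d * c = c * d) ∧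
      (e ∈ core (centralizer ({x} : Set G)) ∧ e * a = a * e ∧ e * c = c * e) ∧
      ¬ Fixes d L ∧ ¬ Fixes e L ∧ ¬ Fixes (d * e) L ∧ ¬ Fixes (d * e⁻¹) L := by
  obtain ⟨F, F3⟩ := K.ft T
  obtain ⟨d₀, hd₀, hda₀, hdc₀, hf₀⟩ := T.exists_bad hc hca hcx hcL
  have hc2 := sq_of_order hc
  have hx2 := sq_of_order T.invx
  have ha2 := sq_of_order T.inva
  obtain ⟨ξ, hξ⟩ : ∃ ξ, ξ = act L ⟨x, T.x_mem⟩ := ⟨_, rfl⟩
  rw [← hξ] at F F3
  -- the group `E`
  obtain ⟨N, hN⟩ : ∃ N, N = core (centralizer ({x} : Set G)) ⊓ centralizer ({a} : Set G) ⊓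
    centralizer ({c} : Set G) := ⟨_, rfl⟩
  have hNm : ∀ d, d ∈ N ↔ d ∈ core (centralizer ({x} : Set G)) ∧ d * a = a * d ∧ d * c = c * d := by
    intro d
    rw [hN, mem_inf, mem_inf]
    exact ⟨fun h => ⟨h.1.1, comm_c h.1.2, comm_c h.2⟩, fun h => ⟨⟨h.1, mem_c h.2.1⟩, mem_c h.2.2⟩⟩
  have hNL : N ≤ normalizer (L : Set G) := by
    intro d hd
    have h := (hNm d).mp hd
    exact T.mem_normalizer_of_core h.1 (mem_c h.2.1)
  obtain ⟨y₀, hy₀, hy3, hyx⟩ := F.core _ (hξ ▸ oddC' T.toIsTriple) _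
    (mem_img.mpr ⟨d₀, hNL ((hNm d₀).mpr ⟨hd₀, comm_c hda₀, comm_c hdc₀⟩), hd₀, comm_c hda₀, rfl⟩)
  have hy1 : y₀ ≠ 1 := by
    rintro rfl
    rw [map_one, act_eq_one_iff] at hy₀
    exact hf₀ hy₀
  -- elements of `C_{L/O(L)}(x)` lift to `C_L(x) ∩ C(c)`
  have hlift : ∀ r : Bar L, ξ r = r → ∃ m, ∃ hm : m ∈ L, m * x = x * m ∧ m * c = c * m ∧
      QuotientGroup.mk ⟨m, hm⟩ = r := by
    intro r hr
    obtain ⟨⟨m, hm⟩, rfl⟩ := QuotientGroup.mk_surjective r
    have hP : IsPGroup 2 ↥(zpowers x ⊔ zpowers c) := by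
      refine Tri.isPGroup_sup_zpowers (isPGroup_of_sq hx2) ?_ (n := 1) ?_
      · rw [mem_normalizer_iff_cj, cj, MonoidHom.map_zpowers]
        have : (MulAut.conj c).toMonoidHom x = x := by
          simp only [MulEquiv.coe_toMonoidHom, MulAut.conj_apply]
          rw [hcx, mul_inv_cancel_right]
        rw [this]
      · rw [pow_one, pow_two, hc2]
    have hfix : ∀ g ∈ zpowers x ⊔ zpowers c, g ∈ normalizer (L : Set G) ∧ m⁻¹ * (g * m * g⁻¹) ∈ core L := by
      obtain ⟨Q, hQ⟩ : ∃ Q : Subgroup G, ∀ g, g ∈ Q ↔ g ∈ normalizer (L : Set G) ∧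
          m⁻¹ * (g * m * g⁻¹) ∈ core L := by
        refine ⟨{ carrier := {g | g ∈ normalizer (L : Set G) ∧ m⁻¹ * (g * m * g⁻¹) ∈ core L}
                  mul_mem' := ?_
                  one_mem' := ⟨one_mem _, by simp⟩
                  inv_mem' := ?_ }, fun g => Iff.rfl⟩
        · rintro g h ⟨h1, h2⟩ ⟨h3, h4⟩
          refine ⟨mul_mem h1 h3, ?_⟩
          have h5 := conj_mem_core (x := g) h1 h4
          have h6 := mul_mem h2 h5
          convert h6 using 1
          group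
        · rintro g ⟨h1, h2⟩
          refine ⟨inv_mem h1, ?_⟩
          have h5 := conj_mem_core (x := g⁻¹) (inv_mem h1) (inv_mem h2)
          convert h5 using 1
          group
      have hx : x ∈ Q := by
        refine (hQ x).mpr ⟨T.x_mem, ?_⟩
        rw [hξ, act_mk T.x_mem hm] at hr
        exact (mk_eq_iff hm (conj_mem T.x_mem hm)).mp hr.symm
      have hcQ : c ∈ Q := by
        refine (hQ c).mpr ⟨hcL.1, ?_⟩
        exact (fixes_iff_conj.mp hcL).2 m hm
      have hle : zpowers x ⊔ zpowers c ≤ Q := sup_le (zpowers_le.mpr hx) (zpowers_le.mpr hcQ)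
      exact fun g hg => (hQ g).mp (hle hg)
    obtain ⟨o, ho, hco⟩ := Intrinsic.Lifting.exists_commute_group (odd_card_core L) hP
      (fun g hg => normalizer_le_normalizer_core L (hfix g hg).1) (fun g hg => (hfix g hg).2)
    refine ⟨m * o, mul_mem hm (core_le L ho), (hco x (mem_sup_left (mem_zpowers x))).symm,
      (hco c (mem_sup_right (mem_zpowers c))).symm, ?_⟩
    rw [mk_eq_iff]
    have : (m * o)⁻¹ * m = o⁻¹ := by group
    rw [this]
    exact inv_mem ho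
  -- `E` contains `conj Y`
  obtain ⟨E, hE⟩ : ∃ E : Subgroup (Bar L), ∀ y, y ∈ E ↔ ∃ d, ∃ hd : d ∈ N, act L ⟨d, hNL hd⟩ = MulAut.conj y := by
    refine ⟨((N.subgroupOf (normalizer (L : Set G))).map (act L)).comap MulAut.conj, fun y => ?_⟩
    rw [mem_comap]
    constructor
    · rintro ⟨⟨d, hd'⟩, hd, h⟩
      exact ⟨d, hd, h⟩
    · rintro ⟨d, hd, h⟩
      exact ⟨⟨d, hNL hd⟩, hd, h⟩
  have hE0 : ∀ r, ξ r = r → r * y₀ * r⁻¹ ∈ E := by
    intro r hr
    obtain ⟨m, hm, hmx, hmc, rfl⟩ := hlift r hr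
    have hma : m * a = a * m := comm_c (T.comp.le hm)
    have c1 : Commute m a := hma
    have c2 : Commute m c := hmc
    have hmN : m * d₀ * m⁻¹ ∈ N := by
      refine (hNm _).mpr ⟨conj_core (mem_c hmx) hd₀, ?_, ?_⟩
      · exact ((c1.mul_left (show Commute d₀ a from comm_c hda₀)).mul_left c1.inv_left).eq
      · exact ((c2.mul_left (show Commute d₀ c from comm_c hdc₀)).mul_left c2.inv_left).eq
    refine (hE _).mpr ⟨_, hmN, ?_⟩
    rw [map_mul, map_mul, map_inv, ← hy₀, ← act_of_mem hm, ← act_mul, ← act_inv, ← act_mul]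
  have hEY : ∀ z : Bar L, z ^ 3 = 1 → ξ z = z → z ∈ E := by
    intro z hz3 hzx
    have h1 := F.irr y₀ z hy3 hy1 hyx hz3 hzx
    have h2 : closure {w : Bar L | ∃ r, ξ r = r ∧ w = r * y₀ * r⁻¹} ≤ E := by
      rw [closure_le]
      rintro _ ⟨r, hr, rfl⟩
      exact hE0 r hr
    exact h2 h1
  obtain ⟨y, z, hy, hyx', hz, hzx', hy', hz', hyz, hyz'⟩ := F.indep
  obtain ⟨d, hd, hdy⟩ := (hE y).mp (hEY y hy hyx')
  obtain ⟨e, he, hez⟩ := (hE z).mp (hEY z hz hzx')
  have hinj : ∀ w : Bar L, MulAut.conj w = (1 : MulAut (Bar L)) → w = 1 := F.cl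
  refine ⟨d, e, (hNm d).mp hd, (hNm e).mp he, fun h => hy' ?_, fun h => hz' ?_, fun h => hyz' ?_,
    fun h => hyz ?_⟩
  · exact hinj y (hdy ▸ (act_eq_one_iff _).mpr h)
  · exact hinj z (hez ▸ (act_eq_one_iff _).mpr h)
  · have h1 := (act_eq_one_iff (mul_mem (hNL hd) (hNL he))).mpr h
    rw [act_mul (hNL hd) (hNL he), hdy, hez, ← map_mul] at h1
    exact eq_inv_of_mul_eq_one_left (hinj _ h1)
  · have h1 := (act_eq_one_iff (mul_mem (hNL hd) (inv_mem (hNL he)))).mpr h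
    rw [act_mul (hNL hd) (inv_mem (hNL he)), act_inv (hNL he), hdy, hez, ← map_inv, ← map_mul] at h1
    exact mul_inv_eq_one.mp (hinj _ h1)

/-- **The pump-up of a triple of type `L₃(4)`.** -/
theorem pump34 (K : KFs.{u}) (W : Typ G) (T : IsTriple x a L) (h34 : IsL34 (Bar L)) {c : G}
    (hc : orderOf c = 2) (hca : c * a = a * c) (hcx : c * x = x * c) (hcL : Fixes c L) :
    ∃ N, IsTriple x c N ∧ IsL34 (Bar N) ∧
      ((a ∈ normalizer (N : Set G) ∧ cen L c ≤ N ∧ cen L c ⊔ core N = N) ∨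
        (IntrinsicBasic.cj a N ≠ N ∧ cen L c = diag (centralizer ({c} : Set G)) N a)) := by
  have hc2 := sq_of_order hc
  have ha2 := sq_of_order T.inva
  obtain ⟨N, hN, hor⟩ := T.pump hc hca hcx hcL
  obtain ⟨h1, h3⟩ := isComp_cen T.comp (mem_c hca) hc2 hcL
  obtain ⟨e₁, -⟩ := exists_quotEquiv h3
  have hM34 : IsL34 (Bar (cen L c)) := isL34_congr e₁.symm h34
  have hZ := K.center W hN
  rcases hor with ⟨haN, hle⟩ | ⟨hne, hdiag⟩
  · -- trivial or wrong type
    have hinf : cen L c ⊓ core N ≤ core (cen L c) := by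
      refine le_core inf_le_left ?_ (Odd.of_dvd_nat (odd_card_core N) (card_dvd_of_le inf_le_right))
      intro m hm
      have h5 : m ∈ normalizer (core N : Set G) := le_normalizer_core N (hle hm)
      have h6 : m ∈ normalizer (cen L c : Set G) := le_normalizer hm
      rw [mem_normalizer_iff_cj] at h5 h6 ⊢
      rw [cj_inf, h5, h6]
    rcases W hN with h | h | h
    · -- `L₂(q)`
      exfalso
      obtain ⟨S, hS, hS8, hSq⟩ := K.exists_elem hM34
      have h5 := K.k2.rank _ h ((S.subgroupOf N).map (QuotientGroup.mk' (oddCore ↥N))) (by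
        rintro _ ⟨s, hs, rfl⟩
        rw [← map_mul]
        have : s * s = 1 := Subtype.ext (hSq s hs)
        rw [this, map_one])
      rw [card_img (hS.trans hle) hSq, hS8] at h5
      omega
    · -- `Aₙ`
      exfalso
      obtain ⟨d, e, ⟨hd, hda, hdc⟩, ⟨he, hea, hec⟩, f1, f2, f3, f4⟩ :=
        K.exists_indep ⟨T, h34⟩ hc hca hcx hcL
      have h1' := h1
      rw [inf_comm] at h1'
      have hfix : ∀ g, g * a = a * g → g * c = c * g → g ∈ normalizer (L : Set G) → Fixes g N → Fixes g L := by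
        intro g hga hgc hgL hf
        have h5 := fixes_of_pump ha2 hca h1' hN.comp (mem_c hgc) (mem_c hga) hf (Or.inl hle)
        exact (fixes_iff_of_sup h3 h5.1 hgL).mp h5
      have hdL := T.mem_normalizer_of_core hd (mem_c hda)
      have heL := T.mem_normalizer_of_core he (mem_c hea)
      have hdN := hN.mem_normalizer_of_core hd (mem_c hdc)
      have heN := hN.mem_normalizer_of_core he (mem_c hec)
      obtain ⟨hE3, -⟩ := K.kA _ h _ (Res.KFacts.act_sq hN) _ (oddC' hN) (img_ne hN)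
      have m1 : act N ⟨d, hdN⟩ ∈ img x c N := mem_img.mpr ⟨d, hdN, hd, hdc, rfl⟩
      have m2 : act N ⟨e, heN⟩ ∈ img x c N := mem_img.mpr ⟨e, heN, he, hec, rfl⟩
      have n1 : act N ⟨d, hdN⟩ ≠ 1 := fun h => f1 (hfix d hda hdc hdL ((act_eq_one_iff _).mp h))
      have n2 : act N ⟨e, heN⟩ ≠ 1 := fun h => f2 (hfix e hea hec heL ((act_eq_one_iff _).mp h))
      have hcases := eq_or_inv_of_card_three hE3 m1 m2 n1 n2
      have ca : Commute d a := hda
      have cc : Commute d c := hdc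
      have da : Commute e a := hea
      have dc : Commute e c := hec
      rcases hcases with h5 | h5
      · apply f4
        refine hfix _ (ca.mul_left da.inv_left).eq (cc.mul_left dc.inv_left).eq
          (mul_mem hdL (inv_mem heL)) ?_
        rw [← act_eq_one_iff (mul_mem hdN (inv_mem heN)), act_mul hdN (inv_mem heN), act_inv heN, h5,
          mul_inv_cancel]
      · apply f3
        refine hfix _ (ca.mul_left da).eq (cc.mul_left dc).eq (mul_mem hdL heL) ?_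
        rw [← act_eq_one_iff (mul_mem hdN heN), act_mul hdN heN, h5, inv_mul_cancel]
    · -- `L₃(4)`
      refine ⟨N, hN, h, Or.inl ⟨haN, hle, ?_⟩⟩
      apply sup_of_exists hle
      -- counting
      let f : ↥(cen L c) →* Bar N := (QuotientGroup.mk' (oddCore ↥N)).comp (inclusion hle)
      have hker : f.ker ≤ oddCore ↥(cen L c) := by
        intro m hm
        have h5 : (QuotientGroup.mk ⟨(m : G), hle m.2⟩ : Bar N) = 1 := hm
        have h6 := hinf ⟨m.2, (mk_eq_one_iff _).mp h5⟩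
        obtain ⟨m', hm', h7⟩ := h6
        rwa [← Subtype.ext h7]
      have hidx : Nat.card (Bar (cen L c)) ≤ Nat.card f.range := by
        have h5 : (oddCore ↥(cen L c)).index ≤ f.ker.index :=
          Nat.le_of_dvd (Nat.pos_of_ne_zero Subgroup.index_ne_zero_of_finite) (Subgroup.index_dvd_of_le hker)
        rw [Subgroup.index_ker] at h5
        exact h5
      have htop : f.range = ⊤ := by
        apply Subgroup.eq_top_of_le_card
        rw [card_l34 h hM34]
        exact hidx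
      intro y hy
      have h5 : (QuotientGroup.mk ⟨y, hy⟩ : Bar N) ∈ f.range := by rw [htop]; trivial
      obtain ⟨m, hm⟩ := h5
      have h6 : (QuotientGroup.mk ⟨(m : G), hle m.2⟩ : Bar N) = QuotientGroup.mk ⟨y, hy⟩ := hm
      exact ⟨m, m.2, (mk_eq_iff _ _).mp h6⟩
  · refine ⟨N, hN, ?_, Or.inr ⟨hne, hdiag⟩⟩
    obtain ⟨-, -, -, -, f, hfs, hfk, -⟩ := exists_diag hN.comp (mem_c hca.symm) ha2 hne
    have hinj : Function.Injective f := by
      rw [← MonoidHom.ker_eq_bot_iff, eq_bot_iff]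
      intro z hz
      exact hZ z fun d => (mem_center_iff.mp (hfk hz) d).symm
    rw [hdiag] at hM34
    exact isL34_congr (MulEquiv.ofBijective f ⟨hinj, hfs⟩).symm hM34

end Cfsg.Agent.UGT.N2S
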