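import Cfsg.Agent.UGT.N2S.OneOut
import Cfsg.Agent.UGT.N2S.Pump
import Cfsg.Agent.UGT.N2S.KF34
import Cfsg.Agent.UGT.N2S.KF2
import Cfsg.Agent.UGT.N2S.KFA
import Cfsg.Agent.UGT.LTF.KFA

/-!
# `P34 G` and the world of the triples of type `L₃(4)` from the K-facts
-/

set_option autoImplicit false

open Cfsg Subgroup
open Cfsg.Agent.Intrinsic.Basic Cfsg.Agent.Intrinsic.Cen Cfsg.Agent.Intrinsic.Diag
open Cfsg.Agent.UGT.Triple
open Cfsg.Agent.UGT.Iface (Bar IsL34)
open Cfsg.Agent.UGT.Res.Hon (CFX)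
open Cfsg.Agent.UGT.N2S.OneOut

namespace Cfsg.Agent.UGT.N2S.OneGlue

universe u

/-- **the K-facts** -/
theorem kfs : KFs.{u} where
  k34 := k34
  k2 := k2
  kA := ka
  kE := k34E
  kC D _ hD := (LTF.KFA.kfa D hD).1

variable {G : Type u} [Group G] [Finite G]

/-- the pump-ups -/
theorem p34 (K : KFs.{u}) (W : Typ G) : P34 G := by
  intro x a c L T h34 hc hca hcx hf
  obtain ⟨N, S, hq, hor⟩ := pump34 K W T h34 hc hca hcx hf
  exact ⟨N, S, hq, hor.imp (fun h => h.2.2) id⟩

/-- the world of the triples of type `L₃(4)` -/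
theorem world (K : KFs.{u}) (W : Typ G)
    (hB : ∀ v : G, orderOf v = 2 → HasBProperty ↥(centralizer ({v} : Set G))) {X : Subgroup G}
    (C : CFX X) : Res.TwoPair.World G Q34 := world34_cfx (p34 K W) hB C

/-- **At most one `L` of type `L₃(4)` for each pair `(x, a)`** if there are no pairs. -/
theorem world_of_noPair (K : KFs.{u}) (W : Typ G)
    (hB : ∀ v : G, orderOf v = 2 → HasBProperty ↥(centralizer ({v} : Set G))) {X : Subgroup G}
    (C : CFX X) (h0 : ∀ (x e : G) (N N' : Subgroup G), ¬ Res.TwoPair.Pair Q34 x e N N') :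
    World X where
  mul := C.mul
  cf := C.cf
  typ := W
  one T T' h h' := one34 (world K W hB C) h0 T h T' h'

end Cfsg.Agent.UGT.N2S.OneGlue
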