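import Cfsg.Agent.UGT.N2S.JJ

/-!
# `O(C_L(x)) ≤ O(C(x f))`

`(x, a, L)` a triple of type `L₃(4)`, `a ∈ X`, `w ≠ a`, `f` involutions of `C(L) ∩ C(x)`, `a`, `w`, `f` pairwise
commuting: `O(C_L(x)) ≤ O(C(x f))`.
-/

set_option autoImplicit false

open Cfsg Subgroup
open Cfsg.Agent.SignalizersComponents Cfsg.Agent.Lib
open Cfsg.Agent.SignalizersComponents.IntrinsicBasic
open Cfsg.Agent.SignalizersComponents.PLayerAut
open Cfsg.Agent.Intrinsic.Basic Cfsg.Agent.Intrinsic.Cen Cfsg.Agent.Intrinsic.Diag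
open Cfsg.Agent.McLLyComp.Act
open Cfsg.Agent.UGT.Triple Cfsg.Agent.UGT.TriBase Cfsg.Agent.UGT.Res.Base
open Cfsg.Agent.UGT.Iface (Bar IsL2 IsL34 IsAltOdd)
open Cfsg.Agent.UGT.LTF.Defs
open Cfsg.Agent.UGT.LTF.Basics (img mem_img img_ne exists_inv)
open Cfsg.Agent.UGT.ThE.Base (IsT comm_of_mem L_conj L_conj' K_le_M K_conj)
open Cfsg.Agent.UGT.ThEL34 (Acts exists_acts acts_one_iff acts_one acts_of_mem acts_coe acts_norm)
open scoped commutatorElement

namespace Cfsg.Agent.UGT.N2S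

universe u

variable {G : Type u} [Group G]

theorem order_isT {L : Subgroup G} {x t : G} (h : IsT L x t) : orderOf t = 2 :=
  orderOf_eq_prime (by rw [pow_two]; exact h.sq) h.ne

variable [Finite G] {x a : G} {L X : Subgroup G}

/-- trivial pump-ups -/
theorem World.pump1 (W : World X) (K : KFs.{u}) (T : TT x a L) (hL : core L = ⊥) {c : G}
    (hc : IsT L x c) (hca : c * a = a * c) : ∃ N, TT x c N ∧ L ≤ N ∧ L ⊔ core N = N := by
  have hf := fixes_of_comm hc.mem
  obtain ⟨N, hN, h34, hor⟩ := pump34 K W.typ T.toIsTriple T.l34 (order_isT hc) hca hc.comm hf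
  rw [cen_eq T.toIsTriple hL hc.sq hca hc.mem] at hor
  rcases hor with ⟨-, h2, h3⟩ | ⟨h1, -⟩
  · exact ⟨N, ⟨hN, h34⟩, h2, h3⟩
  · exact absurd (mem_normalizer_iff_cj.mp (W.norm ⟨hN, h34⟩ T.comm hca.symm)) h1

omit [Finite G] in
/-- three commuting involutions generate a 2-group -/
theorem isPGroup_three {x w a : G} (hx : x * x = 1) (hw : w * w = 1) (ha : a * a = 1)
    (hwx : w * x = x * w) (hax : a * x = x * a) (haw : a * w = w * a) :
    IsPGroup 2 ↥(zpowers x ⊔ zpowers w ⊔ zpowers a) := by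
  have h1 : ∀ {u v : G}, v * u = u * v → cj v (zpowers u) = zpowers u := by
    intro u v h
    rw [cj, MonoidHom.map_zpowers]
    have : (MulAut.conj v).toMonoidHom u = u := by
      simp only [MulEquiv.coe_toMonoidHom, MulAut.conj_apply]
      rw [h, mul_inv_cancel_right]
    rw [this]
  refine Tri.isPGroup_sup_zpowers (Tri.isPGroup_sup_zpowers (isPGroup_of_sq hx) ?_ (n := 1) ?_) ?_
    (n := 1) ?_
  · rw [mem_normalizer_iff_cj, h1 hwx]
  · rw [pow_one, pow_two, hw]
  · rw [mem_normalizer_iff_cj, cj_def, Subgroup.map_sup, ← cj_def, ← cj_def, h1 hax, h1 haw]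
  · rw [pow_one, pow_two, ha]

/-- no proper subgroup of `O(C_L(x))` is fixed by an element of order 4 of `C_L(x)`: such an element does not normalize
`J` if the image of `O(C(x)) ∩ C(e)` in `Aut(J / O(J))` has order 3 -/
theorem not_norm_of_three {x e y w₀ : G} {J : Subgroup G} (T : IsTriple x e J)
    (hE : Nat.card (img x e J) = 3) (hy : y ∈ core (centralizer ({x} : Set G))) (hye : y * e = e * y)
    (hf : ¬ Fixes y J) (hy3 : y ^ 3 = 1) (hwx : w₀ * x = x * w₀) (hwe : w₀ * e = e * w₀)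
    (hw : w₀ * w₀ * y * (w₀ * w₀)⁻¹ = y⁻¹) : w₀ ∉ normalizer (J : Set G) := by
  intro hwJ
  have hyJ := T.mem_normalizer_of_core hy (mem_c hye)
  have hy₁ : w₀ * y * w₀⁻¹ ∈ core (centralizer ({x} : Set G)) := conj_core (mem_c hwx) hy
  have c1 : Commute w₀ e := hwe
  have hy₁e : w₀ * y * w₀⁻¹ * e = e * (w₀ * y * w₀⁻¹) :=
    ((c1.mul_left (show Commute y e from hye)).mul_left c1.inv_left).eq
  have hy₁J : w₀ * y * w₀⁻¹ ∈ normalizer (J : Set G) := mul_mem (mul_mem hwJ hyJ) (inv_mem hwJ)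
  obtain ⟨ω, hω⟩ : ∃ ω, ω = act J ⟨w₀, hwJ⟩ := ⟨_, rfl⟩
  obtain ⟨η, hη⟩ : ∃ η, η = act J ⟨y, hyJ⟩ := ⟨_, rfl⟩
  have h1 : act J ⟨w₀ * y * w₀⁻¹, hy₁J⟩ = ω * η * ω⁻¹ := by
    rw [hω, hη, ← act_inv hwJ, ← act_mul hwJ hyJ, ← act_mul (mul_mem hwJ hyJ) (inv_mem hwJ)]
  have hη1 : η ≠ 1 := by
    intro h
    rw [hη, act_eq_one_iff] at h
    exact hf h
  have hη3 : η ^ 3 = 1 := by
    rw [hη, ← map_pow]
    have h3 : (⟨y, hyJ⟩ : ↥(normalizer (J : Set G))) ^ 3 = 1 := Subtype.ext hy3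
    rw [h3, map_one]
  have hsq : ω * ω * η * (ω * ω)⁻¹ = η⁻¹ := by
    have hn : w₀ * w₀ * y * (w₀ * w₀)⁻¹ ∈ normalizer (J : Set G) :=
      mul_mem (mul_mem (mul_mem hwJ hwJ) hyJ) (inv_mem (mul_mem hwJ hwJ))
    have h3 : act J ⟨w₀ * w₀ * y * (w₀ * w₀)⁻¹, hn⟩ = ω * ω * η * (ω * ω)⁻¹ := by
      rw [hω, hη, ← act_mul hwJ hwJ, ← act_inv (mul_mem hwJ hwJ), ← act_mul (mul_mem hwJ hwJ) hyJ,
        ← act_mul (mul_mem (mul_mem hwJ hwJ) hyJ) (inv_mem (mul_mem hwJ hwJ))]
    rw [← h3, hη, ← act_inv hyJ]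
    exact act_congr _ hw
  have hm : η ∈ img x e J := mem_img.mpr ⟨y, hyJ, hy, hye, hη.symm⟩
  have hm₁ : ω * η * ω⁻¹ ∈ img x e J := mem_img.mpr ⟨_, hy₁J, hy₁, hy₁e, h1⟩
  have hne : ω * η * ω⁻¹ ≠ 1 := by
    intro h
    apply hη1
    have h2 := mul_inv_eq_one.mp h
    have h3 : ω * η = ω * 1 := by rw [h2, mul_one]
    exact mul_left_cancel h3
  have hinv : η = η⁻¹ → False := by
    intro h
    apply hη1
    have h2 : η * η = 1 := by
      nth_rewrite 2 [h]
      exact mul_inv_cancel η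
    calc η = η ^ 3 * (η * η)⁻¹ := by rw [pow_succ, pow_two]; group
      _ = 1 := by rw [hη3, h2, inv_one, one_mul]
  have e1 : ω * ω * η * (ω * ω)⁻¹ = ω * (ω * η * ω⁻¹) * ω⁻¹ := by group
  rw [e1] at hsq
  rcases eq_or_inv_of_card_three hE hm₁ hm hne hη1 with h | h
  · rw [h, h] at hsq
    exact hinv hsq
  · rw [h] at hsq
    have h2 : ω * η⁻¹ * ω⁻¹ = (ω * η * ω⁻¹)⁻¹ := by group
    rw [h2, h, inv_inv] at hsq
    exact hinv hsq

/-- `L ∩ O(C(e)) = 1` if some element of `O(C_L(x))` is not in `O(C(e))` -/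
theorem KFs.inf_eq_one (K : KFs.{u}) (T : TT x a L) (hL : core L = ⊥) {f y : G}
    (hf : f ∈ centralizer (L : Set G)) (hy : y ∈ L) (hy3 : y ^ 3 = 1) (hyx : y * x = x * y)
    (hn : y ∉ core (centralizer ({x * f} : Set G))) {z : G} (hz : z ∈ L)
    (hze : z ∈ core (centralizer ({x * f} : Set G))) : z = 1 := by
  obtain ⟨ξ, hξ, F, F3⟩ := K.honest T hL
  have hcomm : ∀ l ∈ L, l * x = x * l ↔ l * (x * f) = x * f * l := by
    intro l hl
    have h1 := comm_of_mem hl hf
    constructor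
    · intro h
      calc l * (x * f) = (l * x) * f := by group
        _ = x * (l * f) := by rw [h]; group
        _ = x * f * l := by rw [h1]; group
    · intro h
      have h2 : l * x * f = x * l * f := by
        calc l * x * f = l * (x * f) := by group
          _ = x * f * l := h
          _ = x * (f * l) := by group
          _ = x * l * f := by rw [← h1]; group
      exact mul_right_cancel h2
  obtain ⟨Z, hZ⟩ : ∃ Z : Subgroup L, Z = (core (centralizer ({x * f} : Set G))).subgroupOf L := ⟨_, rfl⟩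
  have hZm : ∀ l : L, l ∈ Z ↔ (l : G) ∈ core (centralizer ({x * f} : Set G)) := by
    intro l; rw [hZ, mem_subgroupOf]
  have hZx : ∀ l ∈ Z, ξ l = l := by
    intro l hl
    rw [hξ.fix_iff]
    exact ((hcomm l l.2).mpr (comm_c (core_le _ ((hZm l).mp hl)))).symm
  obtain ⟨E, hE⟩ : ∃ E, E = Z.map (MulAut.conj : L →* MulAut L) := ⟨_, rfl⟩
  have hO : OddC ξ E := by
    refine ⟨?_, ?_, ?_⟩
    · rw [hE]
      refine Odd.of_dvd_nat ?_ (card_map_dvd _ _)
      rw [hZ]
      exact Odd.of_dvd_nat (odd_card_core (centralizer ({x * f} : Set G)))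
        (card_comap_dvd_of_injective _ _ (subtype_injective _))
    · rw [hE]
      rintro _ ⟨l, hl, rfl⟩
      exact ((F.toFacts.comm_conj_iff ξ l).mpr (hZx l hl)).symm
    · rw [hE]
      rintro r hr _ ⟨l, hl, rfl⟩
      refine ⟨r * l * r⁻¹, ?_, by rw [map_mul, map_mul, map_inv]⟩
      rw [SetLike.mem_coe, hZm]
      have hrx : (r : G) * x = x * r := ((hξ.fix_iff r).mp hr).symm
      exact conj_core (mem_c ((hcomm r r.2).mp hrx)) ((hZm l).mp hl)
  by_contra hz1
  have hzZ : (⟨z, hz⟩ : L) ∈ Z := (hZm _).mpr hze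
  obtain ⟨z', hz', hz3, hzx⟩ := F.core E hO (MulAut.conj ⟨z, hz⟩) (by rw [hE]; exact ⟨_, hzZ, rfl⟩)
  have hzz : (⟨z, hz⟩ : L) = z' := F.toFacts.conj_inj hz'
  have h1 := F.irr ⟨z, hz⟩ ⟨y, hy⟩ (hzz ▸ hz3) (fun h => hz1 (congrArg Subtype.val h)) (hzz ▸ hzx)
    (Subtype.ext hy3) ((hξ.fix_iff _).mpr hyx.symm)
  have h2 : closure {w : L | ∃ r, ξ r = r ∧ w = r * ⟨z, hz⟩ * r⁻¹} ≤ Z := by
    rw [closure_le]
    rintro _ ⟨r, hr, rfl⟩
    rw [SetLike.mem_coe, hZm]
    have hrx : (r : G) * x = x * r := ((hξ.fix_iff r).mp hr).symm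
    exact conj_core (mem_c ((hcomm r r.2).mp hrx)) hze
  exact hn ((hZm _).mp (h2 h1))

/-- **`O(C_L(x)) ≤ O(C(x f))`.** -/
theorem World.bad34 (W : World X) (K : KFs.{u}) (T : TT x a L) (ha : a ∈ X) {w f : G}
    (hw : IsT L x w) (hwa : w * a = a * w) (hne : w ≠ a) (hf : IsT L x f) (hfa : f * a = a * f)
    (hfw : f * w = w * f) {y : G} (hy : y ∈ L) (hy3 : y ^ 3 = 1) (hyx : y * x = x * y) :
    y ∈ core (centralizer ({x * f} : Set G)) := by
  by_contra hn
  have hL := W.core_bot T.toIsTriple ha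
  have hx2 := sq_of_order T.invx
  have ha2 := sq_of_order T.inva
  have hxf : x ≠ f := by
    rintro rfl
    exact T.not_fixes (fixes_of_comm hf.mem)
  have hfx := hf.comm
  have he : orderOf (x * f) = 2 := order_mul hx2 hf.sq hfx.symm hxf
  obtain ⟨e, hee⟩ : ∃ e, e = x * f := ⟨_, rfl⟩
  have he2 : e * e = 1 := by rw [hee]; exact sq_of_order he
  have cfx : Commute f x := hfx
  have cfa : Commute f a := hfa
  have cfw : Commute f w := hfw
  have cwx : Commute w x := hw.comm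
  have cwa : Commute w a := hwa
  have cax : Commute a x := T.comm
  have cyx : Commute y x := hyx
  have haK := mem_K T.toIsTriple
  have hTa : IsT L x a := ⟨haK, T.comm, ha2, ne_one_of_order T.inva⟩
  have hTwa : IsT L x (w * a) := by
    refine ⟨mul_mem hw.mem haK, (cwx.mul_left cax).eq, ?_, fun h => hne ?_⟩
    · calc w * a * (w * a) = w * (a * w) * a := by group
        _ = (w * w) * (a * a) := by rw [← hwa]; group
        _ = 1 := by rw [hw.sq, ha2, one_mul]
    · have := eq_inv_of_mul_eq_one_left h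
      rwa [inv_eq_of_mul_eq_one_left ha2] at this
  have hyc : y ∈ core (centralizer ({x} : Set G)) := K.mem_core T hL hy hy3 hyx
  have cy' : ∀ {k}, k ∈ centralizer (L : Set G) → Commute y k := fun hk => comm_of_mem hy hk
  have hye : y * e = e * y := by rw [hee]; exact (cyx.mul_right (cy' hf.mem)).eq
  have hex : e * x = x * e := by rw [hee]; exact ((Commute.refl x).mul_left cfx).eq
  obtain ⟨J, TJ, hfJ⟩ := exists_triple T.invx he (by rw [← hee]; exact hex) hyc
    (mem_c (by rw [← hee]; exact hye)) hn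
  rw [← hee] at TJ
  have hyJ := TJ.mem_normalizer_of_core hyc (mem_c hye)
  -- for the three involutions `v`
  have hv : ∀ v, IsT L x v → v * a = a * v → f * v = v * f → v * e = e * v ∧ v * y = y * v ∧
      (∀ M, IsComp (centralizer ({e} : Set G) ⊓ centralizer ({v} : Set G)) M → Fixes y M) ∧
      v ∈ normalizer (J : Set G) := by
    intro v hv hva hfv
    have cvx : Commute v x := hv.comm
    have cfv : Commute f v := hfv
    have hve : v * e = e * v := by rw [hee]; exact (cvx.mul_right cfv.symm).eq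
    have hvy : v * y = y * v := (comm_of_mem hy hv.mem).symm
    obtain ⟨N, TN, hLN, hsup⟩ := W.pump1 K T hL hv hva
    have hfN : Fixes f N := by
      have h1 := W.norm TN hfx hfv
      exact (fixes_iff_of_sup hsup (K_le_M hf.mem) h1).mp (fixes_of_comm hf.mem)
    have hact : Fixes (e * x⁻¹) N := by
      have h1 : e * x⁻¹ = f := by rw [hee, ← hfx, mul_inv_cancel_right]
      rwa [h1]
    have hkill : ∀ M, IsComp (centralizer ({e} : Set G) ⊓ centralizer ({v} : Set G)) M → Fixes y M := by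
      intro M hM
      rw [inf_comm] at hM
      exact K.kill34 TN he2 hve.symm (mem_c hye) (hLN hy) hact hM
    exact ⟨hve, hvy, hkill, moved_norm TJ hyc (mem_c hye) hfJ hv.sq hve hvy hkill⟩
  obtain ⟨hae, hay, hka, haJ⟩ := hv a hTa rfl hfa
  obtain ⟨hwe, hwy, hkw, hwJ⟩ := hv w hw hwa hfw
  obtain ⟨hwae, hway, hkwa, hwaJ⟩ := hv (w * a) hTwa (cwa.mul_left (Commute.refl a)).eq
    (cfw.mul_right cfa).eq
  -- all three act as `x`: impossible
  have hthree : Fixes (a * x⁻¹) J → Fixes (w * x⁻¹) J → Fixes (w * a * x⁻¹) J → False := by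
    intro h1 h2 h3
    apply TJ.not_fixes
    have b₁ := fixes_mul h2 (fixes_inv h1)
    have b₂ : w * x⁻¹ * (a * x⁻¹)⁻¹ = w * a := by
      rw [mul_inv_rev, inv_inv, inv_eq_of_mul_eq_one_left ha2]
      group
    rw [b₂] at b₁
    have b₃ := fixes_mul (fixes_inv h3) b₁
    have b₄ : (w * a * x⁻¹)⁻¹ * (w * a) = x := by group
    rwa [b₄] at b₃
  -- the 2-group `S`
  obtain ⟨S, hS⟩ : ∃ S, S = zpowers x ⊔ zpowers w ⊔ zpowers a := ⟨_, rfl⟩
  have hS2 : IsPGroup 2 ↥S := by
    rw [hS]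
    exact isPGroup_three hx2 hw.sq ha2 hw.comm T.comm hwa.symm
  have hxS : x ∈ S := by rw [hS]; exact mem_sup_left (mem_sup_left (mem_zpowers x))
  have hwS : w ∈ S := by rw [hS]; exact mem_sup_left (mem_sup_right (mem_zpowers w))
  have haS : a ∈ S := by rw [hS]; exact mem_sup_right (mem_zpowers a)
  have hSJ : S ≤ normalizer (J : Set G) := by
    rw [hS]
    exact sup_le (sup_le (zpowers_le.mpr TJ.x_mem) (zpowers_le.mpr hwJ)) (zpowers_le.mpr haJ)
  have hLe : ∀ l ∈ L, l * x = x * l → l * e = e * l := by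
    intro l hl hlx
    rw [hee]
    exact ((show Commute l x from hlx).mul_right (comm_of_mem hl hf.mem)).eq
  rcases W.typ TJ with h2 | hA | h34
  · -- `L₂(q)`
    by_cases hin : ∃ l, act J ⟨y, hyJ⟩ = MulAut.conj l
    · obtain ⟨l, hl⟩ := hin
      exact hthree
        (K.cent2 TJ h2 hyc (mem_c hye) hfJ hy3 hl ha2 hae T.comm hay haJ hka)
        (K.cent2 TJ h2 hyc (mem_c hye) hfJ hy3 hl hw.sq hwe hw.comm hwy hwJ hkw)
        (K.cent2 TJ h2 hyc (mem_c hye) hfJ hy3 hl hTwa.sq hwae hTwa.comm hway hwaJ hkwa)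
    · obtain ⟨v, hvJ, hv2, hvS⟩ := exists_inv hS2 hSJ TJ.comp.even
      have hvx : v * x = x * v := (hvS x hxS).symm
      have hva : v * a = a * v := (hvS a haS).symm
      have hvL := W.norm T hvx hva
      obtain ⟨b₀, hb₀, hb₀2, hb₀x⟩ := K.exists_b T hL
      have hev : 2 ∣ Nat.card ↥(L ⊓ centralizer ({x} : Set G)) := by
        have h5 := Subgroup.orderOf_dvd_natCard (L ⊓ centralizer ({x} : Set G)) ⟨hb₀, mem_c hb₀x⟩
        rwa [hb₀2] at h5
      obtain ⟨b, hb, hb2, hbv⟩ := exists_inv (isPGroup_of_sq (sq_of_order hv2)) (N := L ⊓ centralizer ({x} : Set G))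
        (by
          rw [zpowers_le, mem_normalizer_iff_cj, cj_inf, mem_normalizer_iff_cj.mp hvL, cj_centralizer]
          rw [show v * x * v⁻¹ = x by rw [hvx, mul_inv_cancel_right]]) hev
      have hbx : b * x = x * b := comm_c hb.2
      have hbe := hLe b hb.1 hbx
      have hbJ : b ∉ normalizer (J : Set G) := by
        intro hbJ
        apply hin
        have hby : b * y * b⁻¹ = y⁻¹ := K.inv T hL hb.1 (sq_of_order hb2) (ne_one_of_order hb2) hbx hy hy3 hyx
        refine K.k2.out _ h2 (act J ⟨b, hbJ⟩) _ ?_ ?_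
        · rw [← map_pow]
          have h3 : (⟨y, hyJ⟩ : ↥(normalizer (J : Set G))) ^ 3 = 1 := Subtype.ext hy3
          rw [h3, map_one]
        · rw [← act_inv hbJ, ← act_mul hbJ hyJ, ← act_mul (mul_mem hbJ hyJ) (inv_mem hbJ), ← act_inv hyJ]
          exact act_congr _ hby
      exact K.no_share W.typ TJ (mem_c hbe) hbJ hvJ hv2 (hbv v (mem_zpowers v)).symm
  · -- `Aₙ`
    obtain ⟨hE3, hC⟩ := K.kA _ hA _ (Res.KFacts.act_sq TJ) _ (oddC' TJ) (img_ne TJ)
    obtain ⟨C, hCm⟩ : ∃ C : Subgroup (Bar J), ∀ c, c ∈ C ↔ ∀ ε ∈ img x e J, ε c = c :=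
      ⟨{ carrier := {c | ∀ ε ∈ img x e J, ε c = c}
         mul_mem' := fun {p q} hp hq ε hε => by rw [map_mul, hp ε hε, hq ε hε]
         one_mem' := fun ε _ => map_one ε
         inv_mem' := fun {p} hp ε hε => by rw [map_inv, hp ε hε] }, fun _ => Iff.rfl⟩
    have hC2 := hC C hCm
    obtain ⟨N, hN⟩ : ∃ N : Subgroup G, N = (C.comap (QuotientGroup.mk' (oddCore ↥J))).map J.subtype := ⟨_, rfl⟩
    have hNJ : N ≤ J := by rw [hN]; exact map_subtype_le _
    have hNm : ∀ m (hm : m ∈ J), m ∈ N ↔ (QuotientGroup.mk ⟨m, hm⟩ : Bar J) ∈ C := by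
      intro m hm
      rw [hN]
      constructor
      · rintro ⟨m', hm', rfl⟩
        exact hm'
      · intro h
        exact ⟨⟨m, hm⟩, h, rfl⟩
    have hN2 : 2 ∣ Nat.card N := by
      have h1 : Nat.card N = Nat.card (C.comap (QuotientGroup.mk' (oddCore ↥J))) := by
        rw [hN]; exact card_map_of_injective (subtype_injective _)
      rw [h1]
      have h5 : (C.comap (QuotientGroup.mk' (oddCore ↥J))).map (QuotientGroup.mk' (oddCore ↥J)) = C :=
        map_comap_eq_self_of_surjective (QuotientGroup.mk'_surjective _) C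
      have h3 := card_map_dvd (C.comap (QuotientGroup.mk' (oddCore ↥J))) (QuotientGroup.mk' (oddCore ↥J))
      rw [h5] at h3
      exact hC2.trans h3
    -- `S` normalizes `N`
    have hSN : ∀ s, s * x = x * s → s * e = e * s → s ∈ normalizer (J : Set G) → ∀ m ∈ N, s * m * s⁻¹ ∈ N := by
      intro s hsx hse hsJ m hm
      have hmJ := hNJ hm
      rw [hNm _ (conj_mem hsJ hmJ), ← act_mk hsJ hmJ, hCm]
      intro ε hε
      obtain ⟨d, hdJ, hd, hde, rfl⟩ := mem_img.mp hε
      have hsJ' := inv_mem hsJ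
      have h5 : act J ⟨s⁻¹ * d * s, mul_mem (mul_mem hsJ' hdJ) hsJ⟩ ∈ img x e J := by
        refine mem_img.mpr ⟨_, _, ?_, ?_, rfl⟩
        · have h6 := conj_core (inv_mem (mem_c hsx)) hd
          rwa [inv_inv] at h6
        · have c1 : Commute s e := hse
          exact ((c1.inv_left.mul_left (show Commute d e from hde)).mul_left c1).eq
      have h6 := (hCm _).mp ((hNm m hmJ).mp hm) _ h5
      rw [act_mul (mul_mem hsJ' hdJ) hsJ, act_mul hsJ' hdJ, act_inv hsJ] at h6
      have h7 := congrArg (act J ⟨s, hsJ⟩) h6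
      have h8 : ∀ z, act J ⟨s, hsJ⟩ ((act J ⟨s, hsJ⟩)⁻¹ z) = z := by
        intro z
        rw [← MulAut.mul_apply, mul_inv_cancel, MulAut.one_apply]
      rw [MulAut.mul_apply, MulAut.mul_apply, h8] at h7
      exact h7
    have hSnorm : S ≤ normalizer (N : Set G) := by
      have key : ∀ s, s * s = 1 → s * x = x * s → s * e = e * s → s ∈ normalizer (J : Set G) →
          s ∈ normalizer (N : Set G) := by
        intro s hss hsx hse hsJ
        rw [mem_normalizer_iff]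
        intro m
        refine ⟨hSN s hsx hse hsJ m, fun h => ?_⟩
        have h1 := hSN s hsx hse hsJ _ h
        have h2 : s * (s * m * s⁻¹) * s⁻¹ = m := by
          rw [inv_eq_of_mul_eq_one_left hss]
          calc s * (s * m * s) * s = (s * s) * m * (s * s) := by group
            _ = m := by rw [hss]; group
        rwa [h2] at h1
      rw [hS]
      exact sup_le (sup_le (zpowers_le.mpr (key x hx2 rfl hex.symm TJ.x_mem))
        (zpowers_le.mpr (key w hw.sq hw.comm hwe hwJ))) (zpowers_le.mpr (key a ha2 T.comm hae haJ))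
    obtain ⟨v, hvN, hv2, hvS⟩ := exists_inv hS2 hSnorm hN2
    have hvJ := hNJ hvN
    have hvx : v * x = x * v := (hvS x hxS).symm
    have hva : v * a = a * v := (hvS a haS).symm
    have hvL := W.norm T hvx hva
    -- `v` centralizes `O(C_L(x))`
    have hvY : ∀ z ∈ L, z ^ 3 = 1 → z * x = x * z → z * v = v * z := by
      intro z hz hz3 hzx
      have hzc := K.mem_core T hL hz hz3 hzx
      have hze := hLe z hz hzx
      have hzJ := TJ.mem_normalizer_of_core hzc (mem_c hze)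
      have h5 := (hCm _).mp ((hNm v hvJ).mp hvN) _ (mem_img.mpr ⟨z, hzJ, hzc, hze, rfl⟩)
      rw [act_mk hzJ hvJ, mk_eq_iff] at h5
      -- `[z, v] ∈ core J`
      have h6 : z * v * z⁻¹ * v⁻¹ ∈ core J := by
        have h7 := conj_mem_core (le_normalizer hvJ) (inv_mem h5)
        convert h7 using 1
        group
      have h7 : z * v * z⁻¹ * v⁻¹ ∈ core (centralizer ({x * f} : Set G)) := by
        rw [← hee]
        exact TJ.comp.core_le_core h6
      have h8 : z * v * z⁻¹ * v⁻¹ ∈ L := by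
        have h9 : z * v * z⁻¹ * v⁻¹ = z * (v * z⁻¹ * v⁻¹) := by group
        rw [h9]
        exact mul_mem hz (conj_mem hvL (inv_mem hz))
      have h9 := K.inf_eq_one T hL hf.mem hy hy3 hyx hn h8 h7
      exact mul_inv_eq_iff_eq_mul.mp (mul_inv_eq_one.mp h9)
    obtain ⟨ξ, hξ, F, F3⟩ := K.honest T hL
    obtain ⟨β, hβ⟩ := exists_acts hvL
    have hβ' : β = 1 ∨ β = ξ := by
      refine cy F F3.toFacts2 (hβ.sq (sq_of_order hv2)) (hβ.comm hξ hvx) fun z hz3 hzx => ?_
      rw [hβ.fix_iff]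
      exact (hvY z z.2 (congrArg Subtype.val hz3) ((hξ.fix_iff z).mp hzx).symm).symm
    -- an element of order 4
    obtain ⟨s, hs1, hs2, hs3⟩ := F3.exs
    obtain ⟨r, hr, hrs⟩ := F3.sq4 s hs1 hs2 hs3
    have hrx : (r : G) * x = x * r := ((hξ.fix_iff r).mp hr).symm
    have hre := hLe r r.2 hrx
    have hrv : (r : G) * v = v * r := by
      have h5 : β r = r := by
        rcases hβ' with h | h
        · rw [h, MulAut.one_apply]
        · rw [h]; exact hr
      exact ((hβ.fix_iff r).mp h5).symm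
    have hrr : (r : G) * r = s := congrArg Subtype.val hrs
    have hinv := K.inv T hL s.2 (congrArg Subtype.val hs1) (fun h => hs2 (Subtype.ext h))
      ((hξ.fix_iff s).mp hs3).symm hy hy3 hyx
    have hrJ := not_norm_of_three TJ hE3 hyc hye hfJ hy3 hrx hre (w₀ := (r : G)) (by rw [hrr]; exact hinv)
    exact K.no_share W.typ TJ (mem_c hre) hrJ hvJ hv2 hrv
  · -- `L₃(4)`
    exact hthree
      (K.cent34 ⟨TJ, h34⟩ hyc (mem_c hye) hfJ ha2 hae T.comm hay haJ hka)
      (K.cent34 ⟨TJ, h34⟩ hyc (mem_c hye) hfJ hw.sq hwe hw.comm hwy hwJ hkw)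
      (K.cent34 ⟨TJ, h34⟩ hyc (mem_c hye) hfJ hTwa.sq hwae hTwa.comm hway hwaJ hkwa)

end Cfsg.Agent.UGT.N2S
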