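import Cfsg.Agent.UGT.N2S.Base

/-!
# `z` any involution, `L` a 2-component of `C(z)` of type `L₃(4)`, `B ≤ L` elementary abelian of order 16

`Hy.le_normalizer`: if `z` and `B` lie in `X`, `J` is a 2-component of `X` with `J / O(J)` centreless and `z`
normalizes `J`, then `B` normalizes `J`.
-/

set_option autoImplicit false

open Cfsg Subgroup
open Cfsg.Agent.SignalizersComponents Cfsg.Agent.Lib
open Cfsg.Agent.SignalizersComponents.IntrinsicBasic
open Cfsg.Agent.SignalizersComponents.PLayerAut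
open Cfsg.Agent.Intrinsic.Basic Cfsg.Agent.Intrinsic.Cen Cfsg.Agent.Intrinsic.Diag
open Cfsg.Agent.McLLyComp.Act
open Cfsg.Agent.UGT.Triple Cfsg.Agent.UGT.TriBase
open Cfsg.Agent.UGT.Iface (Bar)
open scoped commutatorElement

namespace Cfsg.Agent.UGT.N2S.FMov

universe u

variable {G : Type u} [Group G]

/-- `K / O(K)` has trivial centre -/
def CL (K : Subgroup G) : Prop := ∀ ζ : Bar K, (∀ d, ζ * d = d * ζ) → ζ = 1

theorem CL.mem_core {K : Subgroup G} (h : CL K) {k : G} (hk : k ∈ K) (hf : Fixes k K) : k ∈ core K := by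
  rw [← mk_eq_one_iff hk]
  apply h
  intro d
  obtain ⟨⟨y, hy⟩, rfl⟩ := QuotientGroup.mk_surjective d
  have h1 := (act_eq_one_iff hf.1).mpr hf
  have h2 := DFunLike.congr_fun (act_of_mem hk) (QuotientGroup.mk ⟨y, hy⟩)
  have h3 : act K ⟨k, le_normalizer hk⟩ = 1 := h1
  rw [h3, MulAut.one_apply, MulAut.conj_apply] at h2
  exact (eq_mul_inv_iff_mul_eq.mp h2).symm

variable [Finite G]

theorem cl_diag {X K : Subgroup G} {v : G} (hK : IsComp X K) (hvX : v ∈ X) (hv : v * v = 1)
    (hne : cj v K ≠ K) (h : CL K) : CL (diag X K v) := by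
  obtain ⟨-, -, -, -, f, hf, hk, -⟩ := exists_diag hK hvX hv hne
  have hinj : Function.Injective f := by
    rw [← MonoidHom.ker_eq_bot_iff, eq_bot_iff]
    intro y hy
    rw [mem_bot]
    exact h y fun d => ((mem_center_iff.mp (hk hy)) d).symm
  intro ζ hζ
  obtain ⟨y, rfl⟩ := hf ζ
  rw [h y fun d => hinj (by rw [map_mul, map_mul]; exact hζ _), map_one]

/-- an element of `X` commuting with an involution of `K` normalizes `K` -/
theorem mem_normalizer_of_commute {X K : Subgroup G} (hK : IsComp X K) (h : CL K) {w u : G} (hw : w ∈ X)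
    (hu : u ∈ K) (huu : u * u = 1) (hu1 : u ≠ 1) (hc : w * u = u * w) : w ∈ normalizer (K : Set G) := by
  rw [mem_normalizer_iff_cj]
  by_contra hne
  have hK' := isComp_cj_of_mem hK hw
  have h1 : u ∈ cj w K := by
    rw [mem_cj]
    have : w⁻¹ * u * w = u := by rw [mul_assoc, ← hc, inv_mul_cancel_left]
    rwa [this]
  exact hu1 (eq_one_of_mem_core_sq (h.mem_core hu (hK.fixes_of_mem hK' (Ne.symm hne) h1)) huu)

/-- a 2-group acting on a group of even order centralizes an involution -/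
theorem exists_inv_comm {Q J : Subgroup G} (hQ : IsPGroup 2 ↥Q) (hQJ : Q ≤ normalizer (J : Set G))
    (h2 : 2 ∣ Nat.card ↥J) : ∃ e ∈ J, orderOf e = 2 ∧ ∀ s ∈ Q, s * e = e * s := by
  have hp : Fact (Nat.Prime 2) := ⟨Nat.prime_two⟩
  obtain ⟨T, hT, hQT⟩ := exists_isSyl (E := Q ⊔ J) hQ le_sup_left
  have hn : Q ⊔ J ≤ normalizer (J : Set G) := sup_le hQJ le_normalizer
  have h3 := hT.inf (L := J) le_sup_right hn
  have hne : T ⊓ J ≠ ⊥ := by
    intro h
    have h4 := h3.dvd_card (k := 1) (by rwa [pow_one])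
    rw [h, card_bot] at h4
    norm_num at h4
  have hTn : T ≤ normalizer ((T ⊓ J : Subgroup G) : Set G) := by
    intro t ht
    have h5 := mem_normalizer_iff.mp (hn (hT.le ht))
    rw [mem_normalizer_iff]
    intro y
    refine ⟨fun hy => ⟨T.mul_mem (T.mul_mem ht hy.1) (T.inv_mem ht), (h5 y).mp hy.2⟩,
      fun hy => ⟨?_, (h5 y).mpr hy.2⟩⟩
    have h6 := T.mul_mem (T.mul_mem (T.inv_mem ht) hy.1) ht
    have h7 : t⁻¹ * (t * y * t⁻¹) * t = y := by group
    rwa [h7] at h6
  obtain ⟨e, he, he2, hc⟩ := exists_central hT.two inf_le_left hTn hne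
  exact ⟨e, he.2, he2, fun s hs => hc s (hQT hs)⟩

/-- The situation. -/
structure Hy (z : G) (L B : Subgroup G) : Prop where
  zz : z * z = 1
  comp : IsComp (centralizer ({z} : Set G)) L
  cl : CL L
  BL : B ≤ L
  card : Nat.card B = 16
  sq : ∀ b ∈ B, b * b = 1
  /-- an automorphism centralizing a hyperplane of `B` is induced by `B` -/
  kh : ∀ H ≤ B, Nat.card H = 8 → ∀ w ∈ normalizer (L : Set G), (∀ h ∈ H, w * h = h * w) →
    ∃ a ∈ B, Fixes (a⁻¹ * w) L

variable {z : G} {L B : Subgroup G}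

theorem Hy.comm (S : Hy z L B) {a b : G} (ha : a ∈ B) (hb : b ∈ B) : a * b = b * a := by
  have h1 := S.sq _ (mul_mem ha hb)
  have h2 : (a * b)⁻¹ = a * b := inv_eq_of_mul_eq_one_left h1
  rw [mul_inv_rev, inv_eq_of_mul_eq_one_left (S.sq a ha), inv_eq_of_mul_eq_one_left (S.sq b hb)] at h2
  exact h2.symm

theorem Hy.zcomm (S : Hy z L B) {b : G} (hb : b ∈ B) : b * z = z * b := comm_c (S.comp.le (S.BL hb))

/-- `⟨z⟩ H` is a 2-group -/
theorem Hy.isPGroup (S : Hy z L B) {H : Subgroup G} (hH : H ≤ B) : IsPGroup 2 ↥(H ⊔ zpowers z) := by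
  obtain ⟨Q, hQ⟩ : ∃ Q : Subgroup G, ∀ g, g ∈ Q ↔ ∃ h ∈ H, g = h ∨ g = h * z := by
    have hz : ∀ h ∈ H, h * z = z * h := fun h hh => S.zcomm (hH hh)
    refine ⟨{ carrier := {g | ∃ h ∈ H, g = h ∨ g = h * z}
              mul_mem' := ?_
              one_mem' := ⟨1, one_mem _, Or.inl rfl⟩
              inv_mem' := ?_ }, fun _ => Iff.rfl⟩
    · rintro g1 g2 ⟨h, hh, h1⟩ ⟨k, hk, h2⟩
      refine ⟨h * k, mul_mem hh hk, ?_⟩
      rcases h1 with h1 | h1 <;> rcases h2 with h2 | h2 <;> rw [h1, h2]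
      · exact Or.inl rfl
      · exact Or.inr (mul_assoc _ _ _).symm
      · right
        rw [mul_assoc, ← hz k hk, mul_assoc]
      · left
        calc h * z * (k * z) = h * (z * k) * z := by group
          _ = h * (k * z) * z := by rw [hz k hk]
          _ = h * k * (z * z) := by group
          _ = h * k := by rw [S.zz, mul_one]
    · rintro _ ⟨h, hh, h1⟩
      refine ⟨h⁻¹, inv_mem hh, ?_⟩
      rcases h1 with rfl | rfl
      · exact Or.inl rfl
      · right
        rw [mul_inv_rev, inv_eq_of_mul_eq_one_left S.zz]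
        exact (hz _ (inv_mem hh)).symm
  have hsq : ∀ g ∈ Q, g * g = 1 := by
    intro g hg
    obtain ⟨h, hh, rfl | rfl⟩ := (hQ g).mp hg
    · exact S.sq _ (hH hh)
    · calc h * z * (h * z) = h * (z * h) * z := by group
        _ = h * (h * z) * z := by rw [S.zcomm (hH hh)]
        _ = (h * h) * (z * z) := by group
        _ = 1 := by rw [S.sq _ (hH hh), S.zz, one_mul]
  have hle : H ⊔ zpowers z ≤ Q := by
    refine sup_le (fun h hh => (hQ h).mpr ⟨h, hh, Or.inl rfl⟩) ?_
    rw [zpowers_le]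
    exact (hQ z).mpr ⟨1, one_mem _, Or.inr (one_mul z).symm⟩
  rintro ⟨g, hg⟩
  refine ⟨1, Subtype.ext ?_⟩
  change g ^ 2 ^ 1 = 1
  rw [pow_one, pow_two]
  exact hsq g (hle hg)

/-- the case of a hyperplane -/
theorem Hy.hyper (S : Hy z L B) {X J : Subgroup G} (hBX : B ≤ X) (hJ : IsComp X J)
    (hcl : CL J) (hzJ : z ∈ normalizer (J : Set G))
    (h8 : Nat.card ↥(B ⊓ normalizer (J : Set G)) = 8) : False := by
  obtain ⟨H, hH⟩ : ∃ H, H = B ⊓ normalizer (J : Set G) := ⟨_, rfl⟩
  rw [← hH] at h8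
  have hHB : H ≤ B := hH ▸ inf_le_left
  have hHJ : H ≤ normalizer (J : Set G) := hH ▸ inf_le_right
  obtain ⟨w, hw, hw2, hwc⟩ := exists_inv_comm (S.isPGroup hHB) (J := J)
    (sup_le hHJ (by rw [zpowers_le]; exact hzJ)) hJ.even
  have hww := sq_of_order hw2
  have hw1 := ne_one_of_order hw2
  have hwi : w⁻¹ = w := inv_eq_of_mul_eq_one_left hww
  have hwz : w * z = z * w := (hwc z (mem_sup_right (mem_zpowers z))).symm
  have hwH : ∀ h ∈ H, w * h = h * w := fun h hh => (hwc h (mem_sup_left hh)).symm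
  -- `w` normalizes `L`
  obtain ⟨u, hu, hu1⟩ : ∃ u ∈ H, u ≠ 1 := by
    by_contra hcon
    push Not at hcon
    have : H = ⊥ := by
      rw [eq_bot_iff]
      intro y hy
      exact mem_bot.mpr (hcon y hy)
    rw [this, card_bot] at h8
    norm_num at h8
  have hwL := mem_normalizer_of_commute S.comp S.cl (mem_c hwz) (S.BL (hHB hu)) (S.sq u (hHB hu)) hu1 (hwH u hu)
  obtain ⟨a, ha, hf⟩ := S.kh H hHB h8 w hwL hwH
  -- `b ∈ B - H`
  obtain ⟨b, hb, hbH⟩ : ∃ b ∈ B, b ∉ H := by
    by_contra hcon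
    push Not at hcon
    have h1 := S.card
    rw [le_antisymm hcon hHB, h8] at h1
    norm_num at h1
  have hbJ : cj b J ≠ J := by
    intro h
    exact hbH (hH ▸ ⟨hb, mem_normalizer_iff_cj.mpr h⟩)
  have hJ' := isComp_cj_of_mem hJ (hBX hb)
  obtain ⟨w', hw'⟩ : ∃ w', w' = b * w * b⁻¹ := ⟨_, rfl⟩
  have hw'J : w' ∈ cj b J := by rw [hw']; exact conj_mem_cj hw
  have hw'w : w' * w' = 1 := by
    rw [hw']
    calc b * w * b⁻¹ * (b * w * b⁻¹) = b * (w * w) * b⁻¹ := by group
      _ = 1 := by rw [hww]; group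
  -- `w w' ∈ O(L)`
  have hg : w * w' ∈ core L := by
    have h1 : ⁅a⁻¹ * w, b⁆ ∈ core L := hf.2 b (S.BL hb)
    have h2 : w * w' = a * ⁅a⁻¹ * w, b⁆ * a⁻¹ := by
      have h3 : a * b⁻¹ * a⁻¹ = b⁻¹ := by
        rw [S.comm ha (inv_mem hb), mul_inv_cancel_right]
      have h4 : a * ⁅a⁻¹ * w, b⁆ * a⁻¹ = w * b * w⁻¹ * (a * b⁻¹ * a⁻¹) := by
        rw [commutatorElement_def]; group
      rw [h4, h3, hw', hwi]
      group
    rw [h2]
    exact conj_mem_core (le_normalizer (S.BL ha)) h1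
  have hsq : w * w' * (w * w') ∈ core X := by
    have h1 := hJ.comm_le_core hJ' (Ne.symm hbJ) (commutator_mem_commutator hw hw'J)
    have h2 : ⁅w, w'⁆ = w * w' * (w * w') := by
      rw [commutatorElement_def, hwi, inv_eq_of_mul_eq_one_left hw'w]
      group
    rw [h2] at h1
    exact hJ.core_le_core h1.1
  have hgX := mem_of_sq_mem (odd_card_core L) hg hsq
  have hfw : Fixes w J := by
    have h1 : w = (w * w') * w' := by rw [mul_assoc, hw'w, mul_one]
    rw [h1]
    exact fixes_mul (hJ.fixes_of_core hgX) (hJ.fixes_of_mem hJ' (Ne.symm hbJ) hw'J)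
  exact hw1 (eq_one_of_mem_core_sq (hcl.mem_core hw hfw) hww)

/-- **Lemma (M).** -/
theorem Hy.le_normalizer (S : Hy z L B) {X J : Subgroup G} (hzX : z ∈ X) (hBX : B ≤ X) (hJ : IsComp X J)
    (hcl : CL J) (hzJ : z ∈ normalizer (J : Set G)) : B ≤ normalizer (J : Set G) := by
  have hp : Fact (Nat.Prime 2) := ⟨Nat.prime_two⟩
  obtain ⟨n, hn⟩ : ∃ n, n = 16 - Nat.card ↥(B ⊓ normalizer (J : Set G)) := ⟨_, rfl⟩
  induction n using Nat.strong_induction_on generalizing X J with
  | _ n ih =>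
    by_contra hcon
    obtain ⟨B1, hB1⟩ : ∃ B1, B1 = B ⊓ normalizer (J : Set G) := ⟨_, rfl⟩
    rw [← hB1] at hn
    have hB1B : B1 ≤ B := hB1 ▸ inf_le_left
    obtain ⟨b, hb, hbJ⟩ := SetLike.not_le_iff_exists.mp hcon
    have hbb := S.sq b hb
    have hbX := hBX hb
    have hbn : cj b J ≠ J := fun h => hbJ (mem_normalizer_iff_cj.mpr h)
    obtain ⟨h1, -⟩ := exists_diag hJ hbX hbb hbn
    obtain ⟨D, hD⟩ : ∃ D, D = diag X J b := ⟨_, rfl⟩
    have hclD : CL D := hD ▸ cl_diag hJ hbX hbb hbn hcl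
    rw [← hD] at h1
    have hcjD : ∀ {c : G}, c ∈ X → c * b = b * c → cj c D = diag X (cj c J) b := by
      intro c hc hcb
      rw [hD, cj_diag, cj_eq_self_of_mem hc]
      congr 1
      rw [hcb, mul_inv_cancel_right]
    have hzD : z ∈ normalizer (D : Set G) := by
      rw [mem_normalizer_iff_cj, hcjD hzX (S.zcomm hb).symm, mem_normalizer_iff_cj.mp hzJ, ← hD]
    have hbc : ∀ {c : G}, c ∈ B → c * b = b * c := fun hc => S.comm hc hb
    -- index two
    by_cases hBD : B ≤ normalizer (D : Set G)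
    · have h2 : ∀ c ∈ B, c ∈ normalizer (J : Set G) ∨ b⁻¹ * c ∈ normalizer (J : Set G) := by
        intro c hc
        by_contra hcon
        push Not at hcon
        obtain ⟨e1, e2⟩ := hcon
        have hcX := hBX hc
        have hcJ := isComp_cj_of_mem hJ hcX
        have e3 : cj b (cj c J) ≠ cj c J := by
          intro h
          rw [← cj_mul, ← hbc hc, cj_mul] at h
          exact hbn (cj_injective c h)
        have e4 : cj c J ≠ J := fun h => e1 (mem_normalizer_iff_cj.mpr h)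
        have e5 : cj c J ≠ cj b J := by
          intro h
          apply e2
          rw [mem_normalizer_iff_cj, cj_mul, h, cj_inv_cj]
        apply diag_ne hJ hbX hbb hbn hcJ e3 e4 e5
        rw [← hcjD hcX (hbc hc), ← hD]
        exact mem_normalizer_iff_cj.mp (hBD hc)
      have h3 : (B1.subgroupOf B).index = 2 := by
        rw [index_eq_two_iff_exists_notMem_and']
        refine ⟨⟨b⁻¹, inv_mem hb⟩, ?_, ?_⟩
        · rw [mem_subgroupOf, hB1]
          intro h
          have h5 := (normalizer (J : Set G)).inv_mem h.2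
          rw [inv_inv] at h5
          exact hbJ h5
        · rintro ⟨c, hc⟩
          rw [mem_subgroupOf, mem_subgroupOf, hB1]
          rcases h2 c hc with h | h
          · exact Or.inr ⟨hc, h⟩
          · exact Or.inl ⟨B.mul_mem (B.inv_mem hb) hc, h⟩
      have h4 := (B1.subgroupOf B).index_mul_card
      rw [h3, S.card, Nat.card_congr (subgroupOfEquivOfLe hB1B).toEquiv] at h4
      exact S.hyper hBX hJ hcl hzJ (by rw [← hB1]; omega)
    · have h2 : B1 < B ⊓ normalizer (D : Set G) := by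
        rw [SetLike.lt_iff_le_and_exists]
        constructor
        · intro c hc
          refine ⟨hB1B hc, ?_⟩
          rw [hB1] at hc
          change c ∈ normalizer (D : Set G)
          rw [mem_normalizer_iff_cj, hcjD (hBX hc.1) (hbc hc.1), mem_normalizer_iff_cj.mp hc.2, ← hD]
        · refine ⟨b, ⟨hb, ?_⟩, fun h => hbJ ?_⟩
          · refine centralizer_le_normalizer _ (mem_centralizer_iff.mpr fun y hy => ?_)
            exact comm_c (h1.le hy).2
          · rw [hB1] at h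
            exact h.2
      have h3 : Nat.card B1 < Nat.card ↥(B ⊓ normalizer (D : Set G)) := by
        by_contra h
        push Not at h
        exact h2.ne (Subgroup.eq_of_le_of_card_ge h2.le h)
      have h4 : Nat.card ↥(B ⊓ normalizer (D : Set G)) ≤ 16 := by
        rw [← S.card]
        exact Nat.le_of_dvd Nat.card_pos (card_dvd_of_le inf_le_left)
      apply hBD
      refine ih _ ?_ (X := X ⊓ centralizer ({b} : Set G)) ⟨hzX, mem_c (S.zcomm hb).symm⟩
        (fun c hc => ⟨hBX hc, mem_c (hbc hc)⟩) h1 hclD hzD rfl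
      omega

end Cfsg.Agent.UGT.N2S.FMov
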