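import Cfsg.Agent.UGT.L34T2.Gen
import Cfsg.Agent.UGT.L34.Supply

/-!
# `L₃(4)`: automorphisms centralizing a hyperplane of an elementary abelian group of order 16

* `kh`: `B` elementary abelian of order 16, `H ≤ B` of order 8, `φ` trivial on `H`: `φ` is conjugation by an element of
  `B`.
* `cent_invol`: `C_D(t)`, `t` an involution, is a 2-group.
* `fix_of_le`: an automorphism centralizing a Sylow 2-subgroup is conjugation by a central element of it.
-/

set_option autoImplicit false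
set_option linter.unusedVariables false

open Subgroup
open Cfsg.Agent.LThreeFour
open Cfsg.Agent.SporadicA.FieldFour
open Cfsg.Agent.UGT.Iface (IsL34)

namespace Cfsg.Agent.UGT.N2S.KH

open Cfsg.Agent.UGT.L34T2.Gen

universe u

/-- the code of an element of `AA i` -/
def cd (i : Bool) (b c : F4) : Code := cond i ⟨b, 0, c⟩ ⟨0, b, c⟩

theorem key : ∀ (i : Bool) (τ : Ty) (p : Code),
    (Finset.univ.filter (fun q : F4 × F4 => cact p τ (cd i q.1 q.2) = cd i q.1 q.2)).card ≤ 4 ∨
      (τ = ty1 ∧ cond i p.b p.a = 0) := by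
  decide +kernel

theorem cd_of {i : Bool} {p : Code} (h : cond i p.b p.a = 0) : ∃ q : F4 × F4, p = cd i q.1 q.2 := by
  cases i
  · exact ⟨(p.b, p.c), by
      obtain ⟨a, b, c⟩ := p
      have h1 : a = 0 := h
      subst h1; rfl⟩
  · exact ⟨(p.a, p.c), by
      obtain ⟨a, b, c⟩ := p
      have h1 : b = 0 := h
      subst h1; rfl⟩

theorem kh_std {D : Type*} [Group D] (A : Dat D) {i : Bool} {φ : MulAut D} {p : Code} {τ : Ty}
    (hc : A.Cd φ p τ) {H : Subgroup D} (hH : H ≤ AA A i) (h8 : Nat.card H = 8) (hf : ∀ h ∈ H, φ h = h) :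
    ∃ a ∈ AA A i, φ = MulAut.conj a := by
  rcases key i τ p with h4 | ⟨rfl, h0⟩
  · exfalso
    have hsub : (H : Set D) ⊆ (fun q : F4 × F4 => A.el (cd i q.1 q.2)) ''
        ((Finset.univ.filter (fun q : F4 × F4 => cact p τ (cd i q.1 q.2) = cd i q.1 q.2) :
          Finset (F4 × F4)) : Set (F4 × F4)) := by
      intro h hh
      obtain ⟨r, hr, hr0⟩ := hH hh
      obtain ⟨q, rfl⟩ := cd_of hr0
      refine ⟨q, ?_, hr⟩
      simp only [Finset.coe_filter, Finset.mem_univ, true_and, Set.mem_ofPred_eq]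
      have h1 := hf h hh
      rw [← hr, hc.apply] at h1
      exact A.inj h1
    have h5 := Set.ncard_le_ncard hsub (Set.toFinite _)
    have h6 := Set.ncard_image_le (f := fun q : F4 × F4 => A.el (cd i q.1 q.2))
      (s := ((Finset.univ.filter (fun q : F4 × F4 => cact p τ (cd i q.1 q.2) = cd i q.1 q.2) :
          Finset (F4 × F4)) : Set (F4 × F4))) (Set.toFinite _)
    rw [Set.ncard_coe_finset] at h6
    have h7 : (H : Set D).ncard = Nat.card H := rfl
    omega
  · refine ⟨A.el (cinv p), ⟨cinv p, rfl, ?_⟩, hc.eq_conj⟩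
    cases i
    · exact h0
    · exact h0

/-- **(KH)** -/
theorem kh (D : Type u) [Group D] (hD : IsL34 D) (B : Subgroup D) (hB : Nat.card B = 16)
    (hsq : ∀ b ∈ B, b * b = 1) (H : Subgroup D) (hHB : H ≤ B) (h8 : Nat.card H = 8) (φ : MulAut D)
    (hφ : ∀ h ∈ H, φ h = h) : ∃ a ∈ B, φ = MulAut.conj a := by
  obtain ⟨A⟩ := LSup.exists_dat hD
  have hfin : Finite D := Nat.finite_of_card_ne_zero (by rw [A.card]; norm_num)
  obtain ⟨h0, hh0, h01⟩ : ∃ h ∈ H, h ≠ 1 := by
    by_contra hcon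
    push Not at hcon
    have h1 : H = ⊥ := (eq_bot_iff_forall _).mpr hcon
    rw [h1, card_bot] at h8
    omega
  obtain ⟨g, hg⟩ := A.invol_conj h0 h01 (hsq h0 (hHB hh0))
  let c : D ≃* D := MulAut.conj g
  have hcg : ∀ y, c y = g * y * g⁻¹ := fun _ => rfl
  -- `B` conjugated
  have hBT : B.map c.toMonoidHom ≤ A.T := by
    rintro _ ⟨b, hb, rfl⟩
    have h1 : c b * A.x 0 2 1 = A.x 0 2 1 * c b := by
      rw [← hg, ← hcg, ← map_mul, ← map_mul]
      have h2 : b * h0 = h0 * b := by
        have h3 := hsq b hb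
        have h4 := hsq h0 (hHB hh0)
        have h5 := hsq (b * h0) (mul_mem hb (hHB hh0))
        have h6 : b⁻¹ = b := inv_eq_of_mul_eq_one_left h3
        have h7 : h0⁻¹ = h0 := inv_eq_of_mul_eq_one_left h4
        have h8 : (b * h0)⁻¹ = b * h0 := inv_eq_of_mul_eq_one_left h5
        rw [← h8, mul_inv_rev, h6, h7]
      rw [h2]
    obtain ⟨p, hp⟩ := A.cent _ h1
    exact ⟨p, hp.symm⟩
  obtain ⟨i, hi⟩ := le_AA A hBT (by
    rintro _ ⟨u, hu, rfl⟩
    rw [← map_mul, hsq u hu, map_one])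
  have hBe : B.map c.toMonoidHom = AA A i := by
    refine Subgroup.eq_of_le_of_card_ge hi ?_
    rw [card_AA, card_map_of_injective c.injective, hB]
  -- `φ` conjugated
  let ψ : MulAut D := MulAut.conj g * φ * (MulAut.conj g)⁻¹
  have hψ : ∀ y, ψ (c y) = c (φ y) := by
    intro y
    change (MulAut.conj g * φ * (MulAut.conj g)⁻¹) ((MulAut.conj g) y) = (MulAut.conj g) (φ y)
    rw [MulAut.mul_apply, MulAut.mul_apply, MulAut.inv_apply_self]
  have hx : ψ (A.x 0 2 1) = A.x 0 2 1 := by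
    rw [← hg, ← hcg, hψ, hφ h0 hh0]
  obtain ⟨p, τ, hcd⟩ := A.exists_cd hx
  have hH1 : H.map c.toMonoidHom ≤ AA A i := by
    rw [← hBe]
    exact map_mono hHB
  obtain ⟨a, ha, hψa⟩ := kh_std A hcd hH1 (by rw [card_map_of_injective c.injective, h8]) (by
    rintro _ ⟨h, hh, rfl⟩
    change ψ (c h) = c h
    rw [hψ, hφ h hh])
  rw [← hBe] at ha
  obtain ⟨b, hb, rfl⟩ := ha
  refine ⟨b, hb, ?_⟩
  have h1 : φ = (MulAut.conj g)⁻¹ * ψ * MulAut.conj g := by
    change φ = (MulAut.conj g)⁻¹ * (MulAut.conj g * φ * (MulAut.conj g)⁻¹) * MulAut.conj g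
    group
  have h2 : ψ = MulAut.conj (g * b * g⁻¹) := hψa
  rw [h1, h2, map_mul, map_mul, map_inv]
  group

/-- the centralizer of an involution is a 2-group -/
theorem cent_invol {D : Type*} [Group D] (hD : IsL34 D) {t : D} (h1 : t ≠ 1) (h2 : t * t = 1) :
    IsPGroup 2 (centralizer ({t} : Set D)) ∧ Nat.card (centralizer ({t} : Set D)) = 64 := by
  obtain ⟨A⟩ := LSup.exists_dat hD
  have hfin : Finite D := Nat.finite_of_card_ne_zero (by rw [A.card]; norm_num)
  obtain ⟨g, hg⟩ := A.invol_conj t h1 h2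
  let c : D ≃* D := MulAut.conj g
  have hmap : (centralizer ({t} : Set D)).map c.toMonoidHom = A.T := by
    ext y
    constructor
    · rintro ⟨z, hz, rfl⟩
      have h3 : z * t = t * z := by
        have := mem_centralizer_singleton_iff.mp hz
        exact this
      have h1 : c z * A.x 0 2 1 = A.x 0 2 1 * c z := by
        rw [← hg]
        change c z * c t = c t * c z
        rw [← map_mul, ← map_mul, h3]
      obtain ⟨p, hp⟩ := A.cent _ h1
      exact ⟨p, hp.symm⟩
    · rintro ⟨p, rfl⟩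
      refine ⟨c.symm (A.el p), ?_, c.apply_symm_apply _⟩
      have h3 : A.el p * A.x 0 2 1 = A.x 0 2 1 * A.el p := by
        rw [← A.el_x02, A.el_mul, A.el_mul]
        congr 1
        revert p
        decide +kernel
      have h4 : c t = A.x 0 2 1 := hg
      rw [SetLike.mem_coe, mem_centralizer_singleton_iff]
      apply c.injective
      rw [map_mul, map_mul, c.apply_symm_apply, h4, h3]
  have hcard : Nat.card (centralizer ({t} : Set D)) = 64 := by
    rw [← card_map_of_injective (f := c.toMonoidHom) c.injective, hmap, A.card_T]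
  exact ⟨IsPGroup.of_card (n := 6) (by rw [hcard]; norm_num), hcard⟩

end Cfsg.Agent.UGT.N2S.KH
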