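import Cfsg.Agent.UGT.N2S.KF2
import Cfsg.Agent.UGT.N2S.KF34
import Cfsg.Agent.UGT.N2S.KFA
import Cfsg.Agent.UGT.L34T2.Fr

/-!
# `Z(P)` acts trivially on the odd groups `E` with `OddC ξ E`

`P` is a Sylow 2-subgroup of `L₃(4)` (`Heis P Z A`), acting on `D` of type `L₂(q)`, `Aₙ`, `L₃(4)` and on
`E ≤ Aut D`.
-/

set_option autoImplicit false

open Cfsg Subgroup
open Cfsg.Agent.GH.L2Aut
open Cfsg.Agent.UGT.LTF.KF2 (Tor le_tor cyclic_tor field_bot)
open Cfsg.Agent.UGT.Iface (IsL2 IsL34 IsAltOdd)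
open Cfsg.Agent.UGT.LTF.Defs (OddC)
open Cfsg.Agent.UGT.L34T2 (Heis)

namespace Cfsg.Agent.UGT.N2S.KQ

universe u

/-! ### cyclic groups -/

section cyc

variable {M : Type*} [Group M]

/-- commutators act trivially on cyclic groups -/
theorem comm_of_cyclic {E : Subgroup M} (hE : IsCyclic E) {p r : M} (hp : p ∈ normalizer (E : Set M))
    (hr : r ∈ normalizer (E : Set M)) : ∀ e ∈ E, p * r * p⁻¹ * r⁻¹ * e = e * (p * r * p⁻¹ * r⁻¹) := by
  obtain ⟨⟨g, hg⟩, hgen⟩ := hE.exists_generator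
  have hpow : ∀ e ∈ E, ∃ k : ℤ, e = g ^ k := by
    intro e he
    obtain ⟨k, hk⟩ := mem_zpowers_iff.mp (hgen ⟨e, he⟩)
    exact ⟨k, (congrArg Subtype.val hk).symm⟩
  obtain ⟨m, hm⟩ := hpow _ ((mem_normalizer_iff.mp hp g).mp hg)
  obtain ⟨n, hn⟩ := hpow _ ((mem_normalizer_iff.mp hr g).mp hg)
  have h1 : ∀ k : ℤ, p * g ^ k * p⁻¹ = g ^ (m * k) := by
    intro k
    rw [← conj_zpow, hm, zpow_mul]
  have h2 : ∀ k : ℤ, r * g ^ k * r⁻¹ = g ^ (n * k) := by
    intro k
    rw [← conj_zpow, hn, zpow_mul]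
  have h3 : ∀ e ∈ E, p * r * e * (p * r)⁻¹ = r * p * e * (r * p)⁻¹ := by
    intro e he
    obtain ⟨k, rfl⟩ := hpow e he
    have e1 : p * r * g ^ k * (p * r)⁻¹ = p * (r * g ^ k * r⁻¹) * p⁻¹ := by group
    have e2 : r * p * g ^ k * (r * p)⁻¹ = r * (p * g ^ k * p⁻¹) * r⁻¹ := by group
    rw [e1, e2, h1, h2, h1, h2]
    congr 1
    ring
  intro e he
  have h4 : (r * p)⁻¹ * e * (r * p) ∈ E := by
    have h5 := (mem_normalizer_iff.mp (inv_mem (mul_mem hr hp)) e).mp he
    rwa [inv_inv] at h5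
  have h6 := h3 _ h4
  have h7 : r * p * ((r * p)⁻¹ * e * (r * p)) * (r * p)⁻¹ = e := by group
  rw [h7] at h6
  have h8 : p * r * ((r * p)⁻¹ * e * (r * p)) * (p * r)⁻¹ =
      (p * r * p⁻¹ * r⁻¹) * e * (p * r * p⁻¹ * r⁻¹)⁻¹ := by group
  rw [h8] at h6
  exact mul_inv_eq_iff_eq_mul.mp h6

end cyc

/-! ### groups of order nine -/

section nine

variable {E : Type*} [Group E]

/-- the fixed points -/
def fix (α : MulAut E) : Subgroup E where
  carrier := {e | α e = e}
  one_mem' := map_one α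
  mul_mem' := fun {a b} (ha : α a = a) (hb : α b = b) => by
    change α (a * b) = a * b
    rw [map_mul, ha, hb]
  inv_mem' := fun {a} (ha : α a = a) => by
    change α a⁻¹ = a⁻¹
    rw [map_inv, ha]

theorem mem_fix {α : MulAut E} {e : E} : e ∈ fix α ↔ α e = e := Iff.rfl

variable (hc : ∀ a b : E, a * b = b * a) (h9 : Nat.card E = 9) (h3 : ∀ e : E, e ^ 3 = 1)

include h3 in
theorem eq_one_of_sq {e : E} (h : e * e = 1) : e = 1 := by
  have h1 := h3 e
  rwa [pow_succ, pow_two, h, one_mul] at h1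

include h3 in
theorem mem_of_sq {B : Subgroup E} {e : E} (h : e * e ∈ B) : e ∈ B := by
  have h1 : e = (e * e) * (e * e) := by
    have h2 := h3 e
    calc e = e ^ 3 * e := by rw [h2, one_mul]
      _ = _ := by simp only [pow_succ, pow_zero, one_mul, mul_assoc]
  rw [h1]
  exact mul_mem h h

include hc in
/-- the elements inverted by `α` -/
def neg (α : MulAut E) : Subgroup E where
  carrier := {e | α e = e⁻¹}
  one_mem' := by
    change α 1 = 1⁻¹
    rw [map_one, inv_one]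
  mul_mem' := fun {a b} (ha : α a = a⁻¹) (hb : α b = b⁻¹) => by
    change α (a * b) = (a * b)⁻¹
    rw [map_mul, ha, hb, mul_inv_rev, hc]
  inv_mem' := fun {a} (ha : α a = a⁻¹) => by
    change α a⁻¹ = a⁻¹⁻¹
    rw [map_inv, ha]

include hc in
theorem mul_mem_fix {α : MulAut E} (ha : α * α = 1) (e : E) : e * α e ∈ fix α := by
  rw [mem_fix, map_mul]
  have : α (α e) = e := by rw [← MulAut.mul_apply, ha, MulAut.one_apply]
  rw [this, hc]

include hc in
theorem inv_of_fix {α : MulAut E} (ha : α * α = 1) (h : fix α = ⊥) (e : E) : α e = e⁻¹ := by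
  have h1 := mul_mem_fix hc ha e
  rw [h, mem_bot] at h1
  exact (inv_eq_of_mul_eq_one_right h1).symm

include h9 in
theorem card_cases (B : Subgroup E) : B = ⊥ ∨ B = ⊤ ∨ Nat.card B = 3 := by
  have hfin : Finite E := Nat.finite_of_card_ne_zero (by rw [h9]; norm_num)
  have h1 : Nat.card B ∣ 3 ^ 2 := by
    have := B.card_subgroup_dvd_card
    rwa [h9] at this
  obtain ⟨k, hk, hk2⟩ := (Nat.dvd_prime_pow Nat.prime_three).mp h1
  interval_cases k
  · left
    rw [pow_zero] at hk2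
    exact card_eq_one.mp hk2
  · right; right
    rwa [pow_one] at hk2
  · right; left
    apply eq_top_of_card_eq
    rw [hk2, h9]
    norm_num

/-- two subgroups of order 3 -/
theorem eq_of_card_three {B B' : Subgroup E} (hB : Nat.card B = 3) (hB' : Nat.card B' = 3) {e : E}
    (he : e ∈ B) (he' : e ∈ B') (h1 : e ≠ 1) : B = B' := by
  have hp : Fact (Nat.Prime 3) := ⟨Nat.prime_three⟩
  have key : ∀ {B : Subgroup E}, Nat.card B = 3 → e ∈ B → B = zpowers e := by
    intro B hB he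
    have h2 : zpowers (⟨e, he⟩ : B) = ⊤ := by
      apply zpowers_eq_top_of_prime_card (p := 3) hB
      intro h
      exact h1 (congrArg Subtype.val h)
    apply le_antisymm
    · intro y hy
      have h3 : (⟨y, hy⟩ : B) ∈ zpowers (⟨e, he⟩ : B) := by rw [h2]; trivial
      obtain ⟨k, hk⟩ := mem_zpowers_iff.mp h3
      exact mem_zpowers_iff.mpr ⟨k, congrArg Subtype.val hk⟩
    · rw [zpowers_le]
      exact he
  rw [key hB he, key hB' he']

include hc h9 h3 in
/-- commuting non-central involutions `α`, `β` with `α β` non-central -/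
theorem vier {α β : MulAut E} (ha : α * α = 1) (hb : β * β = 1) (hab : α * β = β * α)
    (h1 : Nat.card (fix α) = 3) (h2 : Nat.card (fix β) = 3) (h4 : Nat.card (fix (α * β)) = 3) : False := by
  have hfin : Finite E := Nat.finite_of_card_ne_zero (by rw [h9]; norm_num)
  have hcomm : ∀ e, α (β e) = β (α e) := fun e => by
    rw [← MulAut.mul_apply, hab, MulAut.mul_apply]
  have hg : (α * β) * (α * β) = 1 := by
    calc (α * β) * (α * β) = α * (β * α) * β := by group
      _ = (α * α) * (β * β) := by rw [← hab]; group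
      _ = 1 := by rw [ha, hb, one_mul]
  by_cases heq : fix α = fix β
  · have h5 : fix (α * β) = fix α := by
      obtain ⟨e, he, he1⟩ : ∃ e ∈ fix α, e ≠ 1 := by
        by_contra hcon
        push Not at hcon
        have : fix α = ⊥ := by
          rw [eq_bot_iff]
          exact fun y hy => mem_bot.mpr (hcon y hy)
        rw [this, card_bot] at h1
        norm_num at h1
      refine eq_of_card_three h4 h1 (e := e) ?_ he he1
      have h6 : e ∈ fix β := heq ▸ he
      rw [mem_fix] at he h6 ⊢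
      rw [MulAut.mul_apply, h6, he]
    obtain ⟨v, hv⟩ : ∃ v, v ∉ fix α := by
      by_contra hcon
      push Not at hcon
      have : fix α = ⊤ := by
        rw [eq_top_iff]
        exact fun y _ => hcon y
      rw [this, card_top, h9] at h1
      norm_num at h1
    apply hv
    apply mem_of_sq h3
    have e1 := mul_mem_fix hc ha v
    have e2 := mul_mem_fix hc hb v
    have e3 := mul_mem_fix hc hg v
    rw [← heq] at e2
    rw [h5, MulAut.mul_apply] at e3
    -- `α (β v) = α (v⁻¹ b')`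
    have e4 : α (v * β v) = v * β v := e2
    rw [map_mul] at e4
    have e5 : α (β v) = (α v)⁻¹ * (v * β v) := by rw [← e4]; group
    have e6 : v * v = (v * α (β v)) * (v * β v)⁻¹ * (v * α v) := by
      rw [e5]
      have : v * ((α v)⁻¹ * (v * β v)) * (v * β v)⁻¹ * (v * α v) = v * ((α v)⁻¹ * v * α v) := by group
      rw [this, hc (α v)⁻¹ v]
      group
    rw [e6]
    exact mul_mem (mul_mem e3 (inv_mem e2)) e1
  · have hbot : ∀ e, e ∈ fix α → e ∈ fix β → e = 1 := by
      intro e he he'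
      by_contra hne
      exact heq (eq_of_card_three h1 h2 he he' hne)
    have h5 : fix α ≤ neg hc (α * β) := by
      intro e he
      change (α * β) e = e⁻¹
      have h6 : e * β e = 1 := by
        refine hbot _ ?_ (mul_mem_fix hc hb e)
        rw [mem_fix] at he ⊢
        rw [map_mul, hcomm, he]
      have h7 : β e = e⁻¹ := (inv_eq_of_mul_eq_one_right h6).symm
      rw [MulAut.mul_apply, h7, map_inv, mem_fix.mp he]
    have h6 : fix β ≤ neg hc (α * β) := by
      intro e he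
      change (α * β) e = e⁻¹
      have h6 : e * α e = 1 := by
        refine hbot _ (mul_mem_fix hc ha e) ?_
        rw [mem_fix] at he ⊢
        rw [map_mul, ← hcomm, he]
      have h7 : α e = e⁻¹ := (inv_eq_of_mul_eq_one_right h6).symm
      rw [MulAut.mul_apply, mem_fix.mp he, h7]
    have h7 : neg hc (α * β) = ⊤ := by
      rcases card_cases h9 (neg hc (α * β)) with h | h | h
      · rw [h] at h5
        have : fix α = ⊥ := le_bot_iff.mp h5
        rw [this, card_bot] at h1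
        norm_num at h1
      · exact h
      · exfalso
        apply heq
        rw [Subgroup.eq_of_le_of_card_ge h5 (by rw [h, h1]), Subgroup.eq_of_le_of_card_ge h6 (by rw [h, h2])]
    have h8 : fix (α * β) = ⊥ := by
      rw [eq_bot_iff]
      intro e he
      have h9 : e ∈ neg hc (α * β) := by rw [h7]; trivial
      have h10 : (α * β) e = e⁻¹ := h9
      rw [mem_fix.mp he] at h10
      rw [mem_bot]
      apply eq_one_of_sq h3
      nth_rewrite 2 [h10]
      rw [mul_inv_cancel]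
    rw [h8, card_bot] at h4
    norm_num at h4

include hc h9 h3 in
theorem heis_nine {T : Type*} [Group T] {P Z : Subgroup T} {A : Bool → Subgroup T} (H : Heis P Z A)
    (ψ : ↥P →* MulAut E) {z : T} (hz : z ∈ Z) (hzP : z ∈ P) : ψ ⟨z, hzP⟩ = 1 := by
  have hfin : Finite E := Nat.finite_of_card_ne_zero (by rw [h9]; norm_num)
  have hfP : Finite P := Nat.finite_of_card_ne_zero (by rw [H.cardP]; norm_num)
  by_contra hne
  have hsqA : ∀ a (ha : a ∈ A false), ψ ⟨a, H.AP _ ha⟩ * ψ ⟨a, H.AP _ ha⟩ = 1 := by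
    intro a ha
    rw [← map_mul]
    have : (⟨a, H.AP _ ha⟩ : P) * ⟨a, H.AP _ ha⟩ = 1 := Subtype.ext (H.Asq _ a ha)
    rw [this, map_one]
  obtain ⟨ζ, hζ⟩ : ∃ ζ, ζ = ψ ⟨z, hzP⟩ := ⟨_, rfl⟩
  rw [← hζ] at hne
  have hζζ : ζ * ζ = 1 := by rw [hζ]; exact hsqA z (H.ZA _ hz)
  have hcom : ∀ p : P, ψ p * ζ = ζ * ψ p := by
    intro p
    rw [hζ, ← map_mul, ← map_mul]
    congr 1
    exact Subtype.ext (H.Zcen z hz p p.2)
  have hcom' : ∀ (p : P) (e : E), ψ p (ζ e) = ζ (ψ p e) := fun p e => by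
    rw [← MulAut.mul_apply, hcom, MulAut.mul_apply]
  -- `z` is a commutator `[a, r]` for every `a ∈ A false - Z`
  have hcomm : ∀ a ∈ A false, a ∉ Z → ∀ (ha : a ∈ P), ∃ r : P, ψ ⟨a, ha⟩ * ψ r * (ψ ⟨a, ha⟩)⁻¹ * (ψ r)⁻¹ = ζ := by
    intro a haA haZ ha
    obtain ⟨r, hr, hr2⟩ := H.surj a ha haZ z hz
    refine ⟨⟨r, hr⟩, ?_⟩
    rw [hζ, ← map_mul, ← map_inv, ← map_mul, ← map_inv, ← map_mul]
    congr 1
    exact Subtype.ext hr2
  -- there are `a₀`, `a₁`, `a₀ a₁ ∈ A false - Z`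
  obtain ⟨a0, ha0, ha0Z, a1, ha1, ha1Z, ha01⟩ : ∃ a0 ∈ A false, a0 ∉ Z ∧ ∃ a1 ∈ A false, a1 ∉ Z ∧ a0 * a1 ∉ Z := by
    have h16 := H.cardA false
    have hfA : Finite (A false) := Nat.finite_of_card_ne_zero (by rw [h16]; norm_num)
    have hidx : (Z.subgroupOf (A false)).index = 4 := by
      have h1 := (Z.subgroupOf (A false)).index_mul_card
      rw [h16, Nat.card_congr (subgroupOfEquivOfLe (H.ZA false)).toEquiv, H.cardZ] at h1
      omega
    obtain ⟨a0, ha0, ha0Z⟩ : ∃ a0 ∈ A false, a0 ∉ Z := by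
      by_contra hcon
      push Not at hcon
      have h1 : Z.subgroupOf (A false) = ⊤ := subgroupOf_eq_top.mpr hcon
      rw [h1, index_top] at hidx
      norm_num at hidx
    have hai : a0⁻¹ = a0 := inv_eq_of_mul_eq_one_left (H.Asq _ a0 ha0)
    refine ⟨a0, ha0, ha0Z, ?_⟩
    by_contra hcon
    push Not at hcon
    have h1 : (Z.subgroupOf (A false)).index = 2 := by
      rw [index_eq_two_iff_exists_notMem_and']
      refine ⟨⟨a0, ha0⟩, ha0Z, ?_⟩
      rintro ⟨c, hc⟩
      rw [mem_subgroupOf, mem_subgroupOf]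
      by_cases hcZ : c ∈ Z
      · exact Or.inr hcZ
      · exact Or.inl (hcon c hc hcZ)
    rw [hidx] at h1
    norm_num at h1
  -- `fix ζ = ⊥`
  have hbot : fix ζ = ⊥ := by
    obtain ⟨r, hr⟩ := hcomm a0 ha0 ha0Z (H.AP _ ha0)
    obtain ⟨α, hα⟩ : ∃ α, α = ψ ⟨a0, H.AP _ ha0⟩ := ⟨_, rfl⟩
    rw [← hα] at hr
    rcases card_cases h9 (fix ζ) with h | h | h
    · exact h
    · exfalso
      apply hne
      ext e
      have : e ∈ fix ζ := by rw [h]; trivial
      exact this
    · exfalso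
      -- the elements inverted by `ζ`
      have hN3 : Nat.card (neg hc ζ) = 3 := by
        rcases card_cases h9 (neg hc ζ) with h' | h' | h'
        · exfalso
          apply hne
          ext e
          have e1 : e * (ζ e)⁻¹ ∈ neg hc ζ := by
            change ζ (e * (ζ e)⁻¹) = (e * (ζ e)⁻¹)⁻¹
            have : ζ (ζ e) = e := by rw [← MulAut.mul_apply, hζζ, MulAut.one_apply]
            rw [map_mul, map_inv, this, mul_inv_rev, inv_inv]
          rw [h', mem_bot, mul_inv_eq_one] at e1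
          exact e1.symm
        · exfalso
          have : fix ζ = ⊥ := by
            rw [eq_bot_iff]
            intro e he
            have e1 : e ∈ neg hc ζ := by rw [h']; trivial
            have e2 : ζ e = e⁻¹ := e1
            rw [mem_fix.mp he] at e2
            rw [mem_bot]
            apply eq_one_of_sq h3
            nth_rewrite 2 [e2]
            rw [mul_inv_cancel]
          rw [this, card_bot] at h
          norm_num at h
        · exact h'
      have hp3 : Fact (Nat.Prime 3) := ⟨Nat.prime_three⟩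
      have hcyc : IsCyclic (neg hc ζ) := isCyclic_of_prime_card hN3
      obtain ⟨⟨g, hg⟩, hgen⟩ := hcyc.exists_generator
      have hpow : ∀ e ∈ neg hc ζ, ∃ k : ℤ, e = g ^ k := by
        intro e he
        obtain ⟨k, hk⟩ := mem_zpowers_iff.mp (hgen ⟨e, he⟩)
        exact ⟨k, (congrArg Subtype.val hk).symm⟩
      have hinv : ∀ (p : P) (e : E), e ∈ neg hc ζ → ψ p e ∈ neg hc ζ := by
        intro p e he
        change ζ (ψ p e) = (ψ p e)⁻¹
        have h5 : ζ e = e⁻¹ := he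
        rw [← hcom', h5, map_inv]
      obtain ⟨m, hm⟩ := hpow _ (hinv ⟨a0, H.AP _ ha0⟩ g hg)
      obtain ⟨n, hn⟩ := hpow _ (hinv r g hg)
      rw [← hα] at hm
      have h5 : ζ * ψ r * α = α * ψ r := by rw [← hr]; group
      have h6 := DFunLike.congr_fun h5 g
      have e1 : ψ r (α g) = g ^ (m * n) := by rw [hm, map_zpow, hn, ← zpow_mul, mul_comm n m]
      have e2 : α (ψ r g) = g ^ (m * n) := by rw [hn, map_zpow, hm, ← zpow_mul]
      rw [MulAut.mul_apply, MulAut.mul_apply, MulAut.mul_apply, e1, e2] at h6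
      -- `ζ` fixes `g ^ (m * n)`, a generator
      have h7 : g ^ (m * n) ∈ fix ζ := h6
      have h8 : g ^ (m * n) ∈ neg hc ζ := zpow_mem hg _
      have h10 : g ^ (m * n) = 1 := by
        have e2 : ζ (g ^ (m * n)) = (g ^ (m * n))⁻¹ := h8
        rw [mem_fix.mp h7] at e2
        apply eq_one_of_sq h3
        nth_rewrite 2 [e2]
        rw [mul_inv_cancel]
      have h11 : ψ r (α g) = 1 := by rw [hm, map_zpow, hn, ← zpow_mul, mul_comm n m, h10]
      have h12 : g = 1 := by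
        have e1 : α g = 1 := (ψ r).injective (by rw [h11, map_one])
        exact α.injective (by rw [e1, map_one])
      have h13 : neg hc ζ = ⊥ := by
        rw [eq_bot_iff]
        intro e he
        obtain ⟨k, rfl⟩ := hpow e he
        rw [h12, one_zpow]
        exact one_mem _
      rw [h13, card_bot] at hN3
      norm_num at hN3
  -- the elements of `A false - Z` act as non-central involutions
  have hfix : ∀ a ∈ A false, a ∉ Z → ∀ (ha : a ∈ P), Nat.card (fix (ψ ⟨a, ha⟩)) = 3 := by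
    intro a haA haZ ha
    obtain ⟨r, hr⟩ := hcomm a haA haZ ha
    rcases card_cases h9 (fix (ψ ⟨a, ha⟩)) with h | h | h
    · exfalso
      apply hne
      have h1 : ∀ e, ψ ⟨a, ha⟩ e = e⁻¹ := inv_of_fix hc (hsqA a haA) h
      have h2 : ψ ⟨a, ha⟩ * ψ r = ψ r * ψ ⟨a, ha⟩ := by
        ext e
        rw [MulAut.mul_apply, MulAut.mul_apply, h1, h1, map_inv]
      rw [← hr, h2]
      group
    · exfalso
      apply hne
      have h1 : ψ ⟨a, ha⟩ = 1 := by
        ext e
        have : e ∈ fix (ψ ⟨a, ha⟩) := by rw [h]; trivial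
        exact this
      rw [← hr, h1]
      group
    · exact h
  have hm : ψ ⟨a0 * a1, H.AP _ (mul_mem ha0 ha1)⟩ = ψ ⟨a0, H.AP _ ha0⟩ * ψ ⟨a1, H.AP _ ha1⟩ := by
    rw [← map_mul]
    rfl
  have hcA : ∀ a b, a ∈ A false → b ∈ A false → a * b = b * a := by
    intro a b ha hb
    have h1 := H.Asq _ _ (mul_mem ha hb)
    have h2 : (a * b)⁻¹ = a * b := inv_eq_of_mul_eq_one_left h1
    rw [mul_inv_rev, inv_eq_of_mul_eq_one_left (H.Asq _ a ha), inv_eq_of_mul_eq_one_left (H.Asq _ b hb)] at h2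
    exact h2.symm
  refine vier hc h9 h3 (hsqA a0 ha0) (hsqA a1 ha1) ?_ (hfix a0 ha0 ha0Z _) (hfix a1 ha1 ha1Z _) ?_
  · rw [← map_mul, ← map_mul]
    congr 1
    exact Subtype.ext (hcA a0 a1 ha0 ha1)
  · rw [← hm]
    exact hfix _ (mul_mem ha0 ha1) ha01 _

end nine

/-! ### consequences for homomorphisms of `P` -/

section hom

variable {T : Type*} [Group T] {P Z : Subgroup T} {A : Bool → Subgroup T} (H : Heis P Z A)
include H

theorem exists_not_mem : ∃ p ∈ P, p ∉ Z := by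
  by_contra hcon
  push Not at hcon
  have hfZ : Finite Z := Nat.finite_of_card_ne_zero (by rw [H.cardZ]; norm_num)
  have h1 := Nat.card_le_card_of_injective (inclusion (show P ≤ Z from hcon)) (inclusion_injective _)
  rw [H.cardP, H.cardZ] at h1
  norm_num at h1

theorem exists_comm {z : T} (hz : z ∈ Z) : ∃ p ∈ P, ∃ r ∈ P, p * r * p⁻¹ * r⁻¹ = z := by
  obtain ⟨p, hp, hpZ⟩ := exists_not_mem H
  obtain ⟨r, hr, h⟩ := H.surj p hp hpZ z hz
  exact ⟨p, hp, r, hr, h⟩

/-- `Z` acts trivially if the kernel is not contained in `Z` -/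
theorem eq_one_of_not_mem {M : Type*} [Group M] (φ : ↥P →* M) {p : T} (hp : p ∈ P) (hpZ : p ∉ Z)
    (h : φ ⟨p, hp⟩ = 1) {z : T} (hz : z ∈ Z) (hzP : z ∈ P) : φ ⟨z, hzP⟩ = 1 := by
  obtain ⟨r, hr, h1⟩ := H.surj p hp hpZ z hz
  have h2 : (⟨z, hzP⟩ : P) = ⟨p, hp⟩ * ⟨r, hr⟩ * ⟨p, hp⟩⁻¹ * ⟨r, hr⟩⁻¹ := Subtype.ext h1.symm
  rw [h2, map_mul, map_mul, map_mul, map_inv, map_inv, h]
  group

/-- **Lemma Q**: `Z` acts trivially if the image has order less than 32 -/
theorem eq_one_of_card {M : Type*} [Group M] (φ : ↥P →* M) (h : Nat.card φ.range < 32) {z : T}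
    (hz : z ∈ Z) (hzP : z ∈ P) : φ ⟨z, hzP⟩ = 1 := by
  have hfP : Finite P := Nat.finite_of_card_ne_zero (by rw [H.cardP]; norm_num)
  have h1 : Nat.card φ.range * Nat.card φ.ker = 64 := by
    rw [← H.cardP, ← φ.ker.index_mul_card, index_ker]
  by_cases hle : ∀ p ∈ φ.ker, (p : T) ∈ Z
  · have h2 : φ.ker.map P.subtype ≤ Z := by
      rintro _ ⟨p, hp, rfl⟩
      exact hle p hp
    have hfZ : Finite Z := Nat.finite_of_card_ne_zero (by rw [H.cardZ]; norm_num)
    have h3 : Nat.card (φ.ker.map P.subtype) = Nat.card φ.ker := card_map_of_injective P.subtype_injective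
    have h4 : 4 ≤ Nat.card φ.ker := by
      have h5 : Nat.card φ.range ∣ 2 ^ 6 := ⟨Nat.card φ.ker, by rw [h1]; norm_num⟩
      obtain ⟨k, hk, hk2⟩ := (Nat.dvd_prime_pow Nat.prime_two).mp h5
      rw [hk2] at h h1
      interval_cases k <;> omega
    have h5 : φ.ker.map P.subtype = Z := Subgroup.eq_of_le_of_card_ge h2 (by rw [h3, H.cardZ]; exact h4)
    rw [← h5] at hz
    obtain ⟨p, hp, hpz⟩ := hz
    have h6 : (⟨z, hzP⟩ : P) = p := Subtype.ext hpz.symm
    rw [h6]
    exact hp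
  · push Not at hle
    obtain ⟨p, hp, hpZ⟩ := hle
    exact eq_one_of_not_mem H φ p.2 hpZ hp hz hzP

end hom

/-! ### type `L₂(q)` -/

section rep

variable {F : Type*} [Field F] [Finite F] {L : Type*} [Group L] (R : Cfsg.Agent.GH.L2Aut.Rep F L)

include R in
theorem l2 (hF : 3 < Nat.card F) {ξ : MulAut L} (hξ : ξ * ξ = 1) {E : Subgroup (MulAut L)}
    (hE : OddC ξ E) {p r ω : MulAut L} (hp : p ∈ normalizer (E : Set (MulAut L)))
    (hr : r ∈ normalizer (E : Set (MulAut L))) (hω : p * r * p⁻¹ * r⁻¹ = ω) (hω2 : ω * ω = 1) :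
    ∀ e ∈ E, ω * e = e * ω := by
  have hfin : Finite L := R.finite
  have hcomm : ∀ (a : MulAut L) (c : L), a * MulAut.conj c * a⁻¹ = MulAut.conj (a c) := by
    intro a c
    ext l
    simp [MulAut.mul_apply]
  -- the group `E₀ = {e | conj e ∈ E}`
  obtain ⟨E₀, hE₀⟩ : ∃ E₀, E₀ = E.comap (MulAut.conj : L →* MulAut L) := ⟨_, rfl⟩
  have hE₀odd : Odd (Nat.card E₀) := by
    have h1 : Nat.card ↥(E₀.map (MulAut.conj : L →* MulAut L)) = Nat.card E₀ :=
      Subgroup.card_map_of_injective R.conj_injective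
    rw [← h1, hE₀]
    exact Odd.of_dvd_nat hE.odd (Subgroup.card_dvd_of_le (Subgroup.map_comap_le _ _))
  have hE₀c : ∀ e ∈ E₀, ξ e = e := by
    intro e he
    rw [hE₀] at he
    have h1 := hE.com _ he
    apply R.conj_injective
    rw [← hcomm, ← h1, mul_inv_cancel_right]
  have hE₀n : ∀ l, ξ l = l → ∀ e ∈ E₀, l * e * l⁻¹ ∈ E₀ := by
    intro l hl e he
    rw [hE₀] at he ⊢
    have h1 := hE.nor l hl _ he
    rw [mem_comap, map_mul, map_mul, map_inv]
    exact h1
  have hcyc : IsCyclic E₀ := by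
    by_cases hbot : E₀ = ⊥
    · rw [hbot]
      exact isCyclic_of_subsingleton
    have hξ1 : ξ ≠ 1 := by
      rintro rfl
      have hN : E₀.Normal := ⟨fun e he g => hE₀n g rfl e he⟩
      exact hbot (Cfsg.Agent.UGT.Res.L2Fact.odd_normal R hF.le hN hE₀odd)
    have hξf : R.fld ξ = 1 := by
      by_contra hf
      exact hbot (field_bot R hξ hf hE₀odd hE₀c hE₀n)
    obtain ⟨g, hg⟩ := R.mem_PGL.1 (R.mem_PGL_iff_fld.2 hξf)
    have hg1 : R.gl g ≠ 1 := fun h => hξ1 (by rw [hg, h])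
    have hT : E₀ ≤ Tor R g := by
      apply le_tor R hE₀odd
      intro e he
      rw [← hg]
      exact hE₀c e he
    have h1 := cyclic_tor R (R.tr_of_inv hg1 (by rw [← hg]; exact hξ)) (R.not_scalar_of_ne hg1)
    exact isCyclic_of_injective (inclusion hT) (inclusion_injective hT)
  -- the inner part of `E`
  obtain ⟨E₁, hE₁⟩ : ∃ E₁, E₁ = E ⊓ (MulAut.conj : L →* MulAut L).range := ⟨_, rfl⟩
  have hE₁' : E₁ = E₀.map (MulAut.conj : L →* MulAut L) := by
    rw [hE₁, hE₀]
    ext a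
    constructor
    · rintro ⟨h1, c, rfl⟩
      exact ⟨c, h1, rfl⟩
    · rintro ⟨c, h1, rfl⟩
      exact ⟨h1, c, rfl⟩
  have hcyc1 : IsCyclic E₁ := by
    rw [hE₁']
    exact isCyclic_of_surjective ((MulAut.conj : L →* MulAut L).subgroupMap E₀)
      (MonoidHom.subgroupMap_surjective _ _)
  have hrn : ∀ a c : MulAut L, c ∈ (MulAut.conj : L →* MulAut L).range ↔
      a * c * a⁻¹ ∈ (MulAut.conj : L →* MulAut L).range := by
    have key : ∀ a c : MulAut L, c ∈ (MulAut.conj : L →* MulAut L).range →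
        a * c * a⁻¹ ∈ (MulAut.conj : L →* MulAut L).range := by
      rintro a _ ⟨c, rfl⟩
      exact ⟨a c, (hcomm a c).symm⟩
    intro a c
    refine ⟨key a c, fun h => ?_⟩
    have h1 := key a⁻¹ _ h
    have h2 : a⁻¹ * (a * c * a⁻¹) * a⁻¹⁻¹ = c := by group
    rwa [h2] at h1
  have hn1 : ∀ a ∈ normalizer (E : Set (MulAut L)), a ∈ normalizer (E₁ : Set (MulAut L)) := by
    intro a ha
    rw [mem_normalizer_iff] at ha ⊢
    intro c
    rw [hE₁]
    exact ⟨fun h => ⟨(ha c).mp h.1, (hrn a c).mp h.2⟩, fun h => ⟨(ha c).mpr h.1, (hrn a c).mpr h.2⟩⟩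
  have h1 := comm_of_cyclic hcyc1 (hn1 p hp) (hn1 r hr)
  rw [hω] at h1
  have hωn : ω ∈ normalizer (E : Set (MulAut L)) := by
    rw [← hω]
    exact mul_mem (mul_mem (mul_mem hp hr) (inv_mem hp)) (inv_mem hr)
  have hωi : ω ∈ (MulAut.conj : L →* MulAut L).range := by
    rw [R.mem_inn_iff, ← hω]
    constructor
    · rw [map_mul, map_mul, map_mul, map_inv, map_inv, Cfsg.Agent.Lib.AutSL2Out.ringEquiv_comm (R.fld p) (R.fld r)]
      group
    · rw [map_mul, map_mul, map_mul, map_inv, map_inv, mul_comm (R.o1 p) (R.o1 r)]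
      group
  intro e he
  obtain ⟨c, hc⟩ : ∃ c, c = ω * e * ω⁻¹ * e⁻¹ := ⟨_, rfl⟩
  have hcE : c ∈ E := by
    rw [hc]
    exact mul_mem ((mem_normalizer_iff.mp hωn e).mp he) (inv_mem he)
  have hcI : c ∈ (MulAut.conj : L →* MulAut L).range := by
    have h2 : c = ω * (e * ω⁻¹ * e⁻¹) := by rw [hc]; group
    rw [h2]
    exact mul_mem hωi ((hrn e ω⁻¹).mp (inv_mem hωi))
  have h2 := h1 c (by rw [hE₁]; exact ⟨hcE, hcI⟩)
  have h3 : ω * e = c * e * ω := by rw [hc]; group
  have h4 : c * c = 1 := by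
    have h5 : e = c * c * e := by
      calc e = (ω * ω) * e * (ω * ω)⁻¹ := by rw [hω2]; group
        _ = ω * (ω * e) * ω⁻¹ * ω⁻¹ := by group
        _ = (ω * c) * e * (ω * ω⁻¹) * ω⁻¹ := by rw [h3]; group
        _ = c * (ω * e) * ω⁻¹ := by rw [h2]; group
        _ = c * c * e := by rw [h3]; group
    have h6 : 1 * e = c * c * e := by rw [one_mul]; exact h5
    exact (mul_right_cancel h6).symm
  have h5 : c = 1 := by
    have h6 : c ∈ (⊥ : Subgroup (MulAut L)) :=
      SignalizersComponents.IntrinsicBasic.mem_of_sq_mem hE.odd hcE (by rw [h4]; exact one_mem _)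
    exact mem_bot.mp h6
  rw [h3, h5, one_mul]

end rep

/-- **`Z` centralizes `E`** -/
theorem kq {D : Type u} [Group D] (hD : IsL2 D ∨ IsAltOdd D ∨ IsL34 D) {ξ : MulAut D} (hξ : ξ * ξ = 1)
    {E : Subgroup (MulAut D)} (hE : OddC ξ E) {T : Type*} [Group T] {P Z : Subgroup T}
    {A : Bool → Subgroup T} (H : Heis P Z A) (φ : ↥P →* MulAut D)
    (hn : ∀ p, φ p ∈ normalizer (E : Set (MulAut D))) {z : T} (hz : z ∈ Z) (hzP : z ∈ P) :
    ∀ e ∈ E, φ ⟨z, hzP⟩ * e = e * φ ⟨z, hzP⟩ := by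
  obtain ⟨p, hp, r, hr, hpr⟩ := exists_comm H hz
  have h1 : φ ⟨p, hp⟩ * φ ⟨r, hr⟩ * (φ ⟨p, hp⟩)⁻¹ * (φ ⟨r, hr⟩)⁻¹ = φ ⟨z, hzP⟩ := by
    rw [← map_mul, ← map_inv, ← map_mul, ← map_inv, ← map_mul]
    congr 1
    exact Subtype.ext hpr
  by_cases hbot : E = ⊥
  · intro e he
    rw [hbot, mem_bot] at he
    rw [he, one_mul, mul_one]
  have hp3 : Fact (Nat.Prime 3) := ⟨Nat.prime_three⟩
  rcases hD with hD | hD | hD
  · obtain ⟨F, _, _, hodd, h5, ⟨e⟩⟩ := hD
    refine l2 (Rep.ofEquiv (Cfsg.Agent.GH.L2Aut.two_ne_zero_of_odd hodd) e) ?_ hξ hE (hn _) (hn _) h1 ?_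
    · rw [Nat.card_eq_fintype_card]
      omega
    · rw [← map_mul]
      have : (⟨z, hzP⟩ : P) * ⟨z, hzP⟩ = 1 := Subtype.ext (H.Asq true z (H.ZA true hz))
      rw [this, map_one]
  · have h3 := (ka D hD ξ hξ E hE hbot).1
    have hcyc : IsCyclic E := isCyclic_of_prime_card h3
    have h4 := comm_of_cyclic hcyc (hn ⟨p, hp⟩) (hn ⟨r, hr⟩)
    rwa [h1] at h4
  · obtain ⟨FT, -⟩ := k34 D hD ξ hξ E hE hbot
    obtain ⟨Y, hY9, hY⟩ := FT.nine
    have hEY : E ≤ Y.map (MulAut.conj : D →* MulAut D) := by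
      intro e he
      obtain ⟨y, rfl, h3, h4⟩ := FT.core E hE e he
      exact ⟨y, (hY y).mpr ⟨h3, h4⟩, rfl⟩
    have hfY : Finite Y := Nat.finite_of_card_ne_zero (by rw [hY9]; norm_num)
    have hdvd : Nat.card E ∣ 3 ^ 2 := by
      have h3 : Nat.card E ∣ Nat.card ↥(Y.map (MulAut.conj : D →* MulAut D)) := card_dvd_of_le hEY
      have h4 := h3.trans (card_map_dvd Y (MulAut.conj : D →* MulAut D))
      rw [hY9] at h4
      exact h4
    obtain ⟨k, hk, hk2⟩ := (Nat.dvd_prime_pow Nat.prime_three).mp hdvd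
    have hcyc : k ≤ 1 → IsCyclic E := by
      intro hk1
      interval_cases k
      · rw [pow_zero] at hk2
        exact absurd (card_eq_one.mp hk2) hbot
      · exact isCyclic_of_prime_card (by rw [hk2]; norm_num : Nat.card E = 3)
    by_cases hk1 : k ≤ 1
    · have h4 := comm_of_cyclic (hcyc hk1) (hn ⟨p, hp⟩) (hn ⟨r, hr⟩)
      rwa [h1] at h4
    have hkk : k = 2 := by omega
    rw [hkk] at hk2
    obtain ⟨ψ, hψ⟩ : ∃ ψ, ψ = E.normalizerMonoidHom.comp (φ.codRestrict (normalizer (E : Set (MulAut D))) hn) :=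
      ⟨_, rfl⟩
    have h4 := heis_nine (E := ↥E) ?_ (by rw [hk2]; norm_num) ?_ H ψ hz hzP
    · intro e he
      have h5 := DFunLike.congr_fun h4 ⟨e, he⟩
      rw [hψ] at h5
      have h6 : φ ⟨z, hzP⟩ * e * (φ ⟨z, hzP⟩)⁻¹ = e := congrArg Subtype.val h5
      exact mul_inv_eq_iff_eq_mul.mp h6
    · rintro ⟨a, ha⟩ ⟨b, hb⟩
      apply Subtype.ext
      obtain ⟨y, rfl, h3, h4⟩ := FT.core E hE a ha
      obtain ⟨y', rfl, h3', h4'⟩ := FT.core E hE b hb
      change MulAut.conj y * MulAut.conj y' = MulAut.conj y' * MulAut.conj y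
      rw [← map_mul, FT.ycomm y y' h3 h4 h3' h4', map_mul]
    · rintro ⟨a, ha⟩
      apply Subtype.ext
      obtain ⟨y, rfl, h3, h4⟩ := FT.core E hE a ha
      change (MulAut.conj y) ^ 3 = 1
      rw [← map_pow, h3, map_one]

end Cfsg.Agent.UGT.N2S.KQ
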