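import Cfsg.Agent.UGT.N2S.FMov
import Cfsg.Agent.UGT.N2S.KQ
import Cfsg.Agent.UGT.N2S.KH
import Cfsg.Agent.UGT.N2S.Pump
import Cfsg.Agent.Lib.CoprimeCommutator

/-!
# `z` any involution, `L` a 2-component of `C(z)` of type `L₃(4)`: (A34')

* `Sit`: the situation; `P` a Sylow 2-subgroup of `L` with centre `Z` and `A i` of order 16.
* `Sit.hy`: the hypotheses of Lemma (M).
* `Sit.comm_mem`: `[O(C(z)) ∩ C(w), Z] ≤ O(C(w))` for every involution `w` commuting with `z` and `P`.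
-/

set_option autoImplicit false

open Cfsg Subgroup
open Cfsg.Agent.SignalizersComponents Cfsg.Agent.Lib
open Cfsg.Agent.SignalizersComponents.IntrinsicBasic
open Cfsg.Agent.SignalizersComponents.PLayerAut
open Cfsg.Agent.Intrinsic.Basic Cfsg.Agent.Intrinsic.Cen Cfsg.Agent.Intrinsic.Diag
open Cfsg.Agent.McLLyComp.Act
open Cfsg.Agent.UGT.Triple Cfsg.Agent.UGT.TriBase
open Cfsg.Agent.UGT.Res.Base (exists_triple)
open Cfsg.Agent.UGT.Iface (Bar IsL2 IsL34 IsAltOdd)
open Cfsg.Agent.UGT.LTF.Basics (img mem_img)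
open Cfsg.Agent.UGT.L34T2 (Heis)
open scoped commutatorElement

namespace Cfsg.Agent.UGT.N2S.FTwo

universe u

/-- `L₃(4)` has trivial centre -/
theorem center_l34 {D : Type*} [Group D] (hD : IsL34 D) : ∀ z : D, (∀ d, z * d = d * z) → z = 1 := by
  obtain ⟨A⟩ := LSup.exists_dat hD
  have hfin : Finite D := Nat.finite_of_card_ne_zero (by rw [A.card]; norm_num)
  have hs : IsSimpleGroup D := by
    obtain ⟨F, _, _, hF, ⟨e⟩⟩ := hD
    have h1 : IsSimpleGroup (Matrix.ProjectiveSpecialLinearGroup (Fin 3) F) := S0249.result 3 le_rfl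
    exact (MulEquiv.isSimpleGroup_congr e).mpr h1
  have hp : Fact (Nat.Prime 2) := ⟨Nat.prime_two⟩
  obtain ⟨t, ht⟩ := exists_prime_orderOf_dvd_card' (G := D) 2 (by rw [A.card]; norm_num)
  have h1 : t ≠ 1 := ne_one_of_order ht
  have h2 := (KH.cent_invol hD h1 (sq_of_order ht)).2
  have hcn : (center D).Normal := inferInstance
  rcases hcn.eq_bot_or_eq_top with h | h
  · intro z hz
    have h3 : z ∈ center D := mem_center_iff.mpr fun g => (hz g).symm
    rw [h, mem_bot] at h3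
    exact h3
  · exfalso
    have h3 : centralizer ({t} : Set D) = ⊤ := by
      rw [eq_top_iff]
      intro g _
      rw [mem_centralizer_singleton_iff]
      have h4 : t ∈ center D := by rw [h]; trivial
      exact mem_center_iff.mp h4 g
    rw [h3, card_top, A.card] at h2
    norm_num at h2

variable {G : Type u} [Group G]

/-- The situation. -/
structure Sit (z : G) (L P Z : Subgroup G) (A : Bool → Subgroup G) : Prop where
  zo : orderOf z = 2
  comp : IsComp (centralizer ({z} : Set G)) L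
  l34 : IsL34 (Bar L)
  PL : P ≤ L
  heis : Heis P Z A

variable [Finite G] {z : G} {L P Z : Subgroup G} {A : Bool → Subgroup G}

omit [Finite G] in
theorem cl_of_typ {J : Subgroup G} (h : IsL2 (Bar J) ∨ IsAltOdd (Bar J) ∨ IsL34 (Bar J)) : FMov.CL J := by
  rcases h with h | h | h
  · exact k2.cen _ h
  · exact (Cfsg.Agent.UGT.LTF.KFA.kfa _ h).1
  · exact center_l34 h

/-- the hypotheses of Lemma (M) -/
theorem Sit.hy (S : Sit z L P Z A) (i : Bool) : FMov.Hy z L (A i) where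
  zz := sq_of_order S.zo
  comp := S.comp
  cl := center_l34 S.l34
  BL := (S.heis.AP i).trans S.PL
  card := S.heis.cardA i
  sq := S.heis.Asq i
  kh := by
    intro H hH h8 w hw hwH
    have hAL : A i ≤ L := (S.heis.AP i).trans S.PL
    have h1 : Nat.card (((A i).subgroupOf L).map (QuotientGroup.mk' (oddCore ↥L))) = 16 := by
      rw [card_img hAL (S.heis.Asq i), S.heis.cardA i]
    have h2 : Nat.card ((H.subgroupOf L).map (QuotientGroup.mk' (oddCore ↥L))) = 8 := by
      rw [card_img (hH.trans hAL) fun s hs => S.heis.Asq i s (hH hs), h8]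
    obtain ⟨_, ⟨⟨a, haL⟩, ha, rfl⟩, h3⟩ := KH.kh (Bar L) S.l34 _ h1 (by
      rintro _ ⟨⟨b, hb⟩, hbA, rfl⟩
      rw [← map_mul]
      have : (⟨b, hb⟩ : ↥L) * ⟨b, hb⟩ = 1 := Subtype.ext (S.heis.Asq i b hbA)
      rw [this, map_one]) _ (map_mono fun b (hb : (b : G) ∈ H) => hH hb) h2 (act L ⟨w, hw⟩) (by
      rintro _ ⟨⟨h, hh⟩, hhH, rfl⟩
      change act L ⟨w, hw⟩ (QuotientGroup.mk ⟨h, hh⟩) = QuotientGroup.mk ⟨h, hh⟩
      rw [act_mk hw hh]
      congr 1
      exact Subtype.ext (by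
        change w * h * w⁻¹ = h
        rw [hwH h hhH, mul_inv_cancel_right]))
    refine ⟨a, ha, ?_⟩
    rw [← act_eq_one_iff (mul_mem (inv_mem (le_normalizer haL)) hw), act_mul (inv_mem (le_normalizer haL)) hw,
      act_inv (le_normalizer haL), act_of_mem haL, h3]
    exact inv_mul_cancel _

/-- **(A34')** `[O(C(z)) ∩ C(w), Z] ≤ O(C(w))` for every involution `w` commuting with `z` and `P` -/
theorem Sit.comm_mem (S : Sit z L P Z A) (W : Typ G) {w : G} (hw : orderOf w = 2) (hwz : w * z = z * w)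
    (hwP : ∀ p ∈ P, p * w = w * p) {y a : G} (hy : y ∈ core (centralizer ({z} : Set G)))
    (hyw : y * w = w * y) (ha : a ∈ Z) : ⁅a, y⁆ ∈ core (centralizer ({w} : Set G)) := by
  have hzz := sq_of_order S.zo
  have hZP : Z ≤ P := (S.heis.ZA true).trans (S.heis.AP true)
  have hPz : ∀ p ∈ P, p * z = z * p := fun p hp => comm_c (S.comp.le (S.PL hp))
  have hc1 : ⁅a, y⁆ ∈ core (centralizer ({z} : Set G)) := by
    rw [commutatorElement_def]
    exact mul_mem (conj_core (mem_c (hPz a (hZP ha))) hy) (inv_mem hy)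
  have haw : a * w = w * a := hwP a (hZP ha)
  have hc2 : ⁅a, y⁆ ∈ centralizer ({w} : Set G) := by
    rw [commutatorElement_def]
    exact mul_mem (mul_mem (mul_mem (mem_c haw) (mem_c hyw)) (inv_mem (mem_c haw))) (inv_mem (mem_c hyw))
  by_contra hcon
  obtain ⟨J, T, hf⟩ := exists_triple S.zo hw hwz hc1 hc2 hcon
  apply hf
  have hcl : FMov.CL J := cl_of_typ (W T)
  have hAX : ∀ i, A i ≤ centralizer ({w} : Set G) := fun i b hb => mem_c (hwP b (S.heis.AP i hb))
  have hAJ : ∀ i, A i ≤ normalizer (J : Set G) := fun i =>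
    (S.hy i).le_normalizer (mem_c hwz.symm) (hAX i) T.comp hcl T.x_mem
  have hPJ : P ≤ normalizer (J : Set G) := by
    intro p hp
    obtain ⟨b, hb, c, hc, rfl⟩ := S.heis.sup p hp
    exact mul_mem (hAJ _ hb) (hAJ _ hc)
  have hyJ : y ∈ normalizer (J : Set G) := T.mem_normalizer_of_core hy (mem_c hyw)
  obtain ⟨φ, hφ⟩ : ∃ φ : ↥P →* MulAut (Bar J), φ = (act J).comp (inclusion hPJ) := ⟨_, rfl⟩
  have hφp : ∀ p (hp : p ∈ P), φ ⟨p, hp⟩ = act J ⟨p, hPJ hp⟩ := by
    intro p hp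
    rw [hφ]
    rfl
  have hE := oddC' T
  have hfE : Finite ↥(img z w J) := by
    have h1 := hE.odd
    exact Nat.finite_of_card_ne_zero (by
      intro h0
      rw [h0] at h1
      exact absurd h1 (by decide))
  have hn : ∀ p : P, φ p ∈ normalizer (img z w J : Set (MulAut (Bar J))) := by
    rintro ⟨p, hp⟩
    apply mem_normalizer_fintype
    intro e he
    obtain ⟨d, hdN, hd, hdu, rfl⟩ := mem_img.mp he
    rw [hφp, ← act_mul, ← act_inv, ← act_mul]
    refine mem_img.mpr ⟨p * d * p⁻¹, _, conj_core (mem_c (hPz p hp)) hd, ?_, rfl⟩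
    have hpw := hwP p hp
    exact comm_c (mul_mem (mul_mem (mem_c hpw) (mem_c hdu)) (inv_mem (mem_c hpw)))
  have hsq : act J ⟨z, T.x_mem⟩ * act J ⟨z, T.x_mem⟩ = 1 := LTF.Comp.act_sq T.x_mem hzz
  have key := KQ.kq (W T) hsq hE S.heis φ hn ha (hZP ha) _ (mem_img.mpr ⟨y, hyJ, hy, hyw, rfl⟩)
  rw [hφp] at key
  have haJ := hPJ (hZP ha)
  have h3 : a * y * a⁻¹ * y⁻¹ ∈ normalizer (J : Set G) :=
    mul_mem (mul_mem (mul_mem haJ hyJ) (inv_mem haJ)) (inv_mem hyJ)
  have h1 : act J ⟨a * y * a⁻¹ * y⁻¹, h3⟩ = 1 := by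
    rw [act_mul (mul_mem (mul_mem haJ hyJ) (inv_mem haJ)) (inv_mem hyJ),
      act_mul (mul_mem haJ hyJ) (inv_mem haJ), act_mul haJ hyJ, act_inv haJ, act_inv hyJ, key]
    rw [mul_inv_cancel_right, mul_inv_cancel]
  exact (act_eq_one_iff h3).mp h1

end Cfsg.Agent.UGT.N2S.FTwo
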