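import Cfsg.Agent.UGT.L34T2.Gen
import Cfsg.Agent.UGT.L34T2.FrBase
import Cfsg.Agent.UGT.L34.Inst
import Cfsg.Agent.UGT.N2S.KH
import Cfsg.Agent.UGT.N2S.FMov

/-!
# Type `L₃(4)`: the Heisenberg structure of the Sylow 2-subgroups

* `heis_dat`, `exists_heis`: `Heis P Z A` for a Sylow 2-subgroup `P` of `L`, `L / O(L) ≅ L₃(4)`.
* `isSyl`, `card_of_isSyl`: the Sylow 2-subgroups are the 2-subgroups of order 64.
* `le_of_gen`: `L ≤ M` if `O(L) ≤ M` and `N_L(A i) ≤ M`.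
* `exists_heis_at`: `u` an involution of `L`, `Q` a 2-group trivial on `L / O(L)`: there is `P ≤ C_L(Q)` with
  `u ∈ Z`.
* `comm_of_two`, `exists_pair`: two 2-components.
* `exists_diag_heis`: the diagonal.
-/

set_option autoImplicit false
set_option linter.unusedVariables false
set_option linter.unusedSectionVars false

open Cfsg Subgroup
open Cfsg.Agent.SignalizersComponents Cfsg.Agent.Lib
open Cfsg.Agent.SignalizersComponents.IntrinsicBasic
open Cfsg.Agent.SignalizersComponents.PLayerAut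
open Cfsg.Agent.Intrinsic.Basic Cfsg.Agent.Intrinsic.Cen Cfsg.Agent.Intrinsic.Diag
open Cfsg.Agent.McLLyComp.Act
open Cfsg.Agent.UGT.Triple Cfsg.Agent.UGT.TriBase
open Cfsg.Agent.UGT.Iface (Bar IsL34)
open Cfsg.Agent.UGT.L34T2 (Heis)
open Cfsg.Agent.UGT.L34T2.Gen (AA mem_AA AA_le card_AA Nm gen_of_heis)
open Cfsg.Agent.SporadicA.FieldFour
open Cfsg.Agent.LThreeFour
open scoped commutatorElement

namespace Cfsg.Agent.UGT.N2S.HeisOf

universe u

/-! ### the standard group -/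

section dat

theorem c_sq (i : Bool) : ∀ p : Code, (cond i p.b p.a) = 0 → cmul p p = cone := by
  cases i
  · rintro ⟨a, b, c⟩ h
    have h1 : a = 0 := h
    subst h1
    have : ∀ b c : F4, cmul ⟨0, b, c⟩ ⟨0, b, c⟩ = cone := by decide +kernel
    exact this b c
  · rintro ⟨a, b, c⟩ h
    have h1 : b = 0 := h
    subst h1
    have : ∀ b c : F4, cmul ⟨b, 0, c⟩ ⟨b, 0, c⟩ = cone := by decide +kernel
    exact this a c

theorem c_cen : ∀ z a b c : F4, cmul ⟨a, b, c⟩ ⟨0, 0, z⟩ = cmul ⟨0, 0, z⟩ ⟨a, b, c⟩ := by decide +kernel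

theorem c_sup : ∀ a b c : F4, (⟨a, b, c⟩ : Code) = cmul ⟨0, b, a * b + c⟩ ⟨a, 0, 0⟩ := by decide +kernel

theorem c_inv : ∀ a b c : F4, cmul ⟨a, b, c⟩ ⟨a, b, c⟩ = cone → a = 0 ∨ b = 0 := by decide +kernel

theorem c_com : ∀ p q : Code, (cmul (cmul (cmul p q) (cinv p)) (cinv q)).a = 0 ∧
    (cmul (cmul (cmul p q) (cinv p)) (cinv q)).b = 0 := by
  intro p q
  have h : ∀ x y : F4, x + y + x + y = 0 := by decide
  exact ⟨h p.a q.a, h p.b q.b⟩

theorem c_sq' : ∀ p : Code, (cmul p p).a = 0 ∧ (cmul p p).b = 0 := by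
  intro p
  have h : ∀ x : F4, x + x = 0 := by decide
  exact ⟨h p.a, h p.b⟩

theorem c_surj : ∀ a b c z : F4, (a ≠ 0 ∨ b ≠ 0) → ∃ x y : F4,
    cmul (cmul (cmul ⟨a, b, c⟩ ⟨x, y, 0⟩) (cinv ⟨a, b, c⟩)) (cinv ⟨x, y, 0⟩) = ⟨0, 0, z⟩ := by
  decide +kernel

theorem c_cenA : ∀ a c x y z : F4, a ≠ 0 → cmul ⟨x, y, z⟩ ⟨a, 0, c⟩ = cmul ⟨a, 0, c⟩ ⟨x, y, z⟩ → y = 0 := by
  decide +kernel

theorem c_cenB : ∀ a c x y z : F4, a ≠ 0 → cmul ⟨x, y, z⟩ ⟨0, a, c⟩ = cmul ⟨0, a, c⟩ ⟨x, y, z⟩ → x = 0 := by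
  decide +kernel

variable {D : Type*} [Group D]

/-- the centre of the standard Sylow 2-subgroup -/
def ZZ (A : Dat D) : Subgroup D := AA A false ⊓ AA A true

theorem mem_ZZ {A : Dat D} {l : D} : l ∈ ZZ A ↔ ∃ c : F4, A.el ⟨0, 0, c⟩ = l := by
  constructor
  · rintro ⟨⟨p, rfl, hp⟩, ⟨q, hq, hq0⟩⟩
    have h1 := A.inj hq
    subst h1
    obtain ⟨a, b, c⟩ := q
    have h2 : a = 0 := hp
    have h3 : b = 0 := hq0
    subst h2 h3
    exact ⟨c, rfl⟩
  · rintro ⟨c, rfl⟩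
    exact ⟨⟨_, rfl, rfl⟩, ⟨_, rfl, rfl⟩⟩

theorem el_mem_ZZ {A : Dat D} {p : Code} (h1 : p.a = 0) (h2 : p.b = 0) : A.el p ∈ ZZ A :=
  ⟨⟨p, rfl, h1⟩, ⟨p, rfl, h2⟩⟩

theorem card_ZZ (A : Dat D) : Nat.card (ZZ A) = 4 := by
  let e : F4 ≃ ZZ A := Equiv.ofBijective (fun c => ⟨A.el ⟨0, 0, c⟩, mem_ZZ.mpr ⟨c, rfl⟩⟩)
    ⟨fun c d h => by
      have := A.inj (congrArg Subtype.val h)
      exact congrArg Code.c this, fun ⟨l, hl⟩ => by
      obtain ⟨c, hc⟩ := mem_ZZ.mp hl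
      exact ⟨c, Subtype.ext hc⟩⟩
  rw [← Nat.card_congr e, Nat.card_eq_fintype_card]
  rfl

theorem heis_dat (A : Dat D) : Heis A.T (ZZ A) (AA A) where
  cardP := A.card_T
  cardZ := card_ZZ A
  cardA := card_AA A
  ZA i := by cases i <;> [exact inf_le_left; exact inf_le_right]
  AP := AA_le A
  Asq := by
    rintro i _ ⟨p, rfl, hp⟩
    rw [A.el_mul, c_sq i p hp, A.el_one]
  Zcen := by
    rintro z hz _ ⟨p, rfl⟩
    obtain ⟨c, rfl⟩ := mem_ZZ.mp hz
    rw [A.el_mul, A.el_mul]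
    exact congrArg A.el (c_cen c p.a p.b p.c)
  inv := by
    rintro _ ⟨p, rfl⟩ h
    rw [A.el_mul, A.el_eq_one] at h
    rcases c_inv p.a p.b p.c h with h1 | h1
    · exact ⟨false, p, rfl, h1⟩
    · exact ⟨true, p, rfl, h1⟩
  inf := fun p h1 h2 => ⟨h1, h2⟩
  sup := by
    rintro _ ⟨p, rfl⟩
    refine ⟨A.el ⟨0, p.b, p.a * p.b + p.c⟩, ⟨_, rfl, rfl⟩, A.el ⟨p.a, 0, 0⟩, ⟨_, rfl, rfl⟩, ?_⟩
    rw [A.el_mul]
    exact congrArg A.el (c_sup p.a p.b p.c)
  com := by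
    rintro _ ⟨p, rfl⟩ _ ⟨q, rfl⟩
    rw [A.el_inv, A.el_inv, A.el_mul, A.el_mul, A.el_mul]
    exact el_mem_ZZ (c_com p q).1 (c_com p q).2
  sq := by
    rintro _ ⟨p, rfl⟩
    rw [A.el_mul]
    exact el_mem_ZZ (c_sq' p).1 (c_sq' p).2
  surj := by
    rintro _ ⟨p, rfl⟩ hn z hz
    obtain ⟨c, rfl⟩ := mem_ZZ.mp hz
    have h1 : p.a ≠ 0 ∨ p.b ≠ 0 := by
      by_contra hcon
      push Not at hcon
      exact hn (el_mem_ZZ hcon.1 hcon.2)
    obtain ⟨x, y, h⟩ := c_surj p.a p.b p.c c h1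
    refine ⟨A.el ⟨x, y, 0⟩, A.el_mem _, ?_⟩
    rw [A.el_inv, A.el_inv, A.el_mul, A.el_mul, A.el_mul]
    exact congrArg A.el h
  cen := by
    rintro i _ ⟨p, rfl, hp⟩ hn _ ⟨q, rfl⟩ h
    rw [A.el_mul, A.el_mul] at h
    have h1 := A.inj h
    cases i
    · have hp1 : p.a = 0 := hp
      have h2 : p.b ≠ 0 := fun h3 => hn (el_mem_ZZ hp1 h3)
      refine ⟨q, rfl, ?_⟩
      obtain ⟨a, b, c⟩ := p
      simp only at hp1
      subst hp1
      exact c_cenB b c q.a q.b q.c h2 h1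
    · have hp1 : p.b = 0 := hp
      have h2 : p.a ≠ 0 := fun h3 => hn (el_mem_ZZ h3 hp1)
      refine ⟨q, rfl, ?_⟩
      obtain ⟨a, b, c⟩ := p
      simp only at hp1
      subst hp1
      exact c_cenA a c q.a q.b q.c h2 h1

end dat

/-! ### transport -/

section transport

variable {G H : Type*} [Group G] [Group H] {P Z : Subgroup G} {A : Bool → Subgroup G}

theorem card_comap {f : H →* G} (hf : Function.Injective f) {V : Subgroup G} (hV : V ≤ f.range) :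
    Nat.card (V.comap f) = Nat.card V := by
  have h1 : (V.comap f).map f = V := by
    rw [map_comap_eq, inf_of_le_right hV]
  rw [← h1, card_map_of_injective hf, h1]

theorem heis_comap (h : Heis P Z A) {f : H →* G} (hf : Function.Injective f) (hP : P ≤ f.range) :
    Heis (P.comap f) (Z.comap f) (fun i => (A i).comap f) where
  cardP := by rw [card_comap hf hP, h.cardP]
  cardZ := by rw [card_comap hf (h.ZP.trans hP), h.cardZ]
  cardA i := by rw [card_comap hf ((h.AP i).trans hP), h.cardA]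
  ZA i := comap_mono (h.ZA i)
  AP i := comap_mono (h.AP i)
  Asq i u hu := hf (by rw [map_mul, map_one]; exact h.Asq i _ hu)
  Zcen z hz p hp := hf (by rw [map_mul, map_mul]; exact h.Zcen _ hz _ hp)
  inv p hp hpp := by
    obtain ⟨i, hi⟩ := h.inv (f p) hp (by rw [← map_mul, hpp, map_one])
    exact ⟨i, hi⟩
  inf p h1 h2 := h.inf _ h1 h2
  sup p hp := by
    obtain ⟨u, hu, v, hv, e⟩ := h.sup (f p) hp
    obtain ⟨u', rfl⟩ := hP (h.AP _ hu)
    obtain ⟨v', rfl⟩ := hP (h.AP _ hv)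
    exact ⟨u', hu, v', hv, hf (by rw [map_mul]; exact e)⟩
  com p hp r hr := by
    change f (p * r * p⁻¹ * r⁻¹) ∈ Z
    rw [map_mul, map_mul, map_mul, map_inv, map_inv]
    exact h.com _ hp _ hr
  sq p hp := by
    change f (p * p) ∈ Z
    rw [map_mul]
    exact h.sq _ hp
  surj p hp hn z hz := by
    obtain ⟨r, hr, e⟩ := h.surj (f p) hp hn (f z) hz
    obtain ⟨r', rfl⟩ := hP hr
    exact ⟨r', hr, hf (by rw [map_mul, map_mul, map_mul, map_inv, map_inv]; exact e)⟩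
  cen i u hu hn p hp e := h.cen i (f u) hu hn (f p) hp (by rw [← map_mul, e, map_mul])

theorem heis_copy (h : Heis P Z A) {P' Z' : Subgroup G} {A' : Bool → Subgroup G} (h1 : P = P') (h2 : Z = Z')
    (h3 : ∀ i, A i = A' i) : Heis P' Z' A' := by
  have : A = A' := funext h3
  subst h1 h2 this
  exact h

/-- `Z` is determined by `P` -/
theorem Z_unique (h : Heis P Z A) {Z' : Subgroup G} {A' : Bool → Subgroup G} (h' : Heis P Z' A') : Z = Z' :=
  le_antisymm (fun z hz => h'.mem_Z (h.ZP hz) fun p hp => (h.Zcen z hz p hp).symm)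
    (fun z hz => h.mem_Z (h'.ZP hz) fun p hp => (h'.Zcen z hz p hp).symm)

/-- a subgroup of exponent 2 lies in one of the `A i` -/
theorem exists_le (h : Heis P Z A) {V : Subgroup G} (hV : V ≤ P) (hsq : ∀ v ∈ V, v * v = 1) :
    ∃ i, V ≤ A i := by
  by_contra hcon
  push Not at hcon
  obtain ⟨v, hv, hv1⟩ := SetLike.not_le_iff_exists.1 (hcon false)
  obtain ⟨w, hw, hw1⟩ := SetLike.not_le_iff_exists.1 (hcon true)
  have hv2 : v ∈ A true := by
    obtain ⟨i, hi⟩ := h.inv v (hV hv) (hsq v hv)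
    cases i
    · exact absurd hi hv1
    · exact hi
  have hw2 : w ∈ A false := by
    obtain ⟨i, hi⟩ := h.inv w (hV hw) (hsq w hw)
    cases i
    · exact hi
    · exact absurd hi hw1
  have hvZ : v ∉ Z := fun hz => hv1 (h.ZA false hz)
  have hwZ : w ∉ Z := fun hz => hw1 (h.ZA true hz)
  have h1 := h.not_comm hw2 hwZ (i := false) hv2 hvZ
  apply h1
  have e1 := hsq v hv
  have e2 := hsq w hw
  have e3 := hsq (v * w) (V.mul_mem hv hw)
  calc v * w = v * (v * w * (v * w)) * w := by rw [e3, mul_one]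
    _ = (v * v) * (w * v) * (w * w) := by group
    _ = w * v := by rw [e1, e2, one_mul, mul_one]

theorem heis_isPGroup (h : Heis P Z A) : IsPGroup 2 ↥P := by
  have hp : Fact (Nat.Prime 2) := ⟨Nat.prime_two⟩
  exact IsPGroup.of_card (n := 6) (by rw [h.cardP]; norm_num)

end transport

/-! ### `L / O(L) ≅ L₃(4)` -/

section lift

variable {G : Type u} [Group G] [Finite G] {L P : Subgroup G}

/-- the map to `L / O(L)` -/
def qm (hPL : P ≤ L) : ↥P →* Bar L := (QuotientGroup.mk' (oddCore ↥L)).comp (inclusion hPL)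

omit [Finite G] in
theorem qm_mk (hPL : P ≤ L) {p : G} (hp : p ∈ P) : qm hPL ⟨p, hp⟩ = QuotientGroup.mk ⟨p, hPL hp⟩ := rfl

theorem qm_inj (hPL : P ≤ L) (h2 : IsPGroup 2 ↥P) : Function.Injective (qm hPL) := by
  rw [injective_iff_map_eq_one]
  rintro ⟨p, hp⟩ h
  rw [qm_mk, mk_eq_one_iff (hPL hp)] at h
  exact Subtype.ext (LSup.eq_one_of_core h h2 hp)

theorem card_le (h34 : IsL34 (Bar L)) (hPL : P ≤ L) (h2 : IsPGroup 2 ↥P) : Nat.card ↥P ≤ 64 := by
  obtain ⟨e⟩ := LSup.exists_equiv h34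
  exact L34.card_le_64 h2 (e.toMonoidHom.comp (qm hPL)) (e.injective.comp (qm_inj hPL h2))

theorem isSyl (h34 : IsL34 (Bar L)) (hPL : P ≤ L) (hc : Nat.card ↥P = 64) : IsSyl L P := by
  have hp : Fact (Nat.Prime 2) := ⟨Nat.prime_two⟩
  refine ⟨IsPGroup.of_card (n := 6) (by rw [hc]; norm_num), hPL, fun R h1 h2 h3 => ?_⟩
  refine (Subgroup.eq_of_le_of_card_ge h3 ?_).symm
  rw [hc]
  exact card_le h34 h2 h1

theorem card_of_isSyl (h34 : IsL34 (Bar L)) (h : IsSyl L P) : Nat.card ↥P = 64 :=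
  le_antisymm (card_le h34 h.le h.two)
    (Nat.le_of_dvd Nat.card_pos (h.dvd_card (k := 6) (LSup.card_dvd h34)))

/-- **The Sylow 2-subgroups are Heisenberg groups.** -/
theorem exists_heis (h34 : IsL34 (Bar L)) (hS : IsSyl L P) :
    ∃ (Z : Subgroup G) (A : Bool → Subgroup G), Heis P Z A := by
  have hp : Fact (Nat.Prime 2) := ⟨Nat.prime_two⟩
  obtain ⟨A⟩ := LSup.exists_dat h34
  have hfin : Finite (Bar L) := Nat.finite_of_card_ne_zero (by rw [A.card]; norm_num)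
  have hinj := qm_inj hS.le hS.two
  have hR2 : IsPGroup 2 ↥(qm hS.le).range := hS.two.of_surjective _ (qm hS.le).rangeRestrict_surjective
  have hRc : Nat.card ↥(qm hS.le).range = 64 := by
    rw [← Nat.card_congr (MonoidHom.ofInjective hinj).toEquiv]
    exact card_of_isSyl h34 hS
  have hA2 : IsPGroup 2 ↥A.T := IsPGroup.of_card (n := 6) (by rw [A.card_T]; norm_num)
  let S0 : Sylow 2 (Bar L) := hA2.toSylow A.T_index
  obtain ⟨S1, hS1⟩ := hR2.exists_le_sylow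
  obtain ⟨g, hg⟩ := MulAction.exists_smul_eq (Bar L) S1 S0
  have hgR : ∀ t ∈ (qm hS.le).range, g * t * g⁻¹ ∈ A.T := by
    intro t ht
    have h1 : g * t * g⁻¹ ∈ ((g • S1 : Sylow 2 (Bar L)) : Subgroup (Bar L)) := by
      rw [Sylow.coe_subgroup_smul]
      exact ⟨t, hS1 ht, rfl⟩
    rw [hg] at h1
    exact h1
  obtain ⟨f, hf⟩ : ∃ f : ↥P →* Bar L, f = (MulAut.conj g).toMonoidHom.comp (qm hS.le) := ⟨_, rfl⟩
  have hfi : Function.Injective f := by
    rw [hf]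
    exact (MulAut.conj g).injective.comp hinj
  have hfr : f.range ≤ A.T := by
    rintro _ ⟨p, rfl⟩
    rw [hf]
    exact hgR _ ⟨p, rfl⟩
  have hfr' : f.range = A.T := by
    refine Subgroup.eq_of_le_of_card_ge hfr ?_
    rw [A.card_T, ← Nat.card_congr (MonoidHom.ofInjective hfi).toEquiv, card_of_isSyl h34 hS]
  have H1 := (heis_comap (heis_dat A) hfi hfr'.ge).map P.subtype P.subtype_injective
  refine ⟨_, _, heis_copy H1 ?_ rfl fun _ => rfl⟩
  rw [← hfr']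
  ext p
  constructor
  · rintro ⟨q, -, rfl⟩
    exact q.2
  · intro hp'
    exact ⟨⟨p, hp'⟩, ⟨_, rfl⟩, rfl⟩

end lift

end Cfsg.Agent.UGT.N2S.HeisOf
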