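import Cfsg.Agent.Intrinsic.TypeF
import Cfsg.Agent.SignalizersComponents.IntrinsicLift
import Cfsg.Agent.SignalizersComponents.IntrinsicDiag
import Cfsg.Agent.UGT.Res.Base

/-!
# Lifting simple normal subgroups of the centralizer of an involution in `J / O(J)`
-/

set_option autoImplicit false

open Cfsg Subgroup
open Cfsg.Agent.SignalizersComponents Cfsg.Agent.Lib
open Cfsg.Agent.SignalizersComponents.IntrinsicBasic
open Cfsg.Agent.SignalizersComponents.PLayerAut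
open Cfsg.Agent.Intrinsic.Basic Cfsg.Agent.Intrinsic.Cen Cfsg.Agent.Intrinsic.Diag
open Cfsg.Agent.McLLyComp.Act
open Cfsg.Agent.UGT.Triple
open scoped commutatorElement

namespace Cfsg.Agent.UGT.N2S

variable {G : Type*} [Group G] [Finite G]

/-- Lifting of a simple normal subgroup `E` of the centralizer of the involution `v` in `J / O(J)`; `y` acts on
`J / O(J)` as `y' ∈ E`, `y' ≠ 1`. -/
theorem exists_moved_comp {H J : Subgroup G} (hJ : IsComp H J) {v y : G} (hvN : v ∈ normalizer (J : Set G))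
    (hvv : v * v = 1) {E : Subgroup (↥J ⧸ oddCore ↥J)} (hE : ∀ m ∈ E, act J ⟨v, hvN⟩ m = m)
    (hn : ∀ l, act J ⟨v, hvN⟩ l = l → ∀ m ∈ E, l * m * l⁻¹ ∈ E) (hs : IsSimpleGroup ↥E)
    (h2 : 2 ∣ Nat.card E) (hna : ∃ a ∈ E, ∃ b ∈ E, a * b ≠ b * a) (hyN : y ∈ normalizer (J : Set G))
    {y' : ↥J ⧸ oddCore ↥J} (hy' : y' ∈ E) (hy1 : y' ≠ 1) (hact : act J ⟨y, hyN⟩ = MulAut.conj y') :
    ∃ M, M ≤ J ∧ IsComp (H ⊓ centralizer ({v} : Set G)) M ∧ ¬ Fixes y M := by
  obtain ⟨Q, hQ⟩ : ∃ Q : Subgroup (↥J ⧸ oddCore ↥J), ∀ m, m ∈ Q ↔ act J ⟨v, hvN⟩ m = m :=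
    ⟨{ carrier := {m | act J ⟨v, hvN⟩ m = m}
       mul_mem' := fun {a b} ha hb => by
        change act J ⟨v, hvN⟩ (a * b) = a * b
        rw [map_mul, show act J ⟨v, hvN⟩ a = a from ha, show act J ⟨v, hvN⟩ b = b from hb]
       one_mem' := map_one _
       inv_mem' := fun {a} ha => by
        change act J ⟨v, hvN⟩ a⁻¹ = a⁻¹
        rw [map_inv, show act J ⟨v, hvN⟩ a = a from ha] }, fun m => Iff.rfl⟩
  have hEQ : E ≤ Q := fun m hm => (hQ m).mpr (hE m hm)
  have hmQ : ∀ (m : G) (hm : m ∈ J), m * v = v * m → (QuotientGroup.mk ⟨m, hm⟩ : ↥J ⧸ oddCore ↥J) ∈ Q := by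
    intro m hm hmx
    rw [hQ, act_mk hvN hm]
    congr 1
    apply Subtype.ext
    change v * m * v⁻¹ = m
    rw [← hmx, mul_inv_cancel_right]
  let f : ↥(J ⊓ centralizer ({v} : Set G)) →* ↥Q :=
    { toFun := fun m => ⟨QuotientGroup.mk ⟨m, m.2.1⟩, hmQ m m.2.1 (mem_centralizer_singleton_iff.mp m.2.2)⟩
      map_one' := rfl
      map_mul' := fun _ _ => rfl }
  have hf : Function.Surjective f := by
    rintro ⟨y, hy⟩
    obtain ⟨⟨m, hm⟩, rfl⟩ := QuotientGroup.mk_surjective y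
    rw [hQ, act_mk hvN hm] at hy
    have h3 : m⁻¹ * (v * m * v⁻¹) ∈ core J := (mk_eq_iff hm (conj_mem hvN hm)).mp hy.symm
    obtain ⟨o, ho, h4⟩ := Intrinsic.Lifting.exists_commute (odd_card_core J) (n := 1)
      (by rw [pow_one, pow_two, hvv]) (normalizer_le_normalizer_core J hvN) h3
    have hmo : m * o ∈ J := J.mul_mem hm (core_le _ ho)
    refine ⟨⟨m * o, hmo, mem_centralizer_singleton_iff.mpr h4.symm⟩, Subtype.ext ?_⟩
    change (QuotientGroup.mk ⟨m * o, hmo⟩ : ↥J ⧸ oddCore ↥J) = QuotientGroup.mk ⟨m, hm⟩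
    rw [mk_eq_iff hmo hm, mul_inv_rev, mul_assoc, inv_mul_cancel, mul_one]
    exact inv_mem ho
  have hker : Odd (Nat.card f.ker) := by
    have h1 : f.ker.map (J ⊓ centralizer ({v} : Set G)).subtype ≤ core J := by
      rintro _ ⟨m, hm, rfl⟩
      have h3 : (QuotientGroup.mk ⟨(m : G), m.2.1⟩ : ↥J ⧸ oddCore ↥J) = 1 := congrArg Subtype.val hm
      exact (mk_eq_one_iff m.2.1).mp h3
    have h2 := Subgroup.card_dvd_of_le h1
    rw [card_map_of_injective (J ⊓ centralizer ({v} : Set G)).subtype_injective] at h2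
    exact Odd.of_dvd_nat (odd_card_core J) h2
  have hnorm : (E.subgroupOf Q).Normal := ⟨fun k hk g => hn g ((hQ _).mp g.2) k hk⟩
  have hcomp : IsComponent (E.subgroupOf Q) := by
    refine ⟨hnorm.isSubnormal, Components.isQuasisimple_of_mulEquiv (subgroupOfEquivOfLe hEQ).symm ?_⟩
    refine IntrinsicDiag.quasisimple_of_simple hs ?_
    obtain ⟨a, ha, b, hb, hab⟩ := hna
    intro hc
    exact hab (congrArg Subtype.val (hc.is_comm.comm (⟨a, ha⟩ : ↥E) ⟨b, hb⟩))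
  have h2' : 2 ∣ Nat.card (E.subgroupOf Q) := by
    rw [Nat.card_congr (subgroupOfEquivOfLe hEQ).toEquiv]
    exact h2
  obtain ⟨h3, h4⟩ := IntrinsicLift.lift_component f hf hker hcomp h2'
  obtain ⟨M, hM⟩ : ∃ M, M = (PComponents.pElem 2 ((E.subgroupOf Q).comap f)).map
    (J ⊓ centralizer ({v} : Set G)).subtype := ⟨_, rfl⟩
  have hMc : IsComp (J ⊓ centralizer ({v} : Set G)) M := hM ▸ isComp_of_subtype h3
  have hMJ : M ≤ J := hMc.le.trans inf_le_left
  have hMH : IsComp (H ⊓ centralizer ({v} : Set G)) M :=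
    hMc.extend (inf_le_inf_right _ hJ.le) (Intrinsic.TypeF.subnormal_inf hJ inf_le_left inf_le_right)
  -- the image of `M`
  have himg : ∀ e ∈ E, ∃ m, ∃ hm : m ∈ M, (QuotientGroup.mk ⟨m, hMJ hm⟩ : ↥J ⧸ oddCore ↥J) = e := by
    intro e he
    have h5 : (⟨e, hEQ he⟩ : ↥Q) ∈ E.subgroupOf Q := he
    rw [← h4] at h5
    obtain ⟨m, hm, hmx⟩ := h5
    have h6 : (m : G) ∈ M := by rw [hM]; exact ⟨m, hm, rfl⟩
    exact ⟨m, h6, congrArg Subtype.val hmx⟩
  have hsub : ∀ m (hm : m ∈ M), (QuotientGroup.mk ⟨m, hMJ hm⟩ : ↥J ⧸ oddCore ↥J) ∈ E := by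
    intro m hm
    have hm' := hm
    rw [hM] at hm'
    obtain ⟨m', hm', hmm⟩ := hm'
    have h5 : f m' ∈ E.subgroupOf Q := by
      rw [← h4]
      exact ⟨m', hm', rfl⟩
    have h6 : (⟨m, hMJ hm⟩ : ↥J) = ⟨(m' : G), m'.2.1⟩ := Subtype.ext hmm.symm
    rw [h6]
    exact h5
  -- the core of `M` is trivial in `J / O(J)`
  have hcore : ∀ m (hm : m ∈ core M), (QuotientGroup.mk ⟨m, hMJ (core_le _ hm)⟩ : ↥J ⧸ oddCore ↥J) = 1 := by
    let g : ↥M →* ↥E :=
      { toFun := fun m => ⟨QuotientGroup.mk ⟨m, hMJ m.2⟩, hsub m m.2⟩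
        map_one' := rfl
        map_mul' := fun _ _ => rfl }
    have hg : Function.Surjective g := by
      rintro ⟨e, he⟩
      obtain ⟨m, hm, hme⟩ := himg e he
      exact ⟨⟨m, hm⟩, Subtype.ext hme⟩
    have hno : ((oddCore ↥M).map g).Normal := by
      have h5 : (oddCore ↥M).Normal := Lib.Cores.pPrimeCore_normal 2
      exact h5.map g hg
    have hbot : (oddCore ↥M).map g = ⊥ := by
      rcases hs.eq_bot_or_eq_top_of_normal _ hno with h | h
      · exact h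
      · exfalso
        have h5 : Nat.card ((oddCore ↥M).map g) ∣ Nat.card (oddCore ↥M) := card_map_dvd _ _
        rw [h, card_top] at h5
        have h6 := Lib.Cores.pPrimeCore_coprime (G := ↥M) 2
        exact absurd (Nat.dvd_gcd (h2.trans h5) dvd_rfl) (by
          have h7 : Nat.gcd (Nat.card (oddCore ↥M)) 2 = 1 := h6
          rw [h7]; norm_num)
    intro m hm
    obtain ⟨m', hm', rfl⟩ := hm
    have h5 : g m' ∈ (oddCore ↥M).map g := ⟨m', hm', rfl⟩
    rw [hbot, mem_bot] at h5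
    exact congrArg Subtype.val h5
  refine ⟨M, hMJ, hMH, fun hfix => hy1 ?_⟩
  -- `y'` is central in `E`
  have hcent : ∀ e ∈ E, y' * e = e * y' := by
    intro e he
    obtain ⟨m, hm, rfl⟩ := himg e he
    have h5 := hcore _ (hfix.2 m hm)
    have h6 : act J ⟨y, hyN⟩ (QuotientGroup.mk ⟨m, hMJ hm⟩) = QuotientGroup.mk ⟨m, hMJ hm⟩ := by
      rw [act_mk hyN (hMJ hm), mk_eq_iff]
      have h7 : ⁅y, m⁆ ∈ core J := (mk_eq_one_iff _).mp h5
      have h8 := conj_core (J.inv_mem (conj_mem hyN (hMJ hm))) (inv_mem h7)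
      convert h8 using 1
      rw [commutatorElement_def]
      group
    rw [hact, MulAut.conj_apply, mul_inv_eq_iff_eq_mul] at h6
    exact h6
  have hc : (⟨y', hy'⟩ : ↥E) ∈ center ↥E := by
    rw [mem_center_iff]
    rintro ⟨e, he⟩
    exact Subtype.ext (hcent e he).symm
  rcases hs.eq_bot_or_eq_top_of_normal (center ↥E) inferInstance with h | h
  · rw [h, mem_bot] at hc
    exact congrArg Subtype.val hc
  · exfalso
    obtain ⟨a, ha, b, hb, hab⟩ := hna
    apply hab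
    have h5 : (⟨a, ha⟩ : ↥E) ∈ center ↥E := by rw [h]; trivial
    exact congrArg Subtype.val ((mem_center_iff.mp h5 ⟨b, hb⟩).symm)

end Cfsg.Agent.UGT.N2S
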