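import Cfsg.Agent.UGT.N2S.Pump
import Cfsg.Agent.UGT.N2S.Lift

/-!
# Components of `C(x f)` moved by `O(C_L(x))`

* `solv34`, `kill34`: `y ∈ N`, `(x, w, N)` a triple of type `L₃(4)` on which `e` acts as `x`: there is no 2-component of
  `C(e, w)` moved by `y`.
* `moved_norm`: then `w` normalizes the 2-components of `C(e)` moved by `y`.
* `cent34`, `cent2`: `w` acts on them as `x` if they are of type `L₃(4)`, or `L₂(q)` and `y` is inner.
* `no_share`: a 2-component moved by `b` contains no involution commuting with `b`.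
* `cy`: `C_{Aut L}(x, O(C_L(x)))`.
-/

set_option autoImplicit false

open Cfsg Subgroup
open Cfsg.Agent.SignalizersComponents Cfsg.Agent.Lib
open Cfsg.Agent.SignalizersComponents.IntrinsicBasic
open Cfsg.Agent.SignalizersComponents.PLayerAut
open Cfsg.Agent.Intrinsic.Basic Cfsg.Agent.Intrinsic.Cen Cfsg.Agent.Intrinsic.Diag
open Cfsg.Agent.McLLyComp.Act
open Cfsg.Agent.UGT.Triple Cfsg.Agent.UGT.TriBase Cfsg.Agent.UGT.Res.Base
open Cfsg.Agent.UGT.PumpGen (fixes_of_pump)
open Cfsg.Agent.UGT.Iface (Bar IsL2 IsL34 IsAltOdd)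
open Cfsg.Agent.UGT.LTF.Defs
open Cfsg.Agent.UGT.LTF.Basics (img mem_img img_ne)
open scoped commutatorElement

namespace Cfsg.Agent.UGT.N2S

universe u

section auto

variable {D : Type*} [Group D] {ξ : MulAut D}

/-- `C_{Aut L}(x, O(C_L(x)))` has the involution `x` only -/
theorem cy (F : FT ξ) (F2 : ThEL34.Facts2 ξ) {β : MulAut D} (hβ : β * β = 1) (hc : β * ξ = ξ * β)
    (hy : ∀ y, y ^ 3 = 1 → ξ y = y → β y = y) : β = 1 ∨ β = ξ := by
  have FF := F.toFacts
  obtain ⟨y, z, hy3, hyx, hz3, hzx, hy1, hz1, hyz, hyz'⟩ := F.indep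
  have hne : y⁻¹ ≠ y := by
    intro h
    apply hy1
    have h2 : y * y = 1 := by
      nth_rewrite 1 [← h]
      exact inv_mul_cancel y
    calc y = y ^ 3 * (y * y)⁻¹ := by rw [pow_succ, pow_two]; group
      _ = 1 := by rw [hy3, h2, inv_one, one_mul]
  by_cases hi : ∃ l, β = MulAut.conj l
  · left
    obtain ⟨l, rfl⟩ := hi
    have hxl : ξ l = l := (FF.comm_conj_iff ξ l).mp hc.symm
    rw [← map_mul] at hβ
    have hll := F.cl _ hβ
    by_cases hl : l = 1
    · rw [hl, map_one]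
    · exfalso
      have h1 := F.inv l y hll hl hxl hy3 hyx
      have h2 := hy y hy3 hyx
      rw [MulAut.conj_apply, h1] at h2
      exact hne h2
  by_cases hx : ∃ l, β = ξ * MulAut.conj l
  · right
    obtain ⟨l, rfl⟩ := hx
    have h1 : MulAut.conj l * ξ = ξ * MulAut.conj l := by
      rw [mul_assoc] at hc
      exact mul_left_cancel hc
    have hxl : ξ l = l := (FF.comm_conj_iff ξ l).mp h1.symm
    have hll : l * l = 1 := by
      apply F.cl
      rw [map_mul]
      calc MulAut.conj l * MulAut.conj l = (ξ * ξ) * (MulAut.conj l * MulAut.conj l) := by rw [F.xx, one_mul]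
        _ = ξ * (ξ * MulAut.conj l) * MulAut.conj l := by simp only [mul_assoc]
        _ = ξ * (MulAut.conj l * ξ) * MulAut.conj l := by rw [h1]
        _ = (ξ * MulAut.conj l) * (ξ * MulAut.conj l) := by simp only [mul_assoc]
        _ = 1 := hβ
    by_cases hl : l = 1
    · rw [hl, map_one, mul_one]
    · exfalso
      have h2 := F.inv l y hll hl hxl hy3 hyx
      have h3 := hy y hy3 hyx
      rw [MulAut.mul_apply, MulAut.conj_apply, h2, map_inv, hyx] at h3
      exact hne h3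
  · exfalso
    rcases F2.wone β ⟨hβ, fun l h => hi ⟨l, h⟩, fun l h => hx ⟨l, h⟩⟩ hc y z hy3 hyx (hy y hy3 hyx) hz3 hzx
      (hy z hz3 hzx) with h | h | h | h
    · exact hy1 h
    · exact hz1 h
    · exact hyz h
    · exact hyz' h

/-- a perfect subgroup of a solvable group is trivial -/
theorem eq_bot_of_perfect_solv {A : Type*} [Group A] {P Q : Subgroup A} (hP : ⁅P, P⁆ = P) (hPQ : P ≤ Q)
    (hQ : Group.IsSolvable ↥Q) : P = ⊥ := by
  by_contra hne
  have hs : Group.IsSolvable ↥P := Group.isSolvable_of_isSolvable_injective (inclusion_injective hPQ)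
  have hnt : Nontrivial ↥P := nontrivial_iff_ne_bot P |>.mpr hne
  have h1 := Group.IsSolvable.commutator_lt_top_of_nontrivial ↥P
  apply h1.ne
  apply map_injective P.subtype_injective
  rw [_root_.commutator_def, map_commutator, ← MonoidHom.range_eq_map, range_subtype, hP]

end auto

variable {G : Type u} [Group G] [Finite G] {x a : G} {L : Subgroup G}

/-- `C_{L/O(L)}(x)` is solvable -/
theorem KFs.solv34 (K : KFs.{u}) (T : TT x a L) {M : Subgroup G} (hML : M ≤ L)
    (hfix : ∀ m ∈ M, ⁅x, m⁆ ∈ core L) (hM : ⁅M, M⁆ = M) : M ≤ core L := by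
  obtain ⟨F, F3⟩ := K.ft T
  apply Res.KFacts.le_core_of_image hML
  obtain ⟨P, hP⟩ : ∃ P, P = (M.subgroupOf L).map (QuotientGroup.mk' (oddCore ↥L)) := ⟨_, rfl⟩
  rw [← hP]
  have hPP : ⁅P, P⁆ = P := by rw [hP]; exact Res.KFacts.image_perfect hML hM
  have h1 : P.map (MulAut.conj : Bar L →* _) = ⊥ := by
    refine eq_bot_of_perfect_solv (Q := centralizer ({act L ⟨x, T.x_mem⟩} : Set _)) ?_ ?_ F.solx
    · rw [← map_commutator, hPP]
    · rintro _ ⟨p, hp, rfl⟩
      rw [hP] at hp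
      obtain ⟨⟨m, hmL⟩, hm, rfl⟩ := hp
      rw [mem_centralizer_singleton_iff]
      refine ((F.toFacts.comm_conj_iff _ _).mpr ?_).symm
      change act L ⟨x, T.x_mem⟩ (QuotientGroup.mk ⟨m, hmL⟩) = QuotientGroup.mk ⟨m, hmL⟩
      rw [act_mk T.x_mem hmL, mk_eq_iff]
      have h1 := inv_mem (hfix m hm)
      have h2 : ⁅x, m⁆⁻¹ = m * (x * m * x⁻¹)⁻¹ := by
        rw [commutatorElement_def]; group
      rw [h2] at h1
      have h3 := conj_core (L.inv_mem (conj_mem T.x_mem hmL)) h1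
      convert h3 using 1
      group
  rw [eq_bot_iff]
  intro p hp
  have h2 : MulAut.conj p ∈ P.map (MulAut.conj : Bar L →* _) := ⟨p, hp, rfl⟩
  rw [h1, mem_bot] at h2
  exact F.cl p h2

/-- no 2-component of `C(e, w)` is moved by `y` -/
theorem KFs.kill34 (K : KFs.{u}) {x e w y : G} {M N : Subgroup G} (T : TT x w N)
    (he : e * e = 1) (hew : e * w = w * e) (hye : y ∈ centralizer ({e} : Set G))
    (hyN : y ∈ N) (hact : Fixes (e * x⁻¹) N)
    (hM : IsComp (centralizer ({w} : Set G) ⊓ centralizer ({e} : Set G)) M) : Fixes y M := by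
  by_contra hf
  obtain ⟨N', hN', -, hor⟩ := McLLyComp.PumpT.exists_pump (mem_c hew) he hM
  have hfN' : ¬ Fixes y N' := fun h => hf (fixes_of_pump he hew.symm hM hN' (T.comp.le hyN) hye h (by
    rcases hor with ⟨-, h⟩ | h
    · exact Or.inl h
    · exact Or.inr h))
  have hNN : N' = N := by
    by_contra hne
    exact hfN' (hN'.fixes_of_mem T.comp hne hyN)
  rw [hNN] at hor
  have heN : e ∈ normalizer (N : Set G) := by
    have h1 := mul_mem hact.1 T.x_mem
    rwa [inv_mul_cancel_right] at h1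
  rcases hor with ⟨-, hMN⟩ | ⟨hne, -⟩
  · have h1 : M ≤ core N := by
      refine K.solv34 T hMN (fun m hm => ?_) hM.perfect
      have h2 := (act_eq_iff heN T.x_mem).mpr hact
      have h3 := DFunLike.congr_fun h2 (QuotientGroup.mk ⟨m, hMN hm⟩)
      rw [act_mk heN (hMN hm), act_mk T.x_mem (hMN hm)] at h3
      have h4 := (mk_eq_iff _ _).mp h3
      have h5 : e * m * e⁻¹ = m := by
        rw [← comm_c (hM.le hm).2, mul_inv_cancel_right]
      rw [h5] at h4
      have h6 := conj_mem_core (le_normalizer (hMN hm)) h4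
      convert h6 using 1
      rw [commutatorElement_def]
      group
    exact hM.not_odd (odd_card_core N) h1
  · exact hne (mem_normalizer_iff_cj.mp heN)

/-- `w` normalizes the 2-components of `C(e)` moved by `y` -/
theorem moved_norm {x e w y : G} {J : Subgroup G} (T : IsTriple x e J)
    (hy : y ∈ core (centralizer ({x} : Set G))) (hye : y ∈ centralizer ({e} : Set G))
    (hf : ¬ Fixes y J) (hw2 : w * w = 1) (hwe : w * e = e * w) (hwy : w * y = y * w)
    (hkill : ∀ M, IsComp (centralizer ({e} : Set G) ⊓ centralizer ({w} : Set G)) M → Fixes y M) :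
    w ∈ normalizer (J : Set G) := by
  by_contra hwJ
  have hne : IntrinsicBasic.cj w J ≠ J := fun h => hwJ (mem_normalizer_iff_cj.mpr h)
  have hwH : w ∈ centralizer ({e} : Set G) := mem_c hwe
  obtain ⟨h1, -, -, h4, -⟩ := exists_diag T.comp hwH hw2 hne
  have hyJ := T.mem_normalizer_of_core hy hye
  apply hf
  refine fixes_of_comm_diag T.comp hwH hw2 hne hye hyJ ?_ fun m hm => ?_
  · rw [mem_normalizer_iff_cj, ← cj_mul, ← hwy, cj_mul, mem_normalizer_iff_cj.mp hyJ]
  · have h6 := (hkill _ h1).2 m hm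
    rw [h4] at h6
    exact h6.2

/-- `w` acts as `x` -/
theorem cent_gen {x e w y : G} {J : Subgroup G} (T : IsTriple x e J) (hyJ : y ∈ normalizer (J : Set G))
    {l : Bar J} (hact : act J ⟨y, hyJ⟩ = MulAut.conj l) (hf : ¬ Fixes y J)
    (hw2 : w * w = 1) (hwe : w * e = e * w) (hwJ : w ∈ normalizer (J : Set G))
    (hkill : ∀ M, IsComp (centralizer ({e} : Set G) ⊓ centralizer ({w} : Set G)) M → Fixes y M)
    (h : act J ⟨w, hwJ⟩ = 1 ∨ act J ⟨w, hwJ⟩ = act J ⟨x, T.x_mem⟩ ∨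
      ∃ M : Subgroup (Bar J), (∀ m ∈ M, act J ⟨w, hwJ⟩ m = m) ∧
        (∀ l, act J ⟨w, hwJ⟩ l = l → ∀ m ∈ M, l * m * l⁻¹ ∈ M) ∧
        IsSimpleGroup M ∧ 2 ∣ Nat.card M ∧ (∃ m ∈ M, ∃ m' ∈ M, m * m' ≠ m' * m) ∧ l ∈ M) :
    Fixes (w * x⁻¹) J := by
  rcases h with h | h | ⟨M, h1, h2, h3, h4, h5, h6⟩
  · exfalso
    have hwf := (act_eq_one_iff hwJ).mp h
    obtain ⟨c1, c2⟩ := isComp_cen T.comp (mem_c hwe) hw2 hwf
    have c3 := hkill _ c1
    exact hf ((fixes_iff_of_sup c2 c3.1 hyJ).mp c3)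
  · exact (act_eq_iff hwJ T.x_mem).mp h
  · exfalso
    have hl : l ≠ 1 := by
      rintro rfl
      rw [map_one, act_eq_one_iff] at hact
      exact hf hact
    obtain ⟨M', -, hM', hfM⟩ := exists_moved_comp T.comp hwJ hw2 h1 h2 h3 h4 h5 hyJ h6 hl hact
    exact hfM (hkill M' hM')

theorem KFs.cent34 (K : KFs.{u}) {x e w y : G} {J : Subgroup G} (T : TT x e J)
    (hy : y ∈ core (centralizer ({x} : Set G))) (hye : y ∈ centralizer ({e} : Set G))
    (hf : ¬ Fixes y J) (hw2 : w * w = 1) (hwe : w * e = e * w) (hwx : w * x = x * w) (hwy : w * y = y * w)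
    (hwJ : w ∈ normalizer (J : Set G))
    (hkill : ∀ M, IsComp (centralizer ({e} : Set G) ⊓ centralizer ({w} : Set G)) M → Fixes y M) :
    Fixes (w * x⁻¹) J := by
  obtain ⟨F, F3⟩ := K.ft T
  have FF := F.toFacts
  have hyJ := T.mem_normalizer_of_core hy hye
  obtain ⟨l, hl, hl3, hlx⟩ := F.core _ (oddC' T.toIsTriple) _
    (mem_img.mpr ⟨y, hyJ, hy, comm_c hye, rfl⟩)
  have hl1 : l ≠ 1 := by
    rintro rfl
    rw [map_one, act_eq_one_iff] at hl
    exact hf hl
  have hwl : act J ⟨w, hwJ⟩ l = l := by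
    apply (FF.comm_conj_iff _ _).mp
    rw [← hl]
    exact Res.KFacts.act_comm hwJ hyJ hwy
  have hww : act J ⟨w, hwJ⟩ * act J ⟨w, hwJ⟩ = 1 := LTF.Comp.act_sq hwJ hw2
  have hwξ : act J ⟨w, hwJ⟩ * act J ⟨x, T.x_mem⟩ = act J ⟨x, T.x_mem⟩ * act J ⟨w, hwJ⟩ :=
    Res.KFacts.act_comm hwJ T.x_mem hwx
  refine cent_gen T.toIsTriple hyJ hl hf hw2 hwe hwJ hkill ?_
  obtain ⟨ω, hω⟩ : ∃ ω, ω = act J ⟨w, hwJ⟩ := ⟨_, rfl⟩
  obtain ⟨ξ, hξ⟩ : ∃ ξ, ξ = act J ⟨x, T.x_mem⟩ := ⟨_, rfl⟩
  rw [← hω] at hwl hww hwξ ⊢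
  rw [← hξ] at F F3 FF hlx hwξ ⊢
  have hne : l⁻¹ ≠ l := by
    intro h
    apply hl1
    have h2 : l * l = 1 := by
      nth_rewrite 1 [← h]
      exact inv_mul_cancel l
    calc l = l ^ 3 * (l * l)⁻¹ := by rw [pow_succ, pow_two]; group
      _ = 1 := by rw [hl3, h2, inv_one, one_mul]
  by_cases hi : ∃ s, ω = MulAut.conj s
  · left
    obtain ⟨s, rfl⟩ := hi
    have hxs : ξ s = s := (FF.comm_conj_iff ξ s).mp hwξ.symm
    rw [← map_mul] at hww
    have hss := F.cl _ hww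
    by_cases hs : s = 1
    · rw [hs, map_one]
    · exfalso
      have h1 := F.inv s l hss hs hxs hl3 hlx
      rw [MulAut.conj_apply, h1] at hwl
      exact hne hwl
  by_cases hx : ∃ s, ω = ξ * MulAut.conj s
  · right; left
    obtain ⟨s, rfl⟩ := hx
    have h1 : MulAut.conj s * ξ = ξ * MulAut.conj s := by
      rw [mul_assoc] at hwξ
      exact mul_left_cancel hwξ
    have hxs : ξ s = s := (FF.comm_conj_iff ξ s).mp h1.symm
    have hss : s * s = 1 := by
      apply F.cl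
      rw [map_mul]
      calc MulAut.conj s * MulAut.conj s = (ξ * ξ) * (MulAut.conj s * MulAut.conj s) := by rw [F.xx, one_mul]
        _ = ξ * (ξ * MulAut.conj s) * MulAut.conj s := by simp only [mul_assoc]
        _ = ξ * (MulAut.conj s * ξ) * MulAut.conj s := by rw [h1]
        _ = (ξ * MulAut.conj s) * (ξ * MulAut.conj s) := by simp only [mul_assoc]
        _ = 1 := hww
    by_cases hs : s = 1
    · rw [hs, map_one, mul_one]
    · exfalso
      have h2 := F.inv s l hss hs hxs hl3 hlx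
      rw [MulAut.mul_apply, MulAut.conj_apply, h2, map_inv, hlx] at hwl
      exact hne hwl
  · right; right
    have hW : ThEL34.Wild ξ ω := ⟨hww, fun l h => hi ⟨l, h⟩, fun l h => hx ⟨l, h⟩⟩
    refine ⟨ThEL34.fx ω, fun m hm => hm, fun r hr m hm => ?_, F.wsimp ω hW, F.weven ω hW, ?_, hwl⟩
    · rw [ThEL34.mem_fx, map_mul, map_mul, map_inv, hr, ThEL34.mem_fx.mp hm]
    · by_contra hcon
      push Not at hcon
      have hp := F.wperf ω hW
      have hs := F.wsimp ω hW
      have h1 : commutator (ThEL34.fx ω) = ⊥ := by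
        rw [commutator_def, commutator_eq_bot_iff_le_centralizer]
        intro p _
        rw [mem_centralizer_iff]
        intro q _
        exact Subtype.ext (hcon q q.2 p p.2)
      rw [h1] at hp
      have := hs.toNontrivial
      exact absurd hp bot_ne_top

theorem KFs.cent2 (K : KFs.{u}) {x e w y : G} {J : Subgroup G} (T : IsTriple x e J) (h2 : IsL2 (Bar J))
    (hy : y ∈ core (centralizer ({x} : Set G))) (hye : y ∈ centralizer ({e} : Set G))
    (hf : ¬ Fixes y J) (hy3 : y ^ 3 = 1) {l : Bar J}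
    (hl : act J ⟨y, T.mem_normalizer_of_core hy hye⟩ = MulAut.conj l)
    (hw2 : w * w = 1) (hwe : w * e = e * w) (hwx : w * x = x * w) (hwy : w * y = y * w)
    (hwJ : w ∈ normalizer (J : Set G))
    (hkill : ∀ M, IsComp (centralizer ({e} : Set G) ⊓ centralizer ({w} : Set G)) M → Fixes y M) :
    Fixes (w * x⁻¹) J := by
  have hZ := K.k2.cen _ h2
  have hyJ := T.mem_normalizer_of_core hy hye
  have hinj : ∀ z : Bar J, MulAut.conj z = 1 → z = 1 := by
    intro z hz
    apply hZ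
    intro d
    have h1 := DFunLike.congr_fun hz d
    rw [MulAut.conj_apply, MulAut.one_apply, mul_inv_eq_iff_eq_mul] at h1
    exact h1
  have hl1 : l ≠ 1 := by
    rintro rfl
    rw [map_one, act_eq_one_iff] at hl
    exact hf hl
  have hl3 : l ^ 3 = 1 := by
    apply hinj
    rw [map_pow, ← hl, ← map_pow]
    have h3 : (⟨y, hyJ⟩ : ↥(normalizer (J : Set G))) ^ 3 = 1 := Subtype.ext hy3
    rw [h3, map_one]
  have hwl : act J ⟨w, hwJ⟩ l = l := by
    have h1 := Res.KFacts.act_comm hwJ hyJ hwy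
    rw [hl] at h1
    have h2 : act J ⟨w, hwJ⟩ * MulAut.conj l * (act J ⟨w, hwJ⟩)⁻¹ = MulAut.conj l := by
      rw [h1, mul_inv_cancel_right]
    rw [ThEL34.conj_conj] at h2
    have h3 : MulAut.conj (act J ⟨w, hwJ⟩ l * l⁻¹) = 1 := by
      rw [map_mul, h2, map_inv, mul_inv_cancel]
    exact mul_inv_eq_one.mp (hinj _ h3)
  refine cent_gen T hyJ hl hf hw2 hwe hwJ hkill ?_
  exact K.k2.cent _ h2 _ (Res.KFacts.act_sq T) _ (oddC' T) l hl3 hl1
    (hl ▸ mem_img.mpr ⟨y, hyJ, hy, comm_c hye, rfl⟩) _ (LTF.Comp.act_sq hwJ hw2)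
    (Res.KFacts.act_comm hwJ T.x_mem hwx) hwl

/-- a 2-component moved by `b` contains no involution commuting with `b` -/
theorem KFs.no_share (K : KFs.{u}) (W : Typ G) {x e b v : G} {J : Subgroup G} (T : IsTriple x e J)
    (hb : b ∈ centralizer ({e} : Set G)) (hbJ : b ∉ normalizer (J : Set G)) (hv : v ∈ J)
    (hv2 : orderOf v = 2) (hbv : b * v = v * b) : False := by
  have hne : J ≠ cj b J := fun h => hbJ (mem_normalizer_iff_cj.mpr h.symm)
  have hJ' := isComp_cj_of_mem T.comp hb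
  have hv' : v ∈ cj b J := by
    have h1 : b * v * b⁻¹ ∈ cj b J := conj_mem_cj hv
    rwa [hbv, mul_inv_cancel_right] at h1
  have hfix := T.comp.fixes_of_mem hJ' hne hv'
  have h1 : (QuotientGroup.mk ⟨v, hv⟩ : Bar J) = 1 := by
    apply K.center W T
    intro d
    obtain ⟨⟨j, hj⟩, rfl⟩ := QuotientGroup.mk_surjective d
    have h2 := hfix.2 j hj
    have h3 : (QuotientGroup.mk (⟨⁅v, j⁆, (core_le J h2)⟩ : ↥J) : Bar J) = 1 := (mk_eq_one_iff _).mpr h2
    have h4 : (QuotientGroup.mk (⟨⁅v, j⁆, (core_le J h2)⟩ : ↥J) : Bar J) =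
        QuotientGroup.mk ⟨v, hv⟩ * QuotientGroup.mk ⟨j, hj⟩ * (QuotientGroup.mk ⟨v, hv⟩)⁻¹ *
          (QuotientGroup.mk ⟨j, hj⟩)⁻¹ := rfl
    rw [h4, mul_inv_eq_one, mul_inv_eq_iff_eq_mul] at h3
    exact h3
  exact ne_one_of_order hv2 (eq_one_of_mem_core_sq ((mk_eq_one_iff hv).mp h1) (sq_of_order hv2))

end Cfsg.Agent.UGT.N2S
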