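import Cfsg.Agent.UGT.LTF.Defs
import Cfsg.Agent.UGT.CE.L34

/-!
# K-facts for the supply in the world `L₂(q)`, `Aₙ`, `L₃(4)` (node N2, `m(C_K(x)) ≥ 2`)

* `K34`: a triple of type `L₃(4)`: `x` is a unitary polarity, all facts.
* `K2`: facts on `L₂(q)`, `q ≥ 5` odd.
* `KA`: facts on `Aₙ`, `n ≥ 7` odd.
-/

set_option autoImplicit false

open Cfsg Subgroup
open Cfsg.Agent.UGT.Iface (Bar IsL2 IsL34 IsAltOdd)
open Cfsg.Agent.UGT.LTF.Defs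

namespace Cfsg.Agent.UGT.N2S

universe u

/-- facts on `L₃(4)` -/
def K34 : Prop := ∀ (D : Type u) [Group D], IsL34 D →
  ∀ ξ : MulAut D, ξ * ξ = 1 → ∀ E, OddC ξ E → E ≠ ⊥ → FT ξ ∧ CE.L34.Facts3 ξ

/-- facts on `L₂(q)`, `q ≥ 5` odd -/
structure K2 : Prop where
  cen : ∀ (D : Type u) [Group D], IsL2 D → ∀ z : D, (∀ d, z * d = d * z) → z = 1
  /-- 2-rank 2 -/
  rank : ∀ (D : Type u) [Group D], IsL2 D → ∀ A : Subgroup D, (∀ a ∈ A, a * a = 1) → Nat.card A ≤ 4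
  /-- `Out D` has no elements of order 3 inverted by something -/
  out : ∀ (D : Type u) [Group D], IsL2 D → ∀ α β : MulAut D, β ^ 3 = 1 → α * β * α⁻¹ = β⁻¹ →
    ∃ l, β = MulAut.conj l
  /-- an involution `ω` commuting with `ξ` and with `b ∈ O(C_D(ξ))` of order 3 is `ξ` or of field type -/
  cent : ∀ (D : Type u) [Group D], IsL2 D → ∀ ξ : MulAut D, ξ * ξ = 1 → ∀ E, OddC ξ E →
    ∀ b : D, b ^ 3 = 1 → b ≠ 1 → MulAut.conj b ∈ E →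
    ∀ ω : MulAut D, ω * ω = 1 → ω * ξ = ξ * ω → ω b = b → ω = 1 ∨ ω = ξ ∨
      ∃ M : Subgroup D, (∀ m ∈ M, ω m = m) ∧ (∀ l, ω l = l → ∀ m ∈ M, l * m * l⁻¹ ∈ M) ∧
        IsSimpleGroup M ∧ 2 ∣ Nat.card M ∧ (∃ m ∈ M, ∃ m' ∈ M, m * m' ≠ m' * m) ∧ b ∈ M

/-- facts on `Aₙ`, `n ≥ 7` odd -/
def KA : Prop := ∀ (D : Type u) [Group D], IsAltOdd D →
  ∀ ξ : MulAut D, ξ * ξ = 1 → ∀ E, OddC ξ E → E ≠ ⊥ →
    Nat.card E = 3 ∧ ∀ C : Subgroup D, (∀ c, c ∈ C ↔ ∀ ε ∈ E, ε c = c) → 2 ∣ Nat.card C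

/-- `L₃(4)` contains an elementary abelian group of order 8 -/
def K34E : Prop := ∀ (D : Type u) [Group D], IsL34 D →
  ∃ A : Subgroup D, Nat.card A = 8 ∧ ∀ a ∈ A, a * a = 1

end Cfsg.Agent.UGT.N2S
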