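import Cfsg.Agent.UGT.N2S.Hon
import Cfsg.Agent.UGT.N2S.OneGlue
import Cfsg.Agent.UGT.ThEP.OfQ
import Cfsg.Agent.UGT.L34.Dich
import Cfsg.Agent.UGT.Res.Setup

/-!
# `L₃(4)`, `x ∉ X`: rank at least two

* `exists_hon34`: a triple `(x, a, L)` of type `L₃(4)` and a second involution of `C(a) ∩ C(x)` fixing `L` give
  `Hon34 X x L'`.
* `pout`: the input of Theorem E (`ThEP.POut`).
* `world_out`: the world `World (F*(G))` in a minimal counterexample.
* `false_out`: **no triple of type `L₃(4)` with `x ∉ F*(G)`, rank at least two**.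
-/

set_option autoImplicit false

open Cfsg Subgroup
open Cfsg.Agent.SignalizersComponents Cfsg.Agent.Lib
open Cfsg.Agent.SignalizersComponents.IntrinsicBasic
open Cfsg.Agent.Intrinsic.Basic Cfsg.Agent.Intrinsic.Cen Cfsg.Agent.Intrinsic.Diag
open Cfsg.Agent.McLLyComp.Act
open Cfsg.Agent.FixBN.BTheorem Cfsg.Agent.FixBN.BRelative
open Cfsg.Agent.UGT.Triple Cfsg.Agent.UGT.TriBase Cfsg.Agent.UGT.Res.Base
open Cfsg.Agent.UGT.Iface (Bar IsL2 IsL34 IsAltOdd MinCex)
open Cfsg.Agent.UGT.ThE.Base (IsT comm_of_mem)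
open Cfsg.Agent.UGT.Res.Hon (CFX)
open scoped commutatorElement

namespace Cfsg.Agent.UGT.N2S

universe u

local notation "Fs" => generalizedFittingSubgroup

variable {G : Type u} [Group G] [Finite G] {x a : G} {L X : Subgroup G}

/-- the honest configuration from a second involution -/
theorem exists_hon34 (W : World X) (K : KFs.{u}) (T : TT x a L) {c : G}
    (hc : orderOf c = 2) (hne : c ≠ a) (hca : c * a = a * c) (hcx : c * x = x * c)
    (hcL : Fixes c L) : ∃ L', Hon34 X x L' := by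
  have haL : Fixes a L := fixes_of_comm (mem_K T.toIsTriple)
  have key : ∀ w : G, w ∈ X → orderOf w = 2 → w * a = a * w → w * x = x * w → w * c = c * w →
      Fixes w L → ∃ L', Hon34 X x L' := by
    intro w hwX hw hwa hwx hwc hwL
    obtain ⟨N, hN, h34, hor⟩ := pump34 K W.typ T.toIsTriple T.l34 hw hwa hwx hwL
    have hN34 : TT x w N := ⟨hN, h34⟩
    have hcore := W.core_bot hN hwX
    rcases hor with ⟨-, h2, h3⟩ | ⟨h1, -⟩
    · have hTr : Triv x L w N := ⟨hN, h2, h3⟩
      have h1 := comm_of_fixes hcore (hTr.fixes T.toIsTriple hwa hwL hwa.symm haL)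
      have h2 := comm_of_fixes hcore (hTr.fixes T.toIsTriple hwa hwL hwc.symm hcL)
      exact ⟨N, hon_of W K hN34 hwX ⟨a, c, ⟨h1, T.comm, sq_of_order T.inva, ne_one_of_order T.inva⟩,
        ⟨h2, hcx, sq_of_order hc, ne_one_of_order hc⟩, hne.symm, hca.symm⟩⟩
    · exact absurd (mem_normalizer_iff_cj.mp (W.norm hN34 T.comm hwa.symm)) h1
  by_cases haX : a ∈ X
  · exact key a haX T.inva rfl T.comm hca.symm haL
  by_cases hcX : c ∈ X
  · exact key c hcX hc hca hcx rfl hcL
  have h1 : Commute c a := hca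
  refine key (c * a) (W.mul hcX haX) (order_mul (sq_of_order hc) (sq_of_order T.inva) hca hne)
    (h1.mul_left (Commute.refl a)).eq ((show Commute c x from hcx).mul_left T.comm).eq
    ((Commute.refl c).mul_left h1.symm).eq (Cfsg.Agent.McLLyComp.Act.fixes_mul hcL haL)

theorem Hon34.comp (h : Hon34 X x L) (W : World X) : (∃ a : G, TT x a L) ∧ core L = ⊥ := by
  obtain ⟨t, -, ht, -⟩ := h.four
  obtain ⟨h1, T⟩ := h.good ht
  exact ⟨⟨t, T⟩, W.core_bot T.toIsTriple h1⟩

theorem Hon34.twinHyp (W : World X) (K : KFs.{u}) (h : Hon34 X x L) : Blk.Twin.Hyp L x := by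
  obtain ⟨⟨a, T⟩, hc⟩ := h.comp W
  obtain ⟨ξ, hξ, F, F3⟩ := K.honest T hc
  obtain ⟨b, hb, hb2, hbx⟩ := K.exists_b T hc
  exact
    { sp := ⟨F.simp, T.comp.perfect⟩
      even := ⟨b, hb, hb2⟩
      conj2 := fun t ht u hu ht2 hu2 => OneOut.conj34 T.l34 hc ht hu ht2 hu2
      two := isPGroup_of_sq (sq_of_order h.ox)
      mem := hξ.mem
      cmp := fun t ht ht2 htx =>
        Res.TwoSup.cmp_of_isComp (h.good ⟨ht, htx, sq_of_order ht2, ne_one_of_order ht2⟩).2.comp }

/-- **the input of Theorem E** -/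
theorem pin (W : World X) (K : KFs.{u}) (nr : NoRel G) (h : Hon34 X x L) :
    ThEP.PIn (fun t : G => core (centralizer ({t} : Set G))) L (fun e => Hon34 X e L) x where
  toQGrp := qgrp W K nr L
  Bx := h
  l34 := by
    obtain ⟨⟨a, T⟩, hc⟩ := h.comp W
    exact isL34_self T hc
  rk t ht := h.partner ht
  cmp2 t t' g ht ht' hg := by
    obtain ⟨h1, T⟩ := h.good ht
    obtain ⟨h2, T'⟩ := h.good ht'
    have hJ : IsComp (centralizer ({t'} : Set G)) (cj g L) := by
      have := (T.cj g).comp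
      rwa [hg] at this
    by_cases hne : cj g L = L
    · exact Or.inl (mem_normalizer_iff_cj.mpr hne)
    · right
      intro l hl
      rw [mem_centralizer_iff]
      intro m hm
      exact (comm_of_ne hJ T'.comp (W.cf h2 T'.inva) hne ⟨l, hl, rfl⟩ hm).symm
  twin g hg hc := by
    obtain ⟨⟨a, T⟩, hcore⟩ := h.comp W
    refine (h.twinHyp W K).twin (fun k hk => ?_) g hg hc
    exact nr ⟨x, a, T, hcore⟩ ⟨_, _, T.cj k, by rw [core_cj, hcore, cj, Subgroup.map_bot]⟩ hk

omit [Finite G] in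
/-- no `~`-pairs: no pairs -/
theorem NoRel.noPair (nr : NoRel G) (x e : G) (N N' : Subgroup G) :
    ¬ Res.TwoPair.Pair OneOut.Q34 x e N N' := fun P =>
  nr ⟨x, e, ⟨P.T.toIsTriple, P.T.q⟩, P.bot⟩ ⟨x, e, ⟨P.T'.toIsTriple, P.T'.q⟩, P.bot'⟩ (Res.TwoSup.Pair.rel P)

/-- `|G : F*(G)| ≤ 2`, `F*(G)` core-free -/
theorem cfx_out (hG : MinCex G) (K : KFs.{u}) (T : TT x a L) (hx : x ∉ Fs G) : CFX (Fs G) := by
  have hd : (∀ g, g ∈ Fs G ∨ x * g ∈ Fs G) ∧
      ∀ u ∈ Fs G, orderOf u = 2 → core (centralizer ({u} : Set G)) = ⊥ := by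
    rcases LSup.dichotomy34 (fun D _ hD ξ h E hE h1 => (K.k34 D hD ξ h E hE h1).1) hG T.toIsTriple T.l34 with
      h | h
    · exact absurd (h ▸ mem_top x) hx
    · exact h.2
  have hn : (Fs G).Normal := Trich.normal_fs
  refine ⟨fun {g h} hg hh => ?_, fun {t} ht h2 => hd.2 t ht h2⟩
  have hxx := sq_of_order T.invx
  have hxi : x⁻¹ = x := inv_eq_of_mul_eq_one_left hxx
  have h1 := (hd.1 g).resolve_left hg
  have h2 := (hd.1 h).resolve_left hh
  have h3 := hn.conj_mem _ h1 x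
  have h4 : g * h = (x * (x * g) * x⁻¹) * (x * h) := by
    rw [hxi]
    calc g * h = (x * x) * g * (x * x) * h := by rw [hxx, one_mul, mul_one]
      _ = _ := by group
  rw [h4]
  exact mul_mem h3 h2

/-- the world of a minimal counterexample with `x ∉ F*(G)` -/
theorem world_out (hG : MinCex G) (hk : Known.{u}) (K : KFs.{u}) (W : Typ G) (T : TT x a L)
    (hx : x ∉ Fs G) (nr : NoRel G) : World (Fs G) :=
  have C := cfx_out hG K T hx
  OneGlue.world_of_noPair K W (fun _ hv => Res.Setup.hasB hG hk C.mul hv) C nr.noPair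

/-- **no triple of type `L₃(4)` with `x ∉ F*(G)`, rank at least two** -/
theorem false_out (hG : MinCex G) (hk : Known.{u}) (K : KFs.{u}) (W : Typ G) (nr : NoRel G)
    (T : IsTriple x a L) (h34 : IsL34 (Bar L)) (hx : x ∉ Fs G) {c : G} (hc : orderOf c = 2) (hne : c ≠ a)
    (hca : c * a = a * c) (hcx : c * x = x * c) (hcL : Fixes c L) : False := by
  have W' := world_out hG hk K W ⟨T, h34⟩ hx nr
  obtain ⟨L', h⟩ := exists_hon34 W' K ⟨T, h34⟩ hc hne hca hcx hcL
  obtain ⟨⟨a', T'⟩, hcore⟩ := h.comp W'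
  exact ThEP.POut.false_of (S := Fs G)
    { toPIn := pin W' K nr h
      SN := Trich.normal_fs
      simS := hG.simple
      xS := hx
      LS := U2.TypeOf.le_fs hG T'.toIsTriple
      tS := fun t ht => (h.good ht).1 }

end Cfsg.Agent.UGT.N2S
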