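import Cfsg.Agent.UGT.N2S.OneGlue
import Cfsg.Agent.UGT.Blk.TopEnd

/-!
# `~`-pairs of type `L₃(4)`: the input of the block files

* `Mem34 L`: `(x, a, L)` is a triple of type `L₃(4)`, `O(L) = 1`. `Mem34.t2`: `BL.T2 L`.
* `Mems34 SS`: the hypotheses on `SS`; `Mems34.base : Blk.Base SS`; `Mems34.sys : BL.Sys SS` if commuting involutions
  are in commuting members (`Ad SS`).
* `false_of_pair34`, `world_of_ad`: no `TwoPair.Pair Q34 x e N N'`.
-/

set_option autoImplicit false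

open Cfsg Subgroup
open Cfsg.Agent.SignalizersComponents
open Cfsg.Agent.SignalizersComponents.IntrinsicBasic
open Cfsg.Agent.Intrinsic.Basic
open Cfsg.Agent.McLLyComp.Act
open Cfsg.Agent.UGT.Triple Cfsg.Agent.UGT.TriBase
open Cfsg.Agent.UGT.Iface (Bar IsL34)
open Cfsg.Agent.UGT.LTF.Defs (FT)
open Cfsg.Agent.UGT.Res.Hon (CFX)
open Cfsg.Agent.UGT.N2S.OneOut
open Cfsg.Agent.UGT.Blk (Rel Base)
open Cfsg.Agent.UGT.BL (T2 Iv Cm)
open Cfsg.Agent.LThreeFour (Dat)
open Cfsg.Agent.SporadicA.FieldFour (F4)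

namespace Cfsg.Agent.UGT.N2S.PairBase

universe u

section facts

variable {D : Type*} [Group D]

/-- a perfect subgroup of a solvable subgroup is trivial -/
theorem bot_of_solv {C J : Subgroup D} (hC : Group.IsSolvable ↥C) (hJC : J ≤ C) (hJ : J ≤ ⁅J, J⁆) : J = ⊥ := by
  obtain ⟨n, hn⟩ := hC.solvable
  have h1 : ∀ k : ℕ, J ≤ (derivedSeries ↥C k).map C.subtype := by
    intro k
    induction k with
    | zero =>
      rw [derivedSeries_zero, ← MonoidHom.range_eq_map, Subgroup.range_subtype]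
      exact hJC
    | succ k ih =>
      rw [derivedSeries_succ, map_commutator]
      exact hJ.trans (commutator_mono ih ih)
  have h2 := h1 n
  rw [hn, Subgroup.map_bot] at h2
  exact le_bot_iff.mp h2

theorem t2_of_ft {ξ : MulAut D} (F : FT ξ) (A : Dat D) : T2 D where
  sim := F.simp
  nab h := by
    have := F.simp
    obtain ⟨x, hx⟩ := exists_ne (1 : D)
    apply hx
    apply F.cl
    ext y
    rw [MulAut.conj_apply, MulAut.one_apply, h x y, mul_inv_cancel_right]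
  inv := ⟨A.x 0 2 1, A.x_sq 0 2 (by decide) 1, fun h => by
    rw [← A.el_x02, A.el_eq_one] at h
    exact absurd (congrArg (fun p => p.c) h) (by decide)⟩
  four t h1 h2 := four_of A h1 h2
  solv J t h1 h2 hJ hf := by
    refine bot_of_solv (F.sols t h1 h2) (fun β hβ => ?_) hJ
    rw [mem_centralizer_singleton_iff]
    ext y
    simp only [MulAut.mul_apply, MulAut.conj_apply, map_mul, map_inv, hf β hβ]

end facts

variable {G : Type u} [Group G]

/-- a triple component of type `L₃(4)` with trivial core -/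
def Mem34 (L : Subgroup G) : Prop := ∃ x a : G, TT x a L ∧ core L = ⊥

theorem Mem34.cj {L : Subgroup G} (h : Mem34 L) (g : G) : Mem34 (IntrinsicBasic.cj g L) := by
  obtain ⟨x, a, T, hc⟩ := h
  exact ⟨_, _, T.cj g, by rw [core_cj, hc, IntrinsicBasic.cj, Subgroup.map_bot]⟩

theorem Mem34.dat {L : Subgroup G} (h : Mem34 L) : Nonempty (Dat ↥L) := by
  obtain ⟨x, a, T, hc⟩ := h
  exact LSup.exists_dat (isL34_self T hc)

variable [Finite G]

theorem Mem34.t2 {L : Subgroup G} (h : Mem34 L) : T2 ↥L := by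
  obtain ⟨A⟩ := h.dat
  obtain ⟨x, a, T, hc⟩ := h
  obtain ⟨ξ, -, F, -⟩ := OneGlue.kfs.honest T hc
  exact t2_of_ft F A

/-- the hypotheses -/
structure Mems34 (SS : Set (Subgroup G)) : Prop where
  cj : ∀ L ∈ SS, ∀ g : G, IntrinsicBasic.cj g L ∈ SS
  part : ∀ L ∈ SS, ∃ P ∈ SS, Rel ⊤ L P
  mem : ∀ L ∈ SS, Mem34 L

/-- members with commuting involutions commute -/
def Ad (SS : Set (Subgroup G)) : Prop :=
  ∀ L ∈ SS, ∀ K ∈ SS, ∀ t u, Iv L t → Iv K u → t * u = u * t → L = K ∨ Cm L K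

variable {SS : Set (Subgroup G)}

theorem Mems34.base (M : Mems34 SS) : Base SS where
  cj_mem := M.cj
  simple L hL := (M.mem L hL).t2.sim
  perfect L hL := by
    obtain ⟨x, a, T, -⟩ := M.mem L hL
    exact T.comp.perfect
  even L hL := by
    obtain ⟨t, ht⟩ := (M.mem L hL).t2.exists_iv
    exact ⟨t, ht.mem, ht.ord⟩
  conj2 L hL t ht u hu hto huo := by
    obtain ⟨A⟩ := (M.mem L hL).dat
    obtain ⟨g, hg⟩ := cls_of A (y := ⟨t, ht⟩) (z := ⟨u, hu⟩) (Subtype.ext (sq_of_order hto))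
      (fun h => ne_one_of_order hto (congrArg Subtype.val h)) (Subtype.ext (sq_of_order huo))
      (fun h => ne_one_of_order huo (congrArg Subtype.val h))
    exact ⟨g, g.2, congrArg Subtype.val hg⟩
  solv L hL t ht hto D hD hn hc := by
    have h1 := (M.mem L hL).t2.cm_of_perfect hD.ge hn ⟨ht, sq_of_order hto, ne_one_of_order hto⟩ hc
    exact BL.cm_iff.1 h1
  part := M.part

/-- the input of Theorem BL -/
theorem Mems34.sys (M : Mems34 SS) (hne : SS.Nonempty) (ad : Ad SS) : BL.Sys SS where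
  conj g L hL := M.cj L hL g
  ne := hne
  ty L hL := (M.mem L hL).t2
  b1 L hL t ht c hc := M.base.cenle hL ht.mem ht.ord (mem_c hc)
  ad := ad
  m L hL := by
    obtain ⟨K, hK, h1⟩ := M.part L hL
    exact ⟨K, hK, BL.P.of_rel h1⟩

omit [Finite G] in
theorem mems_of_pair {L P : Subgroup G} (h : Rel ⊤ L P) (hL : Mem34 L) (hP : Mem34 P) :
    Mems34 (Blk.Top.SS₂ L P) := by
  refine ⟨?_, ?_, ?_⟩
  · rintro K ⟨g, hg⟩ k
    refine ⟨k * g, ?_⟩
    rcases hg with rfl | rfl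
    · left; rw [cj_mul]
    · right; rw [cj_mul]
  · rintro K ⟨g, rfl | rfl⟩
    · exact ⟨_, ⟨g, Or.inr rfl⟩, h.cj g⟩
    · exact ⟨_, ⟨g, Or.inl rfl⟩, (h.cj g).symm⟩
  · rintro K ⟨g, rfl | rfl⟩
    · exact hL.cj g
    · exact hP.cj g

section final

variable {X : Subgroup G} (hX : IsSimpleGroup ↥X) (h2 : ∀ {g h : G}, g ∉ X → h ∉ X → g * h ∈ X)
  (hA : ∀ SS : Set (Subgroup G), Mems34 SS → Ad SS)

include hX h2 hA

theorem false_of_rel34 {L P : Subgroup G} (h : Rel ⊤ L P) (hL : Mem34 L) (hP : Mem34 P) : False := by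
  have hle : ∀ {L : Subgroup G}, Mem34 L → L ≤ X := by
    rintro L ⟨x, a, T, -⟩
    exact Blk.le_of_two T.comp.perfect fun x _ y _ hx hy => h2 hx hy
  have M := mems_of_pair h hL hP
  exact Blk.TopEnd.false_of_sys hX (M.sys ⟨L, 1, Or.inl (cj_one L).symm⟩ (hA _ M))
    ⟨1, Or.inl (cj_one L).symm⟩ ⟨1, Or.inr (cj_one P).symm⟩ (BL.P.of_rel h) (hle hL) (hle hP)

/-- **no `~`-pair of type `L₃(4)`** -/
theorem false_of_pair34 (x e : G) (N N' : Subgroup G) : ¬ Res.TwoPair.Pair Q34 x e N N' := fun P =>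
  false_of_rel34 hX h2 hA (Res.TwoSup.Pair.rel P) ⟨x, e, ⟨P.T.toIsTriple, P.T.q⟩, P.bot⟩
    ⟨x, e, ⟨P.T'.toIsTriple, P.T'.q⟩, P.bot'⟩

omit h2 in
/-- **the world** -/
theorem world_of_ad (W : Typ G)
    (hB : ∀ v : G, orderOf v = 2 → HasBProperty ↥(centralizer ({v} : Set G))) (C : CFX X) : World X :=
  OneGlue.world_of_noPair OneGlue.kfs W hB C (false_of_pair34 hX C.mul hA)

end final

end Cfsg.Agent.UGT.N2S.PairBase
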